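import Cfsg.Prelude.Def_Spor_ON
import Cfsg.Prelude.Def_ClassificationK

/-!
# A standard subgroup 4.L3(4): the facts wanted from the finite models

`IsFour L` says that `L` is a perfect central extension of PSL(3,4) by a cyclic group of order 4. `LFacts` are
facts on such a group alone, `AutFacts` on its automorphisms, `ExtFacts` on a group `H` containing it with index
two and no more centraliser.
-/

set_option autoImplicit false

namespace CfsgLib.StdON

variable (L : Type*) [Group L]

/-- A perfect group with cyclic centre of order 4 and central quotient PSL(3,4). -/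
def IsFour : Prop :=
  commutator L = ⊤ ∧ IsCyclic (Subgroup.center L) ∧ Nat.card (Subgroup.center L) = 4 ∧
    ∃ (F : Type) (_ : Field F) (_ : Fintype F), Fintype.card F = 4 ∧
      Nonempty (L ⧸ Subgroup.center L ≃* Matrix.ProjectiveSpecialLinearGroup (Fin 3) F)

variable {L}

/-- An involution outside the centre. -/
def Inner (s : L) : Prop := s * s = 1 ∧ s ∉ Subgroup.center L

/-- The elements commuting with `s`. -/
def cent (s : L) : Subgroup L := Subgroup.centralizer ({s} : Set L)

/-- The subgroup generated by the squares of the elements commuting with `s`. -/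
def centSquares (s : L) : Subgroup L := Subgroup.closure ((fun c => c * c) '' (cent s : Set L))

/-- The subgroup generated by the involutions commuting with `s`. -/
def centOmega (s : L) : Subgroup L := Subgroup.closure {c | c ∈ cent s ∧ c * c = 1}

/-- Facts on `L` alone. -/
structure LFacts (L : Type*) [Group L] : Prop where
  /-- an element with square in the centre is central or a central multiple of an inner involution -/
  lift : ∀ l : L, l * l ∈ Subgroup.center L → l ∈ Subgroup.center L ∨ ∃ c ∈ Subgroup.center L, Inner (l * c)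
  /-- inner involutions are conjugate -/
  one_class : ∀ s s' : L, Inner s → Inner s' → ∃ g : L, g * s * g⁻¹ = s'
  /-- the centraliser has order 128 -/
  card_cent : ∀ s : L, Inner s → Nat.card (cent s) = 128
  /-- the involution is a product of squares in its centraliser -/
  mem_squares : ∀ s : L, Inner s → s ∈ centSquares s
  /-- the centre of the centraliser is the centre with `s` -/
  centre_cent : ∀ s : L, Inner s → ∀ u : L, (∀ c ∈ cent s, u * c = c * u) →
    u ∈ Subgroup.center L ∨ u * s ∈ Subgroup.center L
  /-- the numbers of square and fourth roots of the central involution and of `s` -/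
  root_values : ∀ s : L, Inner s → ∀ z ∈ Subgroup.center L, z ≠ 1 → z * z = 1 →
    {v : L | v ∈ cent s ∧ v * v = z}.ncard = 24 ∧ {v : L | v ∈ cent s ∧ v * v = s}.ncard = 8 ∧
    {v : L | v ∈ cent s ∧ v * v * (v * v) = z}.ncard = 32 ∧ {v : L | v ∈ cent s ∧ v * v * (v * v) = s}.ncard = 0
  /-- fourth powers in the centraliser are central -/
  exp_four : ∀ s : L, Inner s → ∀ l ∈ cent s, l * l * (l * l) ∈ Subgroup.center L
  /-- no square root of a generator of the centre times `s` is centralised up to `s` by the centraliser -/
  no_root : ∀ s : L, Inner s → ∀ ζ : L, ζ ∈ Subgroup.center L → ζ * ζ ≠ 1 → ∀ l ∈ cent s, l * l = ζ * s →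
    ∃ c ∈ cent s, l⁻¹ * c⁻¹ * l * c ≠ 1 ∧ l⁻¹ * c⁻¹ * l * c ≠ s
  /-- the centraliser distinguishes the central involution and `s` by square roots -/
  roots_cent : ∀ s : L, Inner s → ∀ z ∈ Subgroup.center L, z ≠ 1 → z * z = 1 →
    {v : L | v ∈ cent s ∧ v * v = z}.ncard ≠ {v : L | v ∈ cent s ∧ v * v = s}.ncard
  /-- so does the subgroup generated by its involutions -/
  roots_omega : ∀ s : L, Inner s → ∀ z ∈ Subgroup.center L, z ≠ 1 → z * z = 1 →
    {v : L | v ∈ centOmega s ∧ v * v = z}.ncard ≠ {v : L | v ∈ centOmega s ∧ v * v = s}.ncard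

/-- An automorphism is inner. -/
def IsInnerAut (φ : MulAut L) : Prop := ∃ l : L, φ = MulAut.conj l

/-- Facts on automorphisms. -/
structure AutFacts (L : Type*) [Group L] : Prop where
  /-- squares of automorphisms are inner -/
  sq_inner : ∀ φ : MulAut L, IsInnerAut (φ * φ)
  /-- at most four classes modulo inner automorphisms -/
  four : ∀ φ : Fin 5 → MulAut L, ∃ i j, i ≠ j ∧ IsInnerAut ((φ i)⁻¹ * φ j)

/-- `H` is an extension of `N ≅ 4.L3(4)` of index two with centralising part inside. -/
def IsExt {H : Type*} [Group H] (N : Subgroup H) : Prop :=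
  IsFour N ∧ N.index = 2 ∧ Subgroup.centralizer (N : Set H) ≤ N

/-- An inner involution is the square of an element whose subgroup is normalised by its centraliser. -/
def TypeB (L : Type*) [Group L] : Prop :=
  ∃ s : L, Inner s ∧ ∃ l ∈ cent s, l * l = s ∧ ∀ c ∈ cent s, c * l * c⁻¹ = l ∨ c * l * c⁻¹ = l⁻¹

variable {H : Type*} [Group H]

/-- The square roots of `w` outside `N` commuting with `s`. -/
def outRoots (N : Subgroup H) (s w : H) : Set H := {v | v ∉ N ∧ Commute v s ∧ v * v = w}

/-- The fourth roots of `w` outside `N` commuting with `s`. -/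
def outRoots4 (N : Subgroup H) (s w : H) : Set H := {v | v ∉ N ∧ Commute v s ∧ v * v * (v * v) = w}

/-- The involutions outside `N` are conjugate under `N`. -/
def OneOuter (N : Subgroup H) : Prop :=
  ∀ x y : H, x ∉ N → y ∉ N → x * x = 1 → y * y = 1 → ∃ n : N, (n : H) * x * (n : H)⁻¹ = y

/-- Every involution outside `N` is conjugate to its product with an inner involution, a product of squares of
    elements commuting with it, that is the square of no element of `N` commuting with it. -/
def Rootless (N : Subgroup H) : Prop :=
  ∀ x : H, x ∉ N → x * x = 1 → ∃ m : N, Inner m ∧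
    (m : H) ∈ Subgroup.closure ((fun c : H => c * c) '' {c | Commute c x}) ∧
    (∀ l : N, Commute (l : H) x → l * l ≠ m) ∧ ∃ n : N, (n : H) * x * (n : H)⁻¹ = x * m

/-- Facts on extensions of index two. -/
structure ExtFacts (N : Subgroup H) : Prop where
  /-- fourth roots outside `N` -/
  fourth : ∀ s : N, Inner s → ∀ z : N, z ∈ Subgroup.center N → z ≠ 1 → z * z = 1 →
    (outRoots4 N s s).ncard = 32 ∧ ((outRoots4 N s z).ncard = 0 ∨
      ((outRoots4 N s z).ncard = 64 ∧ (outRoots N s z).ncard = 0 ∧ (outRoots N s s).ncard = 0 ∧
        ∀ x : H, ∀ c : N, c ∈ Subgroup.center N → Commute (c : H) x))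
  /-- square roots outside `N` when the centre is inverted -/
  invert : ∀ s : N, Inner s → ∀ z : N, z ∈ Subgroup.center N → z ≠ 1 → z * z = 1 →
    (∃ x : H, ∃ c : N, c ∈ Subgroup.center N ∧ x * (c : H) * x⁻¹ ≠ c) →
    (((outRoots N s z).ncard = 0 ∧ (outRoots N s s).ncard = 16 ∧ (TypeB N → OneOuter N)) ∨
      ((outRoots N s z).ncard = 0 ∧ (outRoots N s s).ncard = 0 ∧ (∃ x : H, x ∉ N ∧ x * x = 1) ∧ Rootless N) ∨
      (outRoots N s s).ncard + 16 ≤ (outRoots N s z).ncard)
  /-- an outer involution inverting the centre is conjugate to its product with a product of squares of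
      elements commuting with it, an involution outside the centre -/
  outer_pair : ∀ x : H, x ∉ N → x * x = 1 → (∃ c : N, c ∈ Subgroup.center N ∧ x * (c : H) * x⁻¹ ≠ c) →
    ∃ m : N, Inner m ∧ (m : H) ∈ Subgroup.closure ((fun c : H => c * c) '' {c | Commute c x}) ∧
      ∃ n : N, (n : H) * x * (n : H)⁻¹ = x * m
  /-- an outer involution centralises an element of order 3 -/
  outer_three : ∀ x : H, x ∉ N → x * x = 1 → ∃ u : N, orderOf u = 3 ∧ Commute (u : H) x
  /-- an outer fourth root of an inner involution centralises at most 16 elements of its centraliser in N -/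
  root_small : ∀ (x : H) (s : N), Inner s → x ∉ N → x * x * (x * x) = (s : H) →
    {c : N | c ∈ cent s ∧ Commute (c : H) x}.ncard ≤ 16

end CfsgLib.StdON
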