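import Cfsg.Agent.Lib.StdON.Outer

/-!
# The cosets of `L` in `comp`

Counting square and fourth roots against an exchanging element leaves one outer coset, or three of which one
centralises the centre without roots; in the latter case one coset has an involution not fused to `z`.
-/

set_option autoImplicit false

universe u

namespace CfsgLib.StdON

open Subgroup

namespace Setting

variable {G : Type u} [Group G] [Finite G] [IsSimpleGroup G] {L : Subgroup G} {ζ : L}

theorem left_to_right (S : Setting L ζ) {a b : G} (ha : a ∈ S.comp) (h : a⁻¹ * b ∈ L) : b * a⁻¹ ∈ L := by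
  have := (Subgroup.mem_normalizer_iff.1 (S.cnorm a (S.comp_commute ha)) _).1 h
  rwa [mul_inv_cancel_left] at this

/-- The cosets of an element and its product with a second one. -/
theorem prod_notMem (S : Setting L ζ) {y e : G} (he : e ∈ S.comp) (hye : y * e⁻¹ ∉ L) : y * e ∉ L := fun h =>
  hye (by
    have := L.mul_mem h (L.inv_mem (S.comp_sq he))
    rwa [show y * e * (e * e)⁻¹ = y * e⁻¹ by group] at this)

/-- The cosets of `y` and of `y * e` differ. -/
theorem prod_ne (S : Setting L ζ) {y e : G} (hy : y ∈ S.comp) (heL : e ∉ L) : y * e * y⁻¹ ∉ L := fun h => heL (by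
  have := (Subgroup.mem_normalizer_iff.1 (S.cnorm y (S.comp_commute hy)) e).2 h
  exact this)

/-- At most four cosets. -/
theorem four_cosets (S : Setting L ζ) {y e : G} (hy : y ∈ S.comp) (he : e ∈ S.comp) (hyL : y ∉ L) (heL : e ∉ L)
    (hye : y * e⁻¹ ∉ L) (t : G) (ht : t ∈ S.comp) :
    t ∈ L ∨ t * e⁻¹ ∈ L ∨ t * y⁻¹ ∈ L ∨ t * (y * e)⁻¹ ∈ L := by
  by_contra hno
  push Not at hno
  obtain ⟨n1, n2, n3, n4⟩ := hno
  have hyeL := S.prod_notMem he hye
  have h1 := S.prod_ne hy heL
  have h2 : y * e * e⁻¹ ∉ L := by rwa [mul_inv_cancel_right]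
  obtain ⟨i, j, hij, h⟩ := S.comp_five ![1, e, y, y * e, t] fun i => by
    fin_cases i <;> first | exact one_mem _ | exact he | exact hy | exact mul_mem hy he | exact ht
  have hmem : ∀ i, (![1, e, y, y * e, t] : Fin 5 → G) i ∈ S.comp := fun i => by
    fin_cases i <;> first | exact one_mem _ | exact he | exact hy | exact mul_mem hy he | exact ht
  wlog hlt : i < j generalizing i j
  · exact this j i hij.symm (by simpa using L.inv_mem h) (lt_of_le_of_ne (not_lt.1 hlt) hij.symm)
  have h' := S.left_to_right (hmem i) h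
  fin_cases i <;> fin_cases j <;> simp at hlt h' <;>
    first
    | exact absurd h' heL | exact absurd h' hyL | exact absurd h' hyeL | exact absurd h' n1 | exact absurd h' hye
    | exact absurd h' n2 | exact absurd h' n3 | exact absurd h' (by simpa [mul_assoc] using h2)
    | exact absurd h' (by simpa [mul_assoc] using h1) | exact absurd h' (by simpa [mul_assoc] using n4)

theorem cosets_apart (S : Setting L ζ) {x y t : G} (hxy : x * y⁻¹ ∉ L) (hx : t * x⁻¹ ∈ L) : t * y⁻¹ ∉ L :=
  fun h => hxy (by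
    have := L.mul_mem (L.inv_mem hx) h
    rwa [show (t * x⁻¹)⁻¹ * (t * y⁻¹) = x * y⁻¹ by group] at this)

/-- Splitting a count over two cosets. -/
theorem count_two (S : Setting L ζ) {e : G} (he : e ∈ S.comp) (heL : e ∉ L)
    (hcov : ∀ t ∈ S.comp, t ∈ L ∨ t * e⁻¹ ∈ L) (s : G) (P : G → Prop) :
    {t : G | t ∈ S.comp ∧ Commute t s ∧ P t}.ncard =
      {t : G | t * (1 : G)⁻¹ ∈ L ∧ Commute t s ∧ P t}.ncard + {t : G | t * e⁻¹ ∈ L ∧ Commute t s ∧ P t}.ncard := by
  rw [← Set.ncard_union_eq]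
  · congr 1
    ext t
    constructor
    · rintro ⟨ht, h⟩
      rcases hcov t ht with h' | h'
      · exact .inl ⟨by simpa using h', h⟩
      · exact .inr ⟨h', h⟩
    · rintro (⟨ht, h⟩ | ⟨ht, h⟩)
      · exact ⟨S.le_comp ⟨t, by simpa using ht⟩, h⟩
      · exact ⟨S.coset_mem he ht, h⟩
  · refine Set.disjoint_left.2 fun t h1 h2 => S.cosets_apart (x := 1) ?_ h1.1 h2.1
    simpa using heL

/-- Splitting a count over four cosets. -/
theorem count_four (S : Setting L ζ) {y e : G} (hy : y ∈ S.comp) (he : e ∈ S.comp) (hyL : y ∉ L) (heL : e ∉ L)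
    (hye : y * e⁻¹ ∉ L) (s : G) (P : G → Prop) :
    {t : G | t ∈ S.comp ∧ Commute t s ∧ P t}.ncard =
      {t : G | t * (1 : G)⁻¹ ∈ L ∧ Commute t s ∧ P t}.ncard + {t : G | t * e⁻¹ ∈ L ∧ Commute t s ∧ P t}.ncard +
        ({t : G | t * y⁻¹ ∈ L ∧ Commute t s ∧ P t}.ncard +
          {t : G | t * (y * e)⁻¹ ∈ L ∧ Commute t s ∧ P t}.ncard) := by
  have hyeL := S.prod_notMem he hye
  have h1 : y * (y * e)⁻¹ ∉ L := fun h => S.prod_ne hy heL (by
    have := L.inv_mem h
    rwa [_root_.mul_inv_rev, inv_inv] at this)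
  have h2 : e * (y * e)⁻¹ ∉ L := fun h => hyL (by
    have := L.inv_mem h
    rwa [_root_.mul_inv_rev, inv_inv, mul_inv_cancel_right] at this)
  have h3 : e * y⁻¹ ∉ L := fun h => hye (by
    have := L.inv_mem h
    rwa [_root_.mul_inv_rev, inv_inv] at this)
  rw [← Set.ncard_union_eq, ← Set.ncard_union_eq, ← Set.ncard_union_eq]
  · congr 1
    ext t
    constructor
    · rintro ⟨ht, h⟩
      rcases S.four_cosets hy he hyL heL hye t ht with h' | h' | h' | h'
      · exact .inl (.inl ⟨by simpa using h', h⟩)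
      · exact .inl (.inr ⟨h', h⟩)
      · exact .inr (.inl ⟨h', h⟩)
      · exact .inr (.inr ⟨h', h⟩)
    · rintro ((⟨ht, h⟩ | ⟨ht, h⟩) | (⟨ht, h⟩ | ⟨ht, h⟩))
      · exact ⟨S.le_comp ⟨t, by simpa using ht⟩, h⟩
      · exact ⟨S.coset_mem he ht, h⟩
      · exact ⟨S.coset_mem hy ht, h⟩
      · exact ⟨S.coset_mem (mul_mem hy he) ht, h⟩
  · refine Set.disjoint_left.2 fun t ha hb => ?_
    rcases ha with ha | ha <;> rcases hb with hb | hb
    · exact S.cosets_apart (x := 1) (by simpa using hyL) ha.1 hb.1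
    · exact S.cosets_apart (x := 1) (by rw [one_mul, inv_mem_iff]; exact hyeL) ha.1 hb.1
    · exact S.cosets_apart h3 ha.1 hb.1
    · exact S.cosets_apart h2 ha.1 hb.1
  · exact Set.disjoint_left.2 fun t ha hb => S.cosets_apart (x := y) h1 ha.1 hb.1
  · exact Set.disjoint_left.2 fun t ha hb => S.cosets_apart (x := 1) (by simpa using heL) ha.1 hb.1

/-- Both square and fourth roots of `z` and of `s` are equally many. -/
theorem roots_eq (S : Setting L ζ) {s : L} (hs : Inner s) :
    {t : G | t ∈ S.comp ∧ Commute t (s : G) ∧ t * t = zc ζ}.ncard =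
      {t : G | t ∈ S.comp ∧ Commute t (s : G) ∧ t * t = (s : G)}.ncard ∧
    {t : G | t ∈ S.comp ∧ Commute t (s : G) ∧ t * t * (t * t) = zc ζ}.ncard =
      {t : G | t ∈ S.comp ∧ Commute t (s : G) ∧ t * t * (t * t) = (s : G)}.ncard := S.roots_swap hs

/-- With one outer coset, which inverts the centre, that coset has one class of involutions. -/
theorem case_two (S : Setting L ζ) {e : G} (he : e ∈ S.comp) (heL : e ∉ L) (hinv : ¬ Commute e (ζ : G))
    (hcov : ∀ t ∈ S.comp, t ∈ L ∨ t * e⁻¹ ∈ L) : TypeB L → OneCoset L e := by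
  obtain ⟨s, hs⟩ := S.exists_inner
  have h2 := (S.roots_eq hs).1
  rw [S.count_two he heL hcov (s : G) (fun t => t * t = zc ζ),
    S.count_two he heL hcov (s : G) (fun t => t * t = (s : G))] at h2
  obtain ⟨a, b, -, -⟩ := S.inner_part hs
  rcases S.invert_part he heL hinv hs with ⟨c, d, h⟩ | ⟨c, d, -⟩ | h
  · exact h
  all_goals
    unfold part2 at *
    omega

/-- With three outer cosets, one centralises the centre and has no roots. -/
theorem case_four (S : Setting L ζ) {y e : G} (hy : y ∈ S.comp) (he : e ∈ S.comp) (hyL : y ∉ L) (heL : e ∉ L)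
    (hye : y * e⁻¹ ∉ L) (hinv : ¬ Commute e (ζ : G)) :
    ∃ f : G, f ∈ S.comp ∧ f ∉ L ∧ f * e⁻¹ ∉ L ∧ Commute f (ζ : G) := by
  obtain ⟨s, hs⟩ := S.exists_inner
  have h4 := (S.roots_eq hs).2
  rw [S.count_four hy he hyL heL hye (s : G) (fun t => t * t * (t * t) = zc ζ),
    S.count_four hy he hyL heL hye (s : G) (fun t => t * t * (t * t) = (s : G))] at h4
  obtain ⟨-, -, c, d⟩ := S.inner_part hs
  have hyeL := S.prod_notMem he hye
  obtain ⟨p1, q1⟩ := S.fourth_part he heL hs
  obtain ⟨p2, q2⟩ := S.fourth_part hy hyL hs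
  obtain ⟨p3, q3⟩ := S.fourth_part (mul_mem hy he) hyeL hs
  have q1' := q1.resolve_right fun h => hinv h.2.2.2
  rcases q2 with q2 | ⟨-, -, -, q2⟩
  · rcases q3 with q3 | ⟨-, -, -, q3⟩
    · exfalso
      unfold part4 at *
      omega
    · refine ⟨y * e, mul_mem hy he, hyeL, ?_, q3⟩
      rwa [mul_inv_cancel_right]
  · exact ⟨y, hy, hyL, hye, q2⟩

/-- In that case, at every inner involution, the cosets are as follows. -/
theorem four_types (S : Setting L ζ) {f e : G} (hf : f ∈ S.comp) (he : e ∈ S.comp) (hfL : f ∉ L) (heL : e ∉ L)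
    (hfe : f * e⁻¹ ∉ L) (hinv : ¬ Commute e (ζ : G)) (hfc : Commute f (ζ : G)) {s : L} (hs : Inner s) :
    (part2 L f s s).ncard = 0 ∧
      ((TypeB L → OneCoset L e) ∧ RootlessCoset L (f * e) ∧ (∃ a : G, a * (f * e)⁻¹ ∈ L ∧ a * a = 1) ∨
        RootlessCoset L e) := by
  have hfeL := S.prod_notMem he hfe
  have hinv' : ¬ Commute (f * e) (ζ : G) := fun h => hinv (by
    have := hfc.inv_left.mul_left h
    rwa [inv_mul_cancel_left] at this)
  obtain ⟨h2, h4⟩ := S.roots_eq hs
  rw [S.count_four hf he hfL heL hfe (s : G) (fun t => t * t = zc ζ),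
    S.count_four hf he hfL heL hfe (s : G) (fun t => t * t = (s : G))] at h2
  rw [S.count_four hf he hfL heL hfe (s : G) (fun t => t * t * (t * t) = zc ζ),
    S.count_four hf he hfL heL hfe (s : G) (fun t => t * t * (t * t) = (s : G))] at h4
  obtain ⟨a, b, c, d⟩ := S.inner_part hs
  obtain ⟨p1, q1⟩ := S.fourth_part he heL hs
  obtain ⟨p2, q2⟩ := S.fourth_part hf hfL hs
  obtain ⟨p3, q3⟩ := S.fourth_part (mul_mem hf he) hfeL hs
  have q1' := q1.resolve_right fun h => hinv h.2.2.2
  have q3' := q3.resolve_right fun h => hinv' h.2.2.2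
  rcases q2 with q2 | ⟨q2, r1, r2, -⟩
  · exfalso
    unfold part4 at *
    omega
  refine ⟨r2, ?_⟩
  rcases S.invert_part he heL hinv hs with ⟨u1, u2, u3⟩ | ⟨u1, u2, u3, u4⟩ | u
  · rcases S.invert_part (mul_mem hf he) hfeL hinv' hs with ⟨v1, v2, -⟩ | ⟨-, -, v3, v4⟩ | v
    · exfalso
      unfold part2 at *
      omega
    · exact .inl ⟨u3, v4, v3⟩
    · exfalso
      unfold part2 at *
      omega
  · exact .inr u4
  · exfalso
    rcases S.invert_part (mul_mem hf he) hfeL hinv' hs with ⟨v1, v2, -⟩ | ⟨v1, v2, -, -⟩ | v <;>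
      (unfold part2 at *; omega)

end Setting

end CfsgLib.StdON
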