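import Cfsg.Agent.Lib.StdON.Pair
import Cfsg.Agent.Lib.Solvable.Nilpotent
import Mathlib.GroupTheory.SchurZassenhaus

/-!
# The centraliser of `L`

Its only involution is `z`, it has no element of order 8, so it is the product of the centre of `L` and a group `D`
of odd order, normalised by every element exchanging `z` with an inner involution.
-/

set_option autoImplicit false

universe u

namespace CfsgLib.StdON.Setting

open Subgroup
open scoped commutatorElement

variable {G : Type u} [Group G] {L : Subgroup G} {ζ : L}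

theorem z_commute_cent (S : Setting L ζ) {k : G} (hk : k ∈ centralizer (L : Set G)) : Commute k (zc ζ) :=
  (commute_L hk (ζ * ζ)).symm

/-- Conjugation by an exchanging element keeps the elements commuting with both involutions. -/
theorem swap_commute {s : L} {h : G} (h1 : h * zc ζ * h⁻¹ = s) (h2 : h * s * h⁻¹ = zc ζ) {a : G}
    (hz : Commute a (zc ζ)) (hs : Commute a (s : G)) :
    Commute (h * a * h⁻¹) (zc ζ) ∧ Commute (h * a * h⁻¹) (s : G) :=
  ⟨h2 ▸ conj_commute h hs, h1 ▸ conj_commute h hz⟩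

theorem center_pow (S : Setting L ζ) {c : L} (hc : c ∈ Subgroup.center L) (h2 : c * c ≠ 1) : c = ζ ∨ c = ζ⁻¹ := by
  rcases S.center_cases hc with e | e | e | e
  · exact absurd (by rw [e, mul_one]) h2
  · exact .inl e
  · exact absurd (e ▸ S.zL_sq) h2
  · exact .inr e

/-- The root used in the centraliser of an inner involution has two-power order. -/
theorem pow_card_cent (S : Setting L ζ) {s l : L} (hs : Inner s) (hl : l ∈ StdON.cent s) : l ^ 128 = 1 := by
  have e : (⟨l, hl⟩ : StdON.cent s) ^ Nat.card (StdON.cent s) = 1 := pow_card_eq_one'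
  rw [S.lfacts.card_cent s hs] at e
  simpa using congrArg Subtype.val e

/-- An outer fourth root of an inner involution centralises little. -/
theorem root_small [Finite G] (S : Setting L ζ) {x : G} (hx : Commute x (zc ζ)) (hx2 : x * x ∈ L) (hout : x ∉ LK L)
    {s : L} (hs : Inner s) (hx4 : x * x * (x * x) = s) :
    {c : L | c ∈ StdON.cent s ∧ Commute (c : G) x}.ncard ≤ 16 := by
  let e := S.extEquiv x hx hx2
  have h := (S.extFacts hx hx2 hout).root_small ⟨x, S.self_mem_ext x hx hx2⟩ (e.symm s) (hs.map e.symm)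
    (S.notMem_of_out hout) (Subtype.ext hx4)
  refine le_trans (le_of_eq ?_) h
  rw [← Set.ncard_image_of_injective _ e.symm.injective]
  congr 1
  ext c
  obtain ⟨c, rfl⟩ := e.symm.surjective c
  rw [e.symm.injective.mem_set_image]
  simp only [Set.mem_setOf_eq, mem_cent_map]
  refine and_congr_right fun _ => ⟨fun h => Subtype.ext ?_, fun h => congrArg Subtype.val h⟩
  exact h

variable [Finite G] [IsSimpleGroup G]

/-- The centraliser of `L` has no involution other than `z`. -/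
theorem unique_invol (S : Setting L ζ) {k : G} (hk : k ∈ centralizer (L : Set G)) (h2 : k * k = 1) :
    k = 1 ∨ k = zc ζ := by
  by_contra hne
  push Not at hne
  obtain ⟨s, hs⟩ := S.exists_inner
  obtain ⟨h, h1, h3⟩ := S.exists_swap hs
  have hk' := swap_commute h1 h3 (S.z_commute_cent hk) (commute_L hk s).symm
  by_cases hi : h * k * h⁻¹ ∈ LK L
  · exact S.kill hk h2 hne.1 hne.2 (S.swap_not_commute hs h1) (h1 ▸ le_LK s) hi
  obtain ⟨u, hu, huc⟩ := S.outer_three hk'.1
    (by rw [show h * k * h⁻¹ * (h * k * h⁻¹) = h * (k * k) * h⁻¹ by group, h2]; group) hi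
  have hc1 := commute_back h huc
  have hcz : Commute (h⁻¹ * u * h) (zc ζ) :=
    S.tight _ k hk (by rw [hc1.eq, mul_inv_cancel_right]; exact hk) h2 hne.1
  have hus : Commute (u : G) (s : G) := by
    have e := conj_commute h hcz
    rw [h1] at e
    simpa [mul_assoc] using e
  have h3' : orderOf u ∣ 128 := orderOf_dvd_of_pow_eq_one (S.pow_card_cent hs (mem_cent_iff.2 hus))
  rw [hu] at h3'
  norm_num at h3'

/-- A square root in the centraliser of `L` of `1` or `z` is central in `L`. -/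
theorem small (S : Setting L ζ) {k : G} (hk : k ∈ centralizer (L : Set G)) (h2 : k * k = 1 ∨ k * k = zc ζ) :
    ∃ c ∈ Subgroup.center L, k = (c : G) := by
  rcases h2 with h2 | h2
  · rcases S.unique_invol hk h2 with e | e
    · exact ⟨1, one_mem _, e⟩
    · exact ⟨ζ * ζ, S.zL_center, e⟩
  · have hcomm : Commute k (ζ : G) := (commute_L hk ζ).symm
    have hkk : k * (ζ : G) * (k * ζ) = 1 := by
      rw [hcomm.symm.mul_mul_mul_comm, h2, ← S.zsq]
      rfl
    rcases S.unique_invol (mul_mem hk S.zeta_cent) hkk with e | e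
    · exact ⟨ζ⁻¹, inv_mem S.zeta_center, by rw [eq_inv_of_mul_eq_one_left e, Subgroup.coe_inv]⟩
    · exact ⟨ζ, S.zeta_center, mul_right_cancel e⟩

/-- The image of the generator of the centre under an exchanging element lies in `L` if it acts innerly. -/
theorem zeta_L (S : Setting L ζ) {s : L} (hs : Inner s) {h : G} (h1 : h * zc ζ * h⁻¹ = s)
    (hi : h * (ζ : G) * h⁻¹ ∈ LK L) : h * (ζ : G) * h⁻¹ ∈ L := by
  obtain ⟨l, k, hk, e⟩ := hi
  have hzs : Commute (h * (ζ : G) * h⁻¹) (s : G) := h1 ▸ conj_commute h (S.z_commute_L ζ)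
  have hls : l ∈ StdON.cent s := mem_cent_iff.2 (by
    have e' := (e ▸ hzs).mul_left (commute_L hk s).symm.inv_left
    rwa [mul_inv_cancel_right] at e')
  have hlk : Commute (l : G) k := commute_L hk l
  have hsq : ((l * l : L) : G) * (k * k) = s := by
    rw [Subgroup.coe_mul, ← hlk.symm.mul_mul_mul_comm, ← e, ← h1]
    show h * (ζ : G) * h⁻¹ * (h * ζ * h⁻¹) = h * ((ζ : G) * ζ) * h⁻¹
    group
  have hkk : k * k = (((l * l)⁻¹ * s : L) : G) := by
    rw [Subgroup.coe_mul, Subgroup.coe_inv, ← hsq, inv_mul_cancel_left]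
  have hc : (l * l)⁻¹ * s ∈ Subgroup.center L := meet (hkk ▸ mul_mem hk hk)
  by_cases hc2 : (l * l)⁻¹ * s * ((l * l)⁻¹ * s) = 1
  · obtain ⟨c', -, hc'⟩ := S.small hk (by
      rcases S.center_invol hc hc2 with e' | e'
      · exact .inl (by rw [hkk, e']; rfl)
      · exact .inr (by rw [hkk, e']; rfl))
    rw [e, hc']
    exact L.mul_mem l.2 c'.2
  exfalso
  set c := (l * l)⁻¹ * s with hcdef
  have hls' : Commute l s := Subtype.ext (mem_cent_iff.1 hls).eq
  have hll : l * l = c⁻¹ * s := by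
    rw [hcdef, _root_.mul_inv_rev, inv_inv, mul_assoc, (hls'.mul_left hls').eq, ← mul_assoc,
      inv_mul_cancel, one_mul]
  have hcinv : c⁻¹ * c⁻¹ ≠ 1 := fun e' => hc2 (by rwa [← _root_.mul_inv_rev, inv_eq_one] at e')
  obtain ⟨d, hd, hd1, hd2⟩ := S.lfacts.no_root s hs c⁻¹ (inv_mem hc) hcinv l hls hll
  have hdz : Commute (h⁻¹ * (d : G) * h) (zc ζ) := commute_back h (h1 ▸ mem_cent_iff.1 hd)
  have hact : (d : G)⁻¹ * (h * ζ * h⁻¹) * d = h * ζ * h⁻¹ ∨
      (d : G)⁻¹ * (h * ζ * h⁻¹) * d = (h * ζ * h⁻¹)⁻¹ := by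
    rcases S.conj_zeta hdz.inv_left with e' | e' <;> [left; right] <;>
      · have := congrArg (fun y => h * y * h⁻¹) e'
        simpa [mul_assoc] using this
  rw [e] at hact
  have hkd : Commute (d : G) k := commute_L hk d
  have hdld : (d : G)⁻¹ * (l * k) * d = (d : G)⁻¹ * l * d * k := by
    rw [show (d : G)⁻¹ * (l * k) * d = (d : G)⁻¹ * l * (k * d) by group, ← hkd.eq]; group
  rw [hdld] at hact
  rcases hact with e' | e'
  · refine hd1 ?_
    have e2 : d⁻¹ * l * d = l := Subtype.ext (mul_right_cancel e')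
    rw [show l⁻¹ * d⁻¹ * l * d = l⁻¹ * (d⁻¹ * l * d) by group, e2, inv_mul_cancel]
  · refine hd2 ?_
    have e2 : d⁻¹ * l * d = l⁻¹ * c⁻¹ := by
      refine Subtype.ext ?_
      have e3 : (d : G)⁻¹ * l * d = (l * k : G)⁻¹ * k⁻¹ := eq_mul_inv_of_mul_eq e'
      simp only [Subgroup.coe_mul, Subgroup.coe_inv]
      rw [e3, ← hkk]
      rw [show ((l : G) * k)⁻¹ * k⁻¹ = k⁻¹ * (l : G)⁻¹ * k⁻¹ by group, ← (hlk.inv_inv).eq]
      group
    have hcc : Commute c⁻¹ s := ((Subgroup.mem_center_iff.1 (inv_mem hc) s).symm : c⁻¹ * s = s * c⁻¹)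
    have hcs : c⁻¹ = l * l * s := by rw [hll, mul_assoc, hs.1, mul_one]
    rw [show l⁻¹ * d⁻¹ * l * d = l⁻¹ * (d⁻¹ * l * d) by group, e2, hcs]
    group

/-- The centraliser of `L` has no element of order 8. -/
theorem eight (S : Setting L ζ) {v : G} (hv : v ∈ centralizer (L : Set G))
    (hv2 : v * v = ζ ∨ v * v = (ζ : G)⁻¹) : False := by
  haveI : Fact (Nat.Prime 2) := ⟨Nat.prime_two⟩
  obtain ⟨s, hs⟩ := S.exists_inner
  obtain ⟨h, h1, h3⟩ := S.exists_swap hs
  set C := centralizer ({zc ζ} : Set G) with hC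
  -- a Sylow subgroup containing the moved centraliser of `s`
  have hPC : ∀ c ∈ StdON.cent s, h⁻¹ * ((c : L) : G) * h ∈ C := fun c hc =>
    mem_centralizer_singleton_iff.2 (commute_back h (h1 ▸ mem_cent_iff.1 hc)).eq
  let f : StdON.cent s →* C :=
    MonoidHom.mk' (fun c => ⟨h⁻¹ * ((c : L) : G) * h, hPC c c.2⟩) fun a b => Subtype.ext (by
      show h⁻¹ * ((a * b : StdON.cent s) : L).1 * h = h⁻¹ * (a : L).1 * h * (h⁻¹ * (b : L).1 * h)
      rw [Subgroup.coe_mul, Subgroup.coe_mul]; group)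
  have hP : IsPGroup 2 f.range := by
    refine (IsPGroup.of_card (n := 7) ?_).of_surjective f.rangeRestrict f.rangeRestrict_surjective
    rw [S.lfacts.card_cent s hs]
    rfl
  obtain ⟨R, hR⟩ := hP.exists_le_sylow
  have hvC : v ∈ C := mem_centralizer_singleton_iff.2 (S.z_commute_cent hv).eq
  obtain ⟨R0, hR0⟩ : ∃ R0 : Sylow 2 C, (⟨v, hvC⟩ : C) ∈ R0 := by
    have hv8 : orderOf (⟨v, hvC⟩ : C) ∣ 2 ^ 3 := orderOf_dvd_of_pow_eq_one (Subtype.ext (by
      show v ^ 8 = 1
      have h4 : (ζ : G) ^ 4 = 1 := congrArg Subtype.val S.zeta_four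
      rcases hv2 with e | e <;> rw [show (8 : ℕ) = 2 * 4 from rfl, pow_mul, pow_two, e]
      · exact h4
      · rw [inv_pow, h4, inv_one]))
    obtain ⟨k, -, hk⟩ := (Nat.dvd_prime_pow Nat.prime_two).1 hv8
    obtain ⟨R0, hR0⟩ := (IsPGroup.of_card (n := k) (by rw [Nat.card_zpowers, hk]) :
      IsPGroup 2 (Subgroup.zpowers (⟨v, hvC⟩ : C))).exists_le_sylow
    exact ⟨R0, hR0 (mem_zpowers _)⟩
  obtain ⟨γ, hγ⟩ := MulAction.exists_smul_eq C R0 R
  have hvR : γ * ⟨v, hvC⟩ * γ⁻¹ ∈ R := by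
    rw [← hγ]
    show γ * ⟨v, hvC⟩ * γ⁻¹ ∈ ((γ • R0 : Sylow 2 C) : Subgroup C)
    rw [Sylow.coe_subgroup_smul]
    exact ⟨_, hR0, rfl⟩
  have hγz : Commute (γ : G) (zc ζ) := mem_centralizer_singleton_iff.1 γ.2
  -- a root fixed modulo the centre
  haveI : Group.IsNilpotent (R : Subgroup C) := R.isPGroup'.isNilpotent
  let φ : (R : Subgroup C) →* G := C.subtype.comp (R : Subgroup C).subtype
  have hφz : ∀ r : (R : Subgroup C), Commute (φ r) (zc ζ) := fun r =>
    mem_centralizer_singleton_iff.1 (r : C).2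
  haveI : ((centralizer (L : Set G)).comap φ).Normal := ⟨fun a ha b => by
    show φ (b * a * b⁻¹) ∈ centralizer (L : Set G)
    rw [map_mul, map_mul, map_inv]
    exact S.conj_cent (hφz b) ha⟩
  have hnle : ¬ (centralizer (L : Set G)).comap φ ≤ (zpowers (ζ : G)).comap φ := by
    intro hle
    have h1' : (γ : G) * v * (γ : G)⁻¹ ∈ zpowers (ζ : G) :=
      hle (x := ⟨_, hvR⟩) (S.conj_cent hγz hv)
    obtain ⟨i, hi⟩ := Subgroup.mem_zpowers_iff.1 h1'
    have h4 : ((γ : G) * v * (γ : G)⁻¹) ^ 4 = 1 := by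
      rw [← hi, ← zpow_natCast, ← zpow_mul, mul_comm, zpow_mul, zpow_natCast,
        show (ζ : G) ^ 4 = 1 from congrArg Subtype.val S.zeta_four, one_zpow]
    rw [conj_pow, conj_eq_one_iff, show (4 : ℕ) = 2 * 2 from rfl, pow_mul, pow_two, pow_two] at h4
    rcases hv2 with e | e <;> rw [e] at h4
    · exact S.zne h4
    · rw [← _root_.mul_inv_rev, inv_eq_one] at h4
      exact S.zne h4
  obtain ⟨x, hx, hxn, hxc⟩ := Solvable.exists_central_mod_of_isNilpotent hnle
  have hxK : φ x ∈ centralizer (L : Set G) := hx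
  have hfix : ∀ (w : G), (∀ r : (R : Subgroup C), φ r * w * (φ r)⁻¹ * w⁻¹ ∈ zpowers (ζ : G)) →
      Commute w (ζ : G) → ∀ i : ℕ, ∀ r : (R : Subgroup C), φ r * w ^ i * (φ r)⁻¹ * (w ^ i)⁻¹ ∈ zpowers (ζ : G) := by
    intro w hw hwc i r
    obtain ⟨j, hj⟩ := Subgroup.mem_zpowers_iff.1 (hw r)
    have e : φ r * w * (φ r)⁻¹ = (ζ : G) ^ j * w := eq_mul_of_mul_inv_eq hj.symm
    refine Subgroup.mem_zpowers_iff.2 ⟨j * i, ?_⟩
    rw [← conj_pow, e, (hwc.symm.zpow_left j).mul_pow, mul_inv_cancel_right, ← zpow_natCast, ← zpow_mul]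
  have hx0 : ∀ r : (R : Subgroup C), φ r * φ x * (φ r)⁻¹ * (φ x)⁻¹ ∈ zpowers (ζ : G) := by
    intro r
    have h' : φ ⁅x, r⁆ ∈ zpowers (ζ : G) := (hxc r).2
    rw [commutatorElement_def, map_mul, map_mul, map_mul, map_inv, map_inv] at h'
    have := inv_mem h'
    simpa [mul_assoc] using this
  obtain ⟨m, hm⟩ : ∃ m : ℕ, φ x ^ 2 ^ m ∈ zpowers (ζ : G) := by
    obtain ⟨k, hk⟩ := R.isPGroup' x
    exact ⟨k, by rw [← map_pow, hk, map_one]; exact one_mem _⟩
  obtain ⟨w, hwK, hwn, hww, hwf⟩ : ∃ w ∈ centralizer (L : Set G), w ∉ zpowers (ζ : G) ∧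
      w * w ∈ zpowers (ζ : G) ∧ ∀ r : (R : Subgroup C), φ r * w * (φ r)⁻¹ * w⁻¹ ∈ zpowers (ζ : G) := by
    induction m with
    | zero => exact absurd (by simpa using hm) hxn
    | succ m ih =>
      by_cases hm' : φ x ^ 2 ^ m ∈ zpowers (ζ : G)
      · exact ih hm'
      · refine ⟨φ x ^ 2 ^ m, pow_mem hxK _, hm', ?_, hfix _ hx0 (commute_L hxK ζ).symm _⟩
        rwa [← pow_add, ← two_mul, ← pow_succ']
  have hw2 : w * w = ζ ∨ w * w = (ζ : G)⁻¹ := by
    obtain ⟨i, hi⟩ := Subgroup.mem_zpowers_iff.1 hww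
    have hcc : ζ ^ i ∈ Subgroup.center L := S.gen ▸ zpow_mem_zpowers _ _
    rw [← SubgroupClass.coe_zpow] at hi
    by_cases h4 : ζ ^ i * ζ ^ i = 1
    · exfalso
      obtain ⟨c, hc, hwc⟩ := S.small hwK (by
        rcases S.center_invol hcc h4 with e | e
        · exact .inl (by rw [← hi, e]; rfl)
        · exact .inr (by rw [← hi, e]; rfl))
      rw [← S.gen, Subgroup.mem_zpowers_iff] at hc
      obtain ⟨j, hj⟩ := hc
      exact hwn (Subgroup.mem_zpowers_iff.2 ⟨j, by rw [hwc, ← hj, SubgroupClass.coe_zpow]⟩)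
    · rcases S.center_pow hcc h4 with e | e
      · exact .inl (by rw [← hi, e])
      · exact .inr (by rw [← hi, e]; rfl)
  -- its image
  set v' := h * w * h⁻¹ with hv'
  obtain ⟨hv'z, hv's⟩ := swap_commute h1 h3 (S.z_commute_cent hwK) (commute_L hwK s).symm
  have hv'2 : v' * v' = h * ζ * h⁻¹ ∨ v' * v' = (h * ζ * h⁻¹)⁻¹ := by
    have e' : v' * v' = h * (w * w) * h⁻¹ := by rw [hv']; group
    rcases hw2 with e | e <;> rw [e', e]
    · exact .inl rfl
    · exact .inr (by group)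
  have hζi : h * (ζ : G) * h⁻¹ ∈ LK L := by
    have h' := S.sq_mem hv'z
    rcases hv'2 with e | e <;> rw [e] at h'
    · exact h'
    · simpa using inv_mem h'
  have hζL := S.zeta_L hs h1 hζi
  have hv'L : v' * v' ∈ L := by
    rcases hv'2 with e | e <;> rw [e]
    · exact hζL
    · exact inv_mem hζL
  have hv'4 : v' * v' * (v' * v') = s := by
    have hs1 : (s : G)⁻¹ = s := inv_eq_of_mul_eq_one_left (inner_coe hs)
    have e' : h * (ζ : G) * h⁻¹ * (h * ζ * h⁻¹) = s := by
      rw [← h1]; show _ = h * ((ζ : G) * ζ) * h⁻¹; group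
    rcases hv'2 with e | e <;> rw [e]
    · exact e'
    · rw [← _root_.mul_inv_rev, e', hs1]
  by_cases hout : v' ∈ LK L
  · obtain ⟨l, k, hk, e⟩ := hout
    have hlk : Commute (l : G) k := commute_L hk l
    have hls : l ∈ StdON.cent s := mem_cent_iff.2 (by
      have hh : Commute ((l : G) * k) (s : G) := e ▸ (hv's : Commute v' (s : G))
      have e' := hh.mul_left (commute_L hk s).symm.inv_left
      rwa [mul_inv_cancel_right] at e')
    refine hs.2 (meet ?_)
    rw [← hv'4, e, show (l : G) * k * (l * k) = ((l * l : L) : G) * (k * k) by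
      rw [hlk.symm.mul_mul_mul_comm, Subgroup.coe_mul]]
    have hlk2 : Commute ((l * l : L) : G) (k * k) := commute_L (mul_mem hk hk) _
    rw [hlk2.symm.mul_mul_mul_comm, ← Subgroup.coe_mul]
    exact mul_mem (center_mem_cent (S.lfacts.exp_four s hs l hls)) (mul_mem (mul_mem hk hk) (mul_mem hk hk))
  -- at most four images
  have hsmall := S.root_small hv'z hv'L hout hs hv'4
  let A := StdON.cent s
  let St : Subgroup A := ((centralizer ({v'} : Set G)).comap L.subtype).comap A.subtype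
  have hSt : Nat.card St ≤ 16 := by
    refine le_trans (le_of_eq ?_) hsmall
    rw [← Nat.card_coe_set_eq]
    exact Nat.card_congr
      { toFun := fun c => ⟨c.1.1, c.1.2, mem_centralizer_singleton_iff.1 c.2⟩
        invFun := fun c => ⟨⟨c.1, c.2.1⟩, mem_centralizer_singleton_iff.2 c.2.2.eq⟩
        left_inv := fun c => rfl
        right_inv := fun c => rfl }
  have hfR : ∀ c : A, f c ∈ (R : Subgroup C) := fun c => hR ⟨c, rfl⟩
  let δ : A → zpowers (ζ : G) := fun c => ⟨_, hwf ⟨f c, hfR c⟩⟩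
  have hδ : ∀ a b : A, δ a = δ b → a⁻¹ * b ∈ St := by
    intro a b e
    have e' : h⁻¹ * ((a : L) : G) * h * w * (h⁻¹ * ((a : L) : G) * h)⁻¹ * w⁻¹ =
        h⁻¹ * ((b : L) : G) * h * w * (h⁻¹ * ((b : L) : G) * h)⁻¹ * w⁻¹ := congrArg Subtype.val e
    have e2 := congrArg (fun y => h * y * h⁻¹) (mul_right_cancel e')
    refine mem_centralizer_singleton_iff.2 ?_
    show (((a⁻¹ * b : A) : L) : G) * v' = v' * _
    simp only [Subgroup.coe_mul, Subgroup.coe_inv, hv']
    have e3 : ((a : L) : G) * (h * w * h⁻¹) * ((a : L) : G)⁻¹ =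
        ((b : L) : G) * (h * w * h⁻¹) * ((b : L) : G)⁻¹ := by
      simpa [mul_assoc] using e2
    calc ((a : L) : G)⁻¹ * ((b : L) : G) * (h * w * h⁻¹)
        = ((a : L) : G)⁻¹ * (((b : L) : G) * (h * w * h⁻¹) * ((b : L) : G)⁻¹) * ((b : L) : G) := by group
      _ = h * w * h⁻¹ * (((a : L) : G)⁻¹ * ((b : L) : G)) := by rw [← e3]; group
  have hidx : St.index ≤ 4 := by
    refine le_trans (Nat.card_le_card_of_injective (fun q : A ⧸ St => δ q.out) fun p q e => ?_) ?_
    · rw [← QuotientGroup.out_eq' p, ← QuotientGroup.out_eq' q, QuotientGroup.eq]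
      exact hδ _ _ e
    · rw [Nat.card_zpowers]
      exact le_of_eq ((Subgroup.orderOf_coe ζ).trans S.ord)
  have hA : St.index * Nat.card St = 128 := (St.index_mul_card).trans (S.lfacts.card_cent s hs)
  have := Nat.mul_le_mul hidx hSt
  omega

/-- A two-element of the centraliser of `L` is central in `L`. -/
theorem two_cent (S : Setting L ζ) : ∀ (m : ℕ) {k : G}, k ∈ centralizer (L : Set G) → k ^ 2 ^ m = 1 →
    ∃ c ∈ Subgroup.center L, k = (c : G)
  | 0, k, _, h => ⟨1, one_mem _, by simpa using h⟩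
  | m + 1, k, hk, h => by
    obtain ⟨c, hc, he⟩ := two_cent S m (mul_mem hk hk)
      (by rwa [pow_succ' 2 m, pow_mul, pow_two] at h)
    by_cases hc2 : c * c = 1
    · refine S.small hk ?_
      rcases S.center_invol hc hc2 with e | e
      · exact .inl (by rw [he, e]; rfl)
      · exact .inr (by rw [he, e]; rfl)
    · rcases S.center_pow hc hc2 with e | e
      · exact (S.eight hk (.inl (by rw [he, e]))).elim
      · exact (S.eight hk (.inr (by rw [he, e]; rfl))).elim

/-- The centraliser of `L` is the centre of `L` times a group of odd order. -/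
theorem exists_oddPart (S : Setting L ζ) :
    ∃ D : Subgroup G, Odd (Nat.card D) ∧
      (∀ x, x ∈ D ↔ x ∈ centralizer (L : Set G) ∧ Odd (orderOf x)) ∧
      ∀ k ∈ centralizer (L : Set G), ∃ c ∈ Subgroup.center L, ∃ d ∈ D, k = (c : G) * d := by
  haveI : Fact (Nat.Prime 2) := ⟨Nat.prime_two⟩
  set K := centralizer (L : Set G) with hK
  let ι : Subgroup.center L →* K :=
    MonoidHom.mk' (fun c => ⟨((c : L) : G), center_mem_cent c.2⟩) fun a b => rfl
  have hι : Function.Injective ι := fun a b e =>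
    Subtype.ext (Subtype.ext (show ((a : L) : G) = ((b : L) : G) from congrArg (fun y : K => (y : G)) e))
  set N := ι.range with hN
  have hNcard : Nat.card N = 4 := by
    rw [← Nat.card_congr (MonoidHom.ofInjective hι).toEquiv]; exact S.four.2.2.1
  haveI : N.Normal := ⟨by
    rintro _ ⟨c, rfl⟩ k
    have e : Commute k (ι c) := Subtype.ext (commute_L k.2 (c : L)).eq.symm
    rw [e.eq, mul_inv_cancel_right]
    exact ⟨c, rfl⟩⟩
  have hNodd : Odd N.index := by
    rw [← Nat.not_even_iff_odd, even_iff_two_dvd, Subgroup.index_eq_card]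
    intro h
    obtain ⟨q, hq⟩ := exists_prime_orderOf_dvd_card' 2 h
    obtain ⟨k, rfl⟩ := QuotientGroup.mk_surjective q
    have hq2 : k * k ∈ N := (QuotientGroup.eq_one_iff _).1 (by
      rw [QuotientGroup.mk_mul, ← pow_two, ← hq, pow_orderOf_eq_one])
    have h8 : (k * k) ^ 4 = 1 := by
      have e : (⟨k * k, hq2⟩ : N) ^ Nat.card N = 1 := pow_card_eq_one'
      rw [hNcard] at e
      exact congrArg Subtype.val e
    obtain ⟨c, hc, he⟩ := S.two_cent 3 k.2 (by
      have := congrArg Subtype.val h8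
      rw [SubmonoidClass.coe_pow, Subgroup.coe_mul, ← pow_two, ← pow_mul] at this
      simpa using this)
    have hkN : k ∈ N := ⟨⟨c, hc⟩, Subtype.ext he.symm⟩
    rw [(QuotientGroup.eq_one_iff k).2 hkN, orderOf_one] at hq
    omega
  obtain ⟨H, hH⟩ := Subgroup.exists_right_complement'_of_coprime (N := N) (by
    rw [hNcard, show (4 : ℕ) = 2 ^ 2 from rfl]
    exact (Nat.coprime_two_left.2 hNodd).pow_left 2)
  have hHcard : Nat.card H = N.index := by
    have h1 := hH.card_mul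
    rw [← N.card_mul_index] at h1
    exact Nat.eq_of_mul_eq_mul_left (by rw [hNcard]; norm_num) h1
  have hHodd : Odd (Nat.card H) := hHcard ▸ hNodd
  refine ⟨H.map K.subtype, by rwa [Subgroup.card_map_of_injective K.subtype_injective],
    fun x => ⟨?_, ?_⟩, fun k hk => ?_⟩
  · rintro ⟨h, hh, rfl⟩
    refine ⟨h.2, hHodd.of_dvd_nat ?_⟩
    rw [orderOf_injective K.subtype K.subtype_injective, ← Subgroup.orderOf_mk (ha := hh)]
    exact orderOf_dvd_natCard _
  · rintro ⟨hx, ho⟩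
    obtain ⟨⟨⟨a, ha⟩, b⟩, hab⟩ := hH.2 ⟨x, hx⟩
    have hcomm : Commute a (b : K) := by
      obtain ⟨c, rfl⟩ := ha
      exact Subtype.ext (commute_L (b : K).2 (c : L)).eq
    set n := orderOf x * Nat.card H with hn
    have hx1 : (⟨x, hx⟩ : K) ^ n = 1 := Subtype.ext (by
      simp [hn, pow_mul, pow_orderOf_eq_one])
    have hb1 : (b : K) ^ n = 1 := by
      rw [hn, mul_comm, pow_mul, ← SubmonoidClass.coe_pow, pow_card_eq_one']; simp
    have ha1 : a ^ n = 1 := by
      have e : (a * (b : K)) ^ n = 1 := by rw [show a * (b : K) = ⟨x, hx⟩ from hab, hx1]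
      rwa [hcomm.mul_pow, hb1, mul_one] at e
    have ha4 : a ^ 4 = 1 := by
      have e : (⟨a, ha⟩ : N) ^ Nat.card N = 1 := pow_card_eq_one'
      rw [hNcard] at e
      exact congrArg Subtype.val e
    have haone : a = 1 := by
      rw [← orderOf_eq_one_iff]
      refine Nat.eq_one_of_dvd_coprimes (Nat.Coprime.pow_right 2 (Nat.coprime_two_right.2 (ho.mul hHodd)))
        (orderOf_dvd_of_pow_eq_one ha1) (orderOf_dvd_of_pow_eq_one ha4)
    refine ⟨b, b.2, ?_⟩
    have e := congrArg Subtype.val (show a * (b : K) = ⟨x, hx⟩ from hab)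
    simpa [haone] using e
  · obtain ⟨⟨⟨a, ha⟩, b⟩, hab⟩ := hH.2 ⟨k, hk⟩
    obtain ⟨c, rfl⟩ := ha
    exact ⟨c, c.2, _, ⟨b, b.2, rfl⟩, (congrArg Subtype.val hab :).symm⟩

/-- The odd part of the centraliser of `L`. -/
noncomputable def oddPart (S : Setting L ζ) : Subgroup G := S.exists_oddPart.choose

theorem odd_oddPart (S : Setting L ζ) : Odd (Nat.card S.oddPart) := S.exists_oddPart.choose_spec.1

theorem mem_oddPart (S : Setting L ζ) {x : G} :
    x ∈ S.oddPart ↔ x ∈ centralizer (L : Set G) ∧ Odd (orderOf x) :=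
  S.exists_oddPart.choose_spec.2.1 x

theorem oddPart_le (S : Setting L ζ) {x : G} (h : x ∈ S.oddPart) : x ∈ centralizer (L : Set G) :=
  (S.mem_oddPart.1 h).1

theorem oddPart_meet (S : Setting L ζ) {l : L} (h : (l : G) ∈ S.oddPart) : l = 1 := by
  have h4 : orderOf l ∣ 2 ^ 2 := orderOf_dvd_of_pow_eq_one (by
    obtain ⟨i, rfl⟩ := Subgroup.mem_zpowers_iff.1 (S.gen ▸ meet (S.oddPart_le h))
    rw [← zpow_natCast, ← zpow_mul, mul_comm, zpow_mul, zpow_natCast,
      show (2 : ℕ) ^ 2 = 4 from rfl, S.zeta_four, one_zpow])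
  have ho : Odd (orderOf l) := Subgroup.orderOf_coe l ▸ (S.mem_oddPart.1 h).2
  exact orderOf_eq_one_iff.1
    (Nat.eq_one_of_dvd_coprimes ((Nat.coprime_two_right.2 ho).pow_right 2) dvd_rfl h4)

/-- The inner part is `L` times the odd part. -/
theorem decomp (S : Setting L ζ) {x : G} (hx : x ∈ LK L) : ∃ (l : L) (d : G), d ∈ S.oddPart ∧ x = l * d := by
  obtain ⟨l, k, hk, rfl⟩ := hx
  obtain ⟨c, -, d, hd, rfl⟩ := S.exists_oddPart.choose_spec.2.2 k hk
  exact ⟨l * c, d, hd, by rw [Subgroup.coe_mul, mul_assoc]⟩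

/-- An inner element with square in `L` lies in `L`. -/
theorem root_mem (S : Setting L ζ) {x : G} (hx : x ∈ LK L) (h2 : x * x ∈ L) : x ∈ L := by
  obtain ⟨l, d, hd, rfl⟩ := S.decomp hx
  have hc : Commute (l : G) d := commute_L (S.oddPart_le hd) l
  rw [hc.symm.mul_mul_mul_comm] at h2
  have h3 : d * d ∈ L := by
    have := L.mul_mem (L.inv_mem (L.mul_mem l.2 l.2)) h2
    rwa [inv_mul_cancel_left] at this
  have e := S.oddPart_meet (l := ⟨d * d, h3⟩) (mul_mem hd hd)
  have e' : d * d = 1 := congrArg Subtype.val e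
  obtain ⟨j, hj⟩ := (S.mem_oddPart.1 hd).2
  have hd1 : d = 1 := by
    have := pow_orderOf_eq_one d
    rwa [hj, pow_succ, pow_mul, pow_two, e', one_pow, one_mul] at this
  rw [hd1, mul_one]
  exact l.2

theorem oddPart_norm (S : Setting L ζ) {c : G} (hc : Commute c (zc ζ)) {d : G} (hd : d ∈ S.oddPart) :
    c * d * c⁻¹ ∈ S.oddPart := by
  obtain ⟨hdK, ho⟩ := S.mem_oddPart.1 hd
  exact S.mem_oddPart.2 ⟨S.conj_cent hc hdK, by rwa [Invol.orderOf_conj_eq]⟩

/-- An exchanging element normalises the odd part. -/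
theorem swap_norm (S : Setting L ζ) {s : L} (hs : Inner s) {h : G} (h1 : h * zc ζ * h⁻¹ = s)
    (h3 : h * s * h⁻¹ = zc ζ) {d : G} (hd : d ∈ S.oddPart) : h * d * h⁻¹ ∈ S.oddPart := by
  obtain ⟨hdK, ho⟩ := S.mem_oddPart.1 hd
  obtain ⟨hz, hsc⟩ := swap_commute h1 h3 (S.z_commute_cent hdK) (commute_L hdK s).symm
  have ho' : Odd (orderOf (h * d * h⁻¹)) := by rwa [Invol.orderOf_conj_eq]
  obtain ⟨l, d', hd', e⟩ := S.decomp (S.odd_mem hz ho')
  have hls : l ∈ StdON.cent s := mem_cent_iff.2 (by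
    have e' := (e ▸ hsc).mul_left (commute_L (S.oddPart_le hd') s).symm.inv_left
    rwa [mul_inv_cancel_right] at e')
  set N := Nat.card S.oddPart with hN
  have hN1 : ∀ y ∈ S.oddPart, y ^ N = 1 := fun y hy =>
    (congrArg Subtype.val (pow_card_eq_one' (x := (⟨y, hy⟩ : S.oddPart))) :)
  have hl : l ^ N = 1 := by
    refine Subtype.ext ?_
    have e' : (h * d * h⁻¹) ^ N = 1 := by rw [conj_pow, hN1 d hd, mul_one, mul_inv_cancel]
    rw [e, (commute_L (S.oddPart_le hd') l).mul_pow, hN1 d' hd', mul_one] at e'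
    simpa using e'
  have hl1 : l = 1 := orderOf_eq_one_iff.1 (Nat.eq_one_of_dvd_coprimes
    ((Nat.coprime_two_right.2 S.odd_oddPart).pow_right 7) (orderOf_dvd_of_pow_eq_one hl)
    (orderOf_dvd_of_pow_eq_one (S.pow_card_cent hs hls)))
  rw [e, hl1, Subgroup.coe_one, one_mul]
  exact hd'

/-- An exchanging element lies in the normaliser of the odd part. -/
theorem swap_mem (S : Setting L ζ) {s : L} (hs : Inner s) {h : G} (h1 : h * zc ζ * h⁻¹ = s)
    (h3 : h * s * h⁻¹ = zc ζ) : h ∈ Subgroup.normalizer (S.oddPart : Set G) := by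
  refine Subgroup.mem_normalizer_iff.2 fun x => ⟨S.swap_norm hs h1 h3, fun hx => ?_⟩
  have hh : h⁻¹ * zc ζ * h⁻¹⁻¹ = s ∧ h⁻¹ * s * h⁻¹⁻¹ = zc ζ := by
    rw [inv_inv]
    exact ⟨by rw [← h3]; group, by rw [← h1]; group⟩
  have := S.swap_norm hs hh.1 hh.2 hx
  simpa [mul_assoc] using this

theorem cent_mem (S : Setting L ζ) {c : G} (hc : Commute c (zc ζ)) :
    c ∈ Subgroup.normalizer (S.oddPart : Set G) := by
  refine Subgroup.mem_normalizer_iff.2 fun x => ⟨S.oddPart_norm hc, fun hx => ?_⟩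
  have := S.oddPart_norm hc.inv_left hx
  simpa [mul_assoc] using this

end CfsgLib.StdON.Setting
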