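import Cfsg.Agent.Lib.StdON.Centralizer

/-!
# A complement to the odd part in the centraliser of `z`

`comp` is `L` times a Sylow two-subgroup of the centraliser of `z`; that centraliser is `comp` times the odd part,
so counting modulo the odd part is counting in `comp`, a union of at most four cosets of `L`.
-/

set_option autoImplicit false

universe u

namespace CfsgLib.StdON.Setting

open Subgroup

variable {G : Type u} [Group G] [Finite G] [IsSimpleGroup G] {L : Subgroup G} {ζ : L}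

/-- A Sylow two-subgroup of the centraliser of `z`. -/
noncomputable def syl (_S : Setting L ζ) : Sylow 2 (centralizer ({zc ζ} : Set G)) := Classical.arbitrary _

/-- The same inside `G`. -/
noncomputable def sylG (S : Setting L ζ) : Subgroup G :=
  (S.syl : Subgroup (centralizer ({zc ζ} : Set G))).map (centralizer ({zc ζ} : Set G)).subtype

theorem sylG_commute (S : Setting L ζ) {x : G} (hx : x ∈ S.sylG) : Commute x (zc ζ) := by
  obtain ⟨x, -, rfl⟩ := hx
  exact mem_centralizer_singleton_iff.1 x.2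

theorem sylG_two (S : Setting L ζ) {x : G} (hx : x ∈ S.sylG) : ∃ m, x ^ 2 ^ m = 1 := by
  obtain ⟨y, hy, rfl⟩ := hx
  obtain ⟨m, hm⟩ := S.syl.isPGroup' ⟨y, hy⟩
  exact ⟨m, congrArg (fun w : (S.syl : Subgroup (centralizer ({zc ζ} : Set G))) => ((w : centralizer ({zc ζ} : Set G)) : G)) hm⟩

/-- A two-element acting innerly lies in `L`. -/
theorem two_mem (S : Setting L ζ) {x : G} (hx : x ∈ LK L) (h2 : ∃ m, x ^ 2 ^ m = 1) : x ∈ L := by
  obtain ⟨m, hm⟩ := h2
  induction m generalizing x with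
  | zero => rw [pow_zero, pow_one] at hm; rw [hm]; exact L.one_mem
  | succ m ih => exact S.root_mem hx (ih (mul_mem hx hx) (by rwa [pow_succ' 2 m, pow_mul, pow_two] at hm))

/-- `L` times the Sylow two-subgroup. -/
noncomputable def comp (S : Setting L ζ) : Subgroup G where
  carrier := {x | ∃ l : L, ∃ σ ∈ S.sylG, x = l * σ}
  one_mem' := ⟨1, 1, one_mem _, by simp⟩
  mul_mem' := by
    rintro x y ⟨l, σ, hσ, rfl⟩ ⟨l', σ', hσ', rfl⟩
    refine ⟨l * S.conjL σ (S.sylG_commute hσ) l', σ * σ', mul_mem hσ hσ', ?_⟩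
    rw [Subgroup.coe_mul, conjL_coe]; group
  inv_mem' := by
    rintro x ⟨l, σ, hσ, rfl⟩
    refine ⟨S.conjL σ⁻¹ (S.sylG_commute (inv_mem hσ)) l⁻¹, σ⁻¹, inv_mem hσ, ?_⟩
    rw [conjL_coe, Subgroup.coe_inv]; group

theorem le_comp (S : Setting L ζ) (l : L) : (l : G) ∈ S.comp := ⟨l, 1, one_mem _, by simp⟩

theorem sylG_le_comp (S : Setting L ζ) {σ : G} (hσ : σ ∈ S.sylG) : σ ∈ S.comp := ⟨1, σ, hσ, by simp⟩

theorem comp_commute (S : Setting L ζ) {x : G} (hx : x ∈ S.comp) : Commute x (zc ζ) := by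
  obtain ⟨l, σ, hσ, rfl⟩ := hx
  exact (S.z_commute_L l).mul_left (S.sylG_commute hσ)

theorem comp_LK (S : Setting L ζ) {x : G} (hx : x ∈ S.comp) (hi : x ∈ LK L) : x ∈ L := by
  obtain ⟨l, σ, hσ, rfl⟩ := hx
  refine L.mul_mem l.2 (S.two_mem ?_ (S.sylG_two hσ))
  have := mul_mem (inv_mem (le_LK l)) hi
  rwa [inv_mul_cancel_left] at this

theorem comp_sq (S : Setting L ζ) {x : G} (hx : x ∈ S.comp) : x * x ∈ L :=
  S.comp_LK (mul_mem hx hx) (S.sq_mem (S.comp_commute hx))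

theorem comp_oddPart (S : Setting L ζ) {x : G} (hx : x ∈ S.comp) (hd : x ∈ S.oddPart) : x = 1 :=
  congrArg Subtype.val (S.oddPart_meet (l := ⟨x, S.comp_LK hx (cent_le_LK (S.oddPart_le hd))⟩) hd)

/-- The centraliser of `z` is `comp` times the odd part. -/
theorem comp_decomp (S : Setting L ζ) {c : G} (hc : Commute c (zc ζ)) :
    ∃ t ∈ S.comp, ∃ d ∈ S.oddPart, c = t * d := by
  haveI : Fact (Nat.Prime 2) := ⟨Nat.prime_two⟩
  set C := centralizer ({zc ζ} : Set G)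
  set N := (LK L).comap C.subtype with hN
  haveI : N.Normal := ⟨fun a ha b => S.conj_LK (mem_centralizer_singleton_iff.1 b.2) ha⟩
  have hquot : IsPGroup 2 (C ⧸ N) := fun q => by
    obtain ⟨a, rfl⟩ := QuotientGroup.mk_surjective q
    exact ⟨1, (QuotientGroup.eq_one_iff _).2 (by
      show a ^ (2 ^ 1) ∈ N
      rw [pow_one, pow_two]; exact S.sq_mem (mem_centralizer_singleton_iff.1 a.2))⟩
  have htop : (S.syl : Subgroup C) ⊔ N = ⊤ := by
    obtain ⟨n, hn⟩ := IsPGroup.iff_card.1 hquot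
    have h1 : ((S.syl : Subgroup C) ⊔ N).index ∣ (S.syl : Subgroup C).index := index_dvd_of_le le_sup_left
    have h2 : ((S.syl : Subgroup C) ⊔ N).index ∣ 2 ^ n := by
      rw [← hn, ← Subgroup.index_eq_card]
      exact index_dvd_of_le le_sup_right
    refine Subgroup.index_eq_one.1 (Nat.eq_one_of_dvd_coprimes ?_ h1 h2)
    exact ((Nat.Prime.coprime_iff_not_dvd Nat.prime_two).2 S.syl.not_dvd_index).symm.pow_right n
  obtain ⟨σ, hσ, k, hk, hσk⟩ := Subgroup.mem_sup_of_normal_right.1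
    (htop ▸ Subgroup.mem_top (⟨c, mem_centralizer_singleton_iff.2 hc.eq⟩ : C))
  obtain ⟨l, d, hd, hkd⟩ := S.decomp (x := (k : G)) hk
  refine ⟨σ * l, mul_mem (S.sylG_le_comp ⟨σ, hσ, rfl⟩) (S.le_comp l), d, hd, ?_⟩
  rw [mul_assoc, ← hkd]
  exact (congrArg Subtype.val hσk).symm

/-- Two of five elements of `comp` are congruent modulo `L`. -/
theorem comp_five (S : Setting L ζ) (x : Fin 5 → G) (hx : ∀ i, x i ∈ S.comp) :
    ∃ i j, i ≠ j ∧ (x i)⁻¹ * x j ∈ L := by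
  obtain ⟨i, j, hij, h⟩ := S.afacts.four fun i => S.conjL (x i) (S.comp_commute (hx i))
  refine ⟨i, j, hij, S.comp_LK (mul_mem (inv_mem (hx i)) (hx j)) ?_⟩
  have hc := S.comp_commute (mul_mem (inv_mem (hx i)) (hx j))
  refine (S.inner_iff hc).1 ?_
  have e : S.conjL ((x i)⁻¹ * x j) hc =
      (S.conjL (x i) (S.comp_commute (hx i)))⁻¹ * S.conjL (x j) (S.comp_commute (hx j)) :=
    eq_inv_mul_of_mul_eq (MulEquiv.ext fun m => Subtype.ext (by
      rw [MulAut.mul_apply, conjL_coe, conjL_coe, conjL_coe]; group))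
  rwa [e]

/-- Counting modulo the odd part is counting in `comp`. -/
theorem ncard_mod (S : Setting L ζ) (s : L) (P : G → G) (hP : ∀ (t d : G), t ∈ S.comp → d ∈ S.oddPart →
    ∃ d' ∈ S.oddPart, P (t * d) = P t * d') (w : G) (hw : w ∈ S.comp) (hPc : ∀ t ∈ S.comp, P t ∈ S.comp) :
    {c : G | Commute c (zc ζ) ∧ Commute c (s : G) ∧ w⁻¹ * P c ∈ S.oddPart}.ncard =
      {t : G | t ∈ S.comp ∧ Commute t (s : G) ∧ P t = w}.ncard * Nat.card S.oddPart := by
  let X := {c : G | Commute c (zc ζ) ∧ Commute c (s : G) ∧ w⁻¹ * P c ∈ S.oddPart}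
  let Y := {t : G | t ∈ S.comp ∧ Commute t (s : G) ∧ P t = w}
  have hds : ∀ d ∈ S.oddPart, Commute d (s : G) ∧ Commute d (zc ζ) := fun d hd =>
    ⟨(commute_L (S.oddPart_le hd) s).symm, S.z_commute_cent (S.oddPart_le hd)⟩
  let F : Y × S.oddPart → X := fun p => ⟨p.1.1 * p.2.1,
    (S.comp_commute p.1.2.1).mul_left (hds _ p.2.2).2, p.1.2.2.1.mul_left (hds _ p.2.2).1, by
      obtain ⟨d', hd', e⟩ := hP _ _ p.1.2.1 p.2.2
      rw [e, p.1.2.2.2, inv_mul_cancel_left]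
      exact hd'⟩
  rw [← Nat.card_coe_set_eq, ← Nat.card_coe_set_eq, ← Nat.card_prod]
  refine (Nat.card_eq_of_bijective F ⟨?_, ?_⟩).symm
  · rintro ⟨⟨t, ht⟩, ⟨d, hd⟩⟩ ⟨⟨t', ht'⟩, ⟨d', hd'⟩⟩ e
    have e' : t * d = t' * d' := congrArg Subtype.val e
    have e2 : t'⁻¹ * t = d' * d⁻¹ := by
      rw [eq_mul_inv_iff_mul_eq, mul_assoc, e', inv_mul_cancel_left]
    have h1 := S.comp_oddPart (mul_mem (inv_mem ht'.1) ht.1) (e2 ▸ mul_mem hd' (inv_mem hd))
    obtain rfl : t' = t := inv_mul_eq_one.1 h1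
    obtain rfl : d = d' := mul_left_cancel e'
    rfl
  · rintro ⟨c, hcz, hcs, hc⟩
    obtain ⟨t, ht, d, hd, rfl⟩ := S.comp_decomp hcz
    obtain ⟨d', hd', e⟩ := hP t d ht hd
    have hts : Commute t (s : G) := by
      have := hcs.mul_left (hds d hd).1.inv_left
      rwa [mul_inv_cancel_right] at this
    have h1 : w⁻¹ * P t ∈ S.oddPart := by
      have := mul_mem hc (inv_mem hd')
      rwa [e, ← mul_assoc, mul_inv_cancel_right] at this
    have h2 := S.comp_oddPart (mul_mem (inv_mem hw) (hPc t ht)) h1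
    exact ⟨⟨⟨t, ht, hts, (inv_mul_eq_one.1 h2).symm⟩, ⟨d, hd⟩⟩, rfl⟩

theorem norm_conj (S : Setting L ζ) {h d : G} (hh : h ∈ Subgroup.normalizer (S.oddPart : Set G)) :
    h * d * h⁻¹ ∈ S.oddPart ↔ d ∈ S.oddPart := (Subgroup.mem_normalizer_iff.1 hh d).symm

theorem sq_modD (S : Setting L ζ) {t d : G} (ht : t ∈ S.comp) (hd : d ∈ S.oddPart) :
    ∃ d' ∈ S.oddPart, t * d * (t * d) = t * t * d' := by
  refine ⟨t⁻¹ * d * t * d, mul_mem ?_ hd, by group⟩
  simpa using S.oddPart_norm (S.comp_commute (inv_mem ht)) hd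

/-- An exchanging element equates the roots in `comp`. -/
theorem roots_swap (S : Setting L ζ) {s : L} (hs : Inner s) :
    {t : G | t ∈ S.comp ∧ Commute t (s : G) ∧ t * t = zc ζ}.ncard =
      {t : G | t ∈ S.comp ∧ Commute t (s : G) ∧ t * t = (s : G)}.ncard ∧
    {t : G | t ∈ S.comp ∧ Commute t (s : G) ∧ t * t * (t * t) = zc ζ}.ncard =
      {t : G | t ∈ S.comp ∧ Commute t (s : G) ∧ t * t * (t * t) = (s : G)}.ncard := by
  obtain ⟨h, h1, h3⟩ := S.exists_swap hs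
  have hh := S.swap_mem hs h1 h3
  have key : ∀ P : G → G, (∀ g c, P (g * c * g⁻¹) = g * P c * g⁻¹) →
      (∀ t d, t ∈ S.comp → d ∈ S.oddPart → ∃ d' ∈ S.oddPart, P (t * d) = P t * d') →
      (∀ t ∈ S.comp, P t ∈ S.comp) →
      {t : G | t ∈ S.comp ∧ Commute t (s : G) ∧ P t = zc ζ}.ncard =
        {t : G | t ∈ S.comp ∧ Commute t (s : G) ∧ P t = (s : G)}.ncard := by
    intro P hPg hP hPc
    refine Nat.eq_of_mul_eq_mul_right (Nat.card_pos (α := S.oddPart)) ?_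
    rw [← S.ncard_mod s P hP (zc ζ) (S.le_comp (ζ * ζ)) hPc, ← S.ncard_mod s P hP _ (S.le_comp s) hPc]
    set c0 : G ≃* G := MulAut.conj h with hc0
    rw [← Set.ncard_image_of_injective _ c0.injective]
    congr 1
    ext c
    obtain ⟨c, rfl⟩ := c0.surjective c
    rw [c0.injective.mem_set_image]
    simp only [hc0, MulAut.conj_apply, Set.mem_ofPred_eq, hPg]
    have e : (s : G)⁻¹ * (h * P c * h⁻¹) = h * ((zc ζ)⁻¹ * P c) * h⁻¹ := by rw [← h1]; group
    rw [e, S.norm_conj hh]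
    refine ⟨fun ⟨a, b, d⟩ => ⟨(swap_commute h1 h3 a b).1, (swap_commute h1 h3 a b).2, d⟩, fun ⟨a, b, d⟩ => ?_⟩
    have h1' : h⁻¹ * zc ζ * h⁻¹⁻¹ = s := by rw [← h3]; group
    have h3' : h⁻¹ * s * h⁻¹⁻¹ = zc ζ := by rw [← h1]; group
    have h' := swap_commute h1' h3' a b
    have hc : h⁻¹ * (h * c * h⁻¹) * h⁻¹⁻¹ = c := by group
    rw [hc] at h'
    exact ⟨h'.1, h'.2, d⟩
  refine ⟨key (fun t => t * t) (fun g c => by group) (fun t d => S.sq_modD) (fun t ht => mul_mem ht ht),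
    key (fun t => t * t * (t * t)) (fun g c => by group) (fun t d ht hd => ?_)
      (fun t ht => mul_mem (mul_mem ht ht) (mul_mem ht ht))⟩
  obtain ⟨d1, hd1, e⟩ := S.sq_modD ht hd
  obtain ⟨d2, hd2, e2⟩ := S.sq_modD (mul_mem ht ht) hd1
  exact ⟨d2, hd2, by rw [e, e2]⟩

/-- An element exchanging `z` with an inner involution moves some involution to an outer one. -/
theorem exists_moved (S : Setting L ζ) {s : L} (hs : Inner s) {h : G} (h1 : h * zc ζ * h⁻¹ = s)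
    (h3 : h * s * h⁻¹ = zc ζ) : ∃ c ∈ StdON.cent s, c * c = 1 ∧ h * (c : G) * h⁻¹ ∉ LK L := by
  by_contra hno
  push Not at hno
  have hgen : ∀ v : L, v ∈ centOmega s → ∃ v' : L, v' ∈ centOmega s ∧ (v' : G) = h * v * h⁻¹ := by
    intro v hv
    induction hv using Subgroup.closure_induction with
    | mem c hc =>
      have hsw := swap_commute h1 h3 (S.z_commute_L c) (mem_cent_iff.1 hc.1)
      have hc2 : h * (c : G) * h⁻¹ * (h * c * h⁻¹) = 1 := by
        rw [show h * (c : G) * h⁻¹ * (h * c * h⁻¹) = h * ((c : G) * c) * h⁻¹ by group,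
          show (c : G) * c = 1 from congrArg Subtype.val hc.2]
        group
      have hL : h * (c : G) * h⁻¹ ∈ L := S.root_mem (hno c hc.1 hc.2) (hc2 ▸ L.one_mem)
      exact ⟨⟨_, hL⟩, subset_closure ⟨mem_cent_iff.2 hsw.2, Subtype.ext hc2⟩, rfl⟩
    | one => exact ⟨1, one_mem _, by simp⟩
    | mul a b _ _ ha hb =>
      obtain ⟨a', ha', ea⟩ := ha
      obtain ⟨b', hb', eb⟩ := hb
      exact ⟨a' * b', mul_mem ha' hb', by rw [Subgroup.coe_mul, Subgroup.coe_mul, ea, eb]; group⟩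
    | inv a _ ha =>
      obtain ⟨a', ha', ea⟩ := ha
      exact ⟨a'⁻¹, inv_mem ha', by rw [Subgroup.coe_inv, Subgroup.coe_inv, ea]; group⟩
  choose f hf hfe using hgen
  let F : centOmega s → centOmega s := fun v => ⟨f v v.2, hf v v.2⟩
  have hFi : Function.Injective F := fun a b e => by
    have e' : h * ((a : L) : G) * h⁻¹ = h * ((b : L) : G) * h⁻¹ := by
      rw [← hfe a a.2, ← hfe b b.2]
      exact congrArg (fun w : centOmega s => ((w : L) : G)) e
    exact Subtype.ext (Subtype.ext (mul_left_cancel (mul_right_cancel e')))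
  refine S.lfacts.roots_omega s hs (ζ * ζ) S.zL_center S.zL_ne_one S.zL_sq ?_
  refine Set.ncard_congr (fun v hv => f v hv.1) (fun v hv => ⟨hf v hv.1, ?_⟩) (fun a b ha hb e => ?_) ?_
  · refine Subtype.ext ?_
    rw [Subgroup.coe_mul, hfe, ← h1, z_coe, ← hv.2, Subgroup.coe_mul]
    group
  · exact congrArg Subtype.val (hFi (a₁ := ⟨a, ha.1⟩) (a₂ := ⟨b, hb.1⟩) (Subtype.ext e))
  · intro b hb
    obtain ⟨a, ha⟩ := (Finite.injective_iff_surjective.1 hFi) ⟨b, hb.1⟩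
    have hba : f a.1 a.2 = b := congrArg Subtype.val ha
    refine ⟨a, ⟨a.2, ?_⟩, hba⟩
    refine Subtype.ext ?_
    have e : h * (((a : L) : G) * (a : L)) * h⁻¹ = h * zc ζ * h⁻¹ := by
      rw [h1, ← congrArg Subtype.val hb.2, Subgroup.coe_mul, ← hba, hfe]
      group
    exact mul_left_cancel (mul_right_cancel e)

/-- An outer conjugate of `z` inverts the centre. -/
theorem outer_inverts (S : Setting L ζ) {g : G} (hg : Commute (g * zc ζ * g⁻¹) (zc ζ))
    (hout : g * zc ζ * g⁻¹ ∉ LK L) : g * zc ζ * g⁻¹ * ζ * (g * zc ζ * g⁻¹)⁻¹ = (ζ : G)⁻¹ := by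
  refine (S.conj_zeta hg).resolve_left fun hc => hout ?_
  have h := S.sq_mem (commute_back g (commute_of_conj_eq hc).symm)
  rw [show g⁻¹ * (ζ : G) * g * (g⁻¹ * ζ * g) = g⁻¹ * ((ζ : G) * ζ) * g⁻¹⁻¹ by group] at h
  have := S.back_inner h
  rwa [inv_inv] at this

/-- Some conjugate of `z`, by an element normalising the odd part, lies in `comp` outside `L`. -/
theorem exists_fused (S : Setting L ζ) : ∃ g ∈ Subgroup.normalizer (S.oddPart : Set G),
    g * zc ζ * g⁻¹ ∈ S.comp ∧ g * zc ζ * g⁻¹ ∉ L ∧ g * zc ζ * g⁻¹ * ζ * (g * zc ζ * g⁻¹)⁻¹ = (ζ : G)⁻¹ := by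
  haveI : Fact (Nat.Prime 2) := ⟨Nat.prime_two⟩
  obtain ⟨s, hs⟩ := S.exists_inner
  obtain ⟨h, h1, h3⟩ := S.exists_swap hs
  obtain ⟨c, hc, hc2, hout⟩ := S.exists_moved hs h1 h3
  have hci : Inner c := by
    refine ⟨hc2, fun hcc => hout ?_⟩
    rcases S.center_invol hcc hc2 with e | e <;> rw [e]
    · simp
    · rw [← z_coe, h1]; exact le_LK s
  obtain ⟨k, hk1, hk3⟩ := S.exists_swap hci
  have hgN : h * k ∈ Subgroup.normalizer (S.oddPart : Set G) := mul_mem (S.swap_mem hs h1 h3) (S.swap_mem hci hk1 hk3)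
  have hge : h * k * zc ζ * (h * k)⁻¹ = h * c * h⁻¹ := by rw [← hk1]; group
  have hez : Commute (h * (c : G) * h⁻¹) (zc ζ) :=
    (swap_commute h1 h3 (S.z_commute_L c) (mem_cent_iff.1 hc)).1
  set C := centralizer ({zc ζ} : Set G)
  let eC : C := ⟨h * c * h⁻¹, mem_centralizer_singleton_iff.2 hez.eq⟩
  have heC : eC ^ 2 = 1 := Subtype.ext (by
    show (h * (c : G) * h⁻¹) ^ 2 = 1
    rw [conj_pow, pow_two, show (c : G) * c = 1 from congrArg Subtype.val hc2]; simp)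
  obtain ⟨P, hP⟩ : ∃ P : Sylow 2 C, eC ∈ P := by
    obtain ⟨k, -, hk⟩ := (Nat.dvd_prime_pow Nat.prime_two).1
      (orderOf_dvd_of_pow_eq_one (n := 2 ^ 1) (by rw [pow_one]; exact heC) : orderOf eC ∣ 2 ^ 1)
    obtain ⟨P, hP⟩ := (IsPGroup.of_card (n := k) (by rw [Nat.card_zpowers, hk]) :
      IsPGroup 2 (Subgroup.zpowers eC)).exists_le_sylow
    exact ⟨P, hP (mem_zpowers _)⟩
  obtain ⟨γ, hγ⟩ := MulAction.exists_smul_eq C P S.syl
  have hmem : γ * eC * γ⁻¹ ∈ (S.syl : Subgroup C) := by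
    rw [← hγ, Sylow.coe_subgroup_smul]
    exact ⟨_, hP, rfl⟩
  have hγz : Commute (γ : G) (zc ζ) := mem_centralizer_singleton_iff.1 γ.2
  have heq : (γ : G) * (h * k) * zc ζ * ((γ : G) * (h * k))⁻¹ = (γ * eC * γ⁻¹ : C) := by
    show _ = (γ : G) * (h * c * h⁻¹) * (γ : G)⁻¹
    rw [← hge]; group
  have hout' : (γ : G) * (h * k) * zc ζ * ((γ : G) * (h * k))⁻¹ ∉ LK L := fun hi => hout (by
    have := S.conj_LK hγz.inv_left hi
    rw [heq] at this
    simpa [eC, mul_assoc] using this)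
  have hcomp : (γ : G) * (h * k) * zc ζ * ((γ : G) * (h * k))⁻¹ ∈ S.comp :=
    heq ▸ S.sylG_le_comp ⟨_, hmem, rfl⟩
  exact ⟨γ * (h * k), mul_mem (S.cent_mem hγz) hgN, hcomp, fun hi => hout' (le_LK ⟨_, hi⟩),
    S.outer_inverts (S.comp_commute hcomp) hout'⟩

end CfsgLib.StdON.Setting
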