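import Cfsg.Agent.Lib.StdON.Setting
import Mathlib.GroupTheory.Index

/-!
# An outer element and the extension it gives

For `x` commuting with `z`, with square in `L` and acting on `L` by an outer automorphism, the subgroup of the
elements `l` and `l * x` is an extension of `L` of index two.
-/

set_option autoImplicit false

universe u v

namespace CfsgLib.StdON

open Subgroup

/-- Isomorphic groups are of the same kind. -/
theorem IsFour.of_equiv {A : Type u} {B : Type v} [Group A] [Group B] (e : A ≃* B) (h : IsFour A) : IsFour B := by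
  obtain ⟨hp, hc, h4, F, iF, iF', hF, ⟨q⟩⟩ := h
  have hmap : (Subgroup.center A).map (e : A →* B) = Subgroup.center B := by
    ext b
    simp only [Subgroup.mem_map, Subgroup.mem_center_iff]
    constructor
    · rintro ⟨a, ha, rfl⟩ g
      show g * e a = e a * g
      rw [← e.apply_symm_apply g, ← map_mul, ha, map_mul]
    · exact fun hb => ⟨e.symm b, fun g => e.injective (by simp [hb]), e.apply_symm_apply b⟩
  refine ⟨?_, ?_, ?_, F, iF, iF', hF, ⟨(QuotientGroup.congr _ _ e hmap).symm.trans q⟩⟩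
  · have h2 := congrArg (Subgroup.map (e : A →* B)) hp
    rwa [_root_.commutator_def, Subgroup.map_commutator, Subgroup.map_top_of_surjective _ e.surjective,
      ← _root_.commutator_def] at h2
  · rw [← hmap]
    haveI := hc
    exact isCyclic_of_surjective _ ((e : A →* B).subgroupMap_surjective (Subgroup.center A))
  · rw [← hmap, card_map_of_injective (f := (e : A →* B)) e.injective, h4]

theorem center_congr {A : Type u} {B : Type v} [Group A] [Group B] (e : A ≃* B) {a : A} :
    e a ∈ Subgroup.center B ↔ a ∈ Subgroup.center A := by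
  simp only [Subgroup.mem_center_iff]
  constructor
  · exact fun h g => e.injective (by rw [map_mul, map_mul, h])
  · intro h g
    rw [← e.apply_symm_apply g, ← map_mul, ← map_mul, h]

theorem Inner.map {A : Type u} {B : Type v} [Group A] [Group B] (e : A ≃* B) {s : A} (h : Inner s) :
    Inner (e s) := ⟨by rw [← map_mul, h.1, map_one], fun h' => h.2 ((center_congr e).1 h')⟩

theorem mem_cent_map {A : Type u} {B : Type v} [Group A] [Group B] (e : A ≃* B) {s c : A} :
    e c ∈ cent (e s) ↔ c ∈ cent s := by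
  simp only [cent, Subgroup.mem_centralizer_singleton_iff]
  rw [← map_mul, ← map_mul, e.injective.eq_iff]

theorem TypeB.map {A : Type u} {B : Type v} [Group A] [Group B] (e : A ≃* B) (h : TypeB A) : TypeB B := by
  obtain ⟨s, hs, l, hl, hll, hn⟩ := h
  refine ⟨e s, hs.map e, e l, (mem_cent_map e).2 hl, by rw [← map_mul, hll], fun c hc => ?_⟩
  obtain ⟨c, rfl⟩ := e.surjective c
  rcases hn c ((mem_cent_map e).1 hc) with h' | h'
  · exact .inl (by rw [← map_inv, ← map_mul, ← map_mul, h'])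
  · exact .inr (by rw [← map_inv, ← map_inv, ← map_mul, ← map_mul, h'])

variable {G : Type u} [Group G] {L : Subgroup G}

namespace Setting

variable {ζ : L}

/-- The subgroup of the elements `l` and `l * x`. -/
def ext (S : Setting L ζ) (x : G) (hx : Commute x (zc ζ)) (hx2 : x * x ∈ L) : Subgroup G where
  carrier := {y | y ∈ L ∨ y * x⁻¹ ∈ L}
  one_mem' := .inl L.one_mem
  mul_mem' := by
    have hc : ∀ y ∈ L, x * y * x⁻¹ ∈ L := fun y hy =>
      (Subgroup.mem_normalizer_iff.1 (S.cnorm x hx) y).1 hy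
    rintro a b (ha | ha) (hb | hb)
    · exact .inl (L.mul_mem ha hb)
    · exact .inr (by rw [mul_assoc]; exact L.mul_mem ha hb)
    · refine .inr ?_
      rw [show a * b * x⁻¹ = a * x⁻¹ * (x * b * x⁻¹) by group]
      exact L.mul_mem ha (hc b hb)
    · refine .inl ?_
      rw [show a * b = a * x⁻¹ * (x * (b * x⁻¹) * x⁻¹) * (x * x) by group]
      exact L.mul_mem (L.mul_mem ha (hc _ hb)) hx2
  inv_mem' := by
    rintro a (ha | ha)
    · exact .inl (L.inv_mem ha)
    · refine .inr ?_
      have h1 : x⁻¹ * (a * x⁻¹)⁻¹ * x⁻¹⁻¹ ∈ L :=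
        (Subgroup.mem_normalizer_iff.1 (S.cnorm x⁻¹ hx.inv_left) _).1 (L.inv_mem ha)
      rw [show a⁻¹ * x⁻¹ = x⁻¹ * (a * x⁻¹)⁻¹ * x⁻¹⁻¹ * (x * x)⁻¹ by group]
      exact L.mul_mem h1 (L.inv_mem hx2)

theorem le_ext (S : Setting L ζ) (x : G) (hx : Commute x (zc ζ)) (hx2 : x * x ∈ L) : L ≤ S.ext x hx hx2 :=
  fun _ hy => .inl hy

theorem self_mem_ext (S : Setting L ζ) (x : G) (hx : Commute x (zc ζ)) (hx2 : x * x ∈ L) : x ∈ S.ext x hx hx2 :=
  .inr (by rw [mul_inv_cancel]; exact L.one_mem)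

/-- `L` in the extension. -/
def extN (S : Setting L ζ) (x : G) (hx : Commute x (zc ζ)) (hx2 : x * x ∈ L) : Subgroup (S.ext x hx hx2) :=
  L.subgroupOf (S.ext x hx hx2)

/-- `L` is isomorphic to its copy in the extension. -/
noncomputable def extEquiv (S : Setting L ζ) (x : G) (hx : Commute x (zc ζ)) (hx2 : x * x ∈ L) :
    S.extN x hx hx2 ≃* L := Subgroup.subgroupOfEquivOfLe (S.le_ext x hx hx2)

theorem extEquiv_coe (S : Setting L ζ) (x : G) (hx : Commute x (zc ζ)) (hx2 : x * x ∈ L)
    (a : S.extN x hx hx2) : ((S.extEquiv x hx hx2 a : L) : G) = ((a : S.ext x hx hx2) : G) := rfl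

theorem extEquiv_symm_coe (S : Setting L ζ) (x : G) (hx : Commute x (zc ζ)) (hx2 : x * x ∈ L) (l : L) :
    (((S.extEquiv x hx hx2).symm l : S.ext x hx hx2) : G) = l := rfl

theorem notMem_of_out (S : Setting L ζ) {x : G} (hout : x ∉ LK L) {hx : Commute x (zc ζ)} {hx2 : x * x ∈ L} :
    (⟨x, S.self_mem_ext x hx hx2⟩ : S.ext x hx hx2) ∉ S.extN x hx hx2 :=
  fun h => hout (le_LK ⟨x, h⟩)

theorem ext_index (S : Setting L ζ) {x : G} (hx : Commute x (zc ζ)) (hx2 : x * x ∈ L) (hout : x ∉ LK L) :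
    (S.extN x hx hx2).index = 2 := by
  have hxL : x ∉ L := fun h => hout (le_LK ⟨x, h⟩)
  rw [Subgroup.index_eq_two_iff]
  refine ⟨⟨x, S.self_mem_ext x hx hx2⟩, fun b => ?_⟩
  show Xor ((b : G) * x ∈ L) ((b : G) ∈ L)
  rcases b.2 with hb | hb
  · refine .inr ⟨hb, fun h => hxL ?_⟩
    have := L.mul_mem (L.inv_mem hb) h
    rwa [inv_mul_cancel_left] at this
  · refine .inl ⟨?_, fun h => hxL ?_⟩
    · rw [show (b : G) * x = b * x⁻¹ * (x * x) by group]
      exact L.mul_mem hb hx2
    · have := L.mul_mem (L.inv_mem hb) h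
      rwa [_root_.mul_inv_rev, inv_inv, inv_mul_cancel_right] at this

theorem ext_normal (S : Setting L ζ) {x : G} (hx : Commute x (zc ζ)) (hx2 : x * x ∈ L) (hout : x ∉ LK L) :
    (S.extN x hx hx2).Normal := Subgroup.normal_of_index_eq_two (S.ext_index hx hx2 hout)

theorem isExt (S : Setting L ζ) {x : G} (hx : Commute x (zc ζ)) (hx2 : x * x ∈ L) (hout : x ∉ LK L) :
    IsExt (S.extN x hx hx2) := by
  refine ⟨S.four.of_equiv (S.extEquiv x hx hx2).symm, S.ext_index hx hx2 hout, fun y hy => ?_⟩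
  rcases y.2 with h | h
  · exact h
  refine absurd ?_ hout
  have hyK : (y : G) ∈ centralizer (L : Set G) := mem_centralizer_iff.2 fun l hl =>
    congrArg Subtype.val (mem_centralizer_iff.1 hy ⟨l, S.le_ext x hx hx2 hl⟩ hl)
  rw [show x = ((y : G) * x⁻¹)⁻¹ * y by group]
  exact mul_mem (inv_mem (le_LK ⟨_, h⟩)) (cent_le_LK hyK)

variable [Finite G]

theorem extFacts (S : Setting L ζ) {x : G} (hx : Commute x (zc ζ)) (hx2 : x * x ∈ L) (hout : x ∉ LK L) :
    ExtFacts (S.extN x hx hx2) := by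
  haveI := S.ext_normal hx hx2 hout
  exact S.efacts _ _ (S.isExt hx hx2 hout)

/-- An involution inverting the centre is conjugate to its product with an inner involution. -/
theorem outer_pair (S : Setting L ζ) {x : G} (hx : Commute x (zc ζ)) (h2 : x * x = 1) (hout : x ∉ LK L)
    (hinv : x * (ζ : G) * x⁻¹ ≠ ζ) :
    ∃ m : L, Inner m ∧ (m : G) ∈ closure ((fun c : G => c * c) '' {c | Commute c x}) ∧
      ∃ n : L, (n : G) * x * (n : G)⁻¹ = x * m := by
  have hx2 : x * x ∈ L := h2 ▸ L.one_mem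
  let e := S.extEquiv x hx hx2
  obtain ⟨m, hm, hmc, n, hn⟩ := (S.extFacts hx hx2 hout).outer_pair ⟨x, S.self_mem_ext x hx hx2⟩
    (S.notMem_of_out hout) (Subtype.ext h2)
    ⟨e.symm ζ, (center_congr e.symm).2 S.zeta_center, fun h => hinv (congrArg Subtype.val h)⟩
  refine ⟨e m, hm.map e, ?_, e n, congrArg Subtype.val hn⟩
  have h1 := Subgroup.mem_map_of_mem (S.ext x hx hx2).subtype hmc
  rw [MonoidHom.map_closure] at h1
  refine closure_mono ?_ h1
  rintro _ ⟨_, ⟨c, hc, rfl⟩, rfl⟩
  exact ⟨c, congrArg Subtype.val hc.eq, rfl⟩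

/-- An outer involution commutes with an element of order three of `L`. -/
theorem outer_three (S : Setting L ζ) {x : G} (hx : Commute x (zc ζ)) (h2 : x * x = 1) (hout : x ∉ LK L) :
    ∃ u : L, orderOf u = 3 ∧ Commute (u : G) x := by
  have hx2 : x * x ∈ L := h2 ▸ L.one_mem
  let e := S.extEquiv x hx hx2
  obtain ⟨u, hu, huc⟩ := (S.extFacts hx hx2 hout).outer_three ⟨x, S.self_mem_ext x hx hx2⟩
    (S.notMem_of_out hout) (Subtype.ext h2)
  exact ⟨e u, (MulEquiv.orderOf_eq e u).trans hu, congrArg Subtype.val huc.eq⟩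

end Setting

end CfsgLib.StdON
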