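import Cfsg.Agent.Lib.ONanRec.PinBase

/-!
The finite checks on the candidates that give the facts on a standard subgroup 4.L3(4).
-/

set_option autoImplicit false

namespace CfsgLib.StdON

open ONanRec ONanRec.Cert

/-- A class of outer involutions: a representative, an element of order 3 commuting with it, a conjugator to its
product with `a`, and elements commuting with it whose squares multiply to `a`. -/
structure OutRep where
  x : List ℕ
  u3 : List ℕ
  conj : List ℕ
  sqs : List (List ℕ)

/-- The lists for a candidate: the centraliser of `a` by parity and the classes of the outer involutions. -/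
structure Dat where
  De : List (List ℕ)
  Do : List (List ℕ)
  ow : List (ℕ × List ℕ)
  reps : List OutRep

namespace Dat

variable (k : Fin 12) (c : Cert) (d : Dat)

def zeroRep : OutRep := ⟨[], [], [], []⟩

def partOk (p : ℕ) (D : List (List ℕ)) : Bool :=
  Nat.beq D.length 128 &&
  (D.all fun w => wordOk w && Nat.beq (xPar w) p && c.eqB k ([0] ++ w) (w ++ [0])) &&
  incr (D.map (c.fp k))

/-- Both lists are right. -/
def listsOk : Bool := partOk k c 0 d.De && partOk k c 1 d.Do

/-- The number of square roots of `t` in a list. -/
def cnt2 (D : List (List ℕ)) (t : List ℕ) : ℕ := D.countP fun w => c.eqB k (w ++ w) t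

/-- The number of fourth roots of `t` in a list. -/
def cnt4 (D : List (List ℕ)) (t : List ℕ) : ℕ := D.countP fun w => c.eqB k (w ++ w ++ (w ++ w)) t

/-- The fourth roots of `a` outside. -/
def rootList : List (List ℕ) := d.Do.filter fun w => c.eqB k (w ++ w ++ (w ++ w)) [0]

/-- A fourth root outside has eight conjugates under the listed elements of the centraliser. -/
def smallOk (wit : List (List ℕ)) : Bool :=
  Nat.beq (rootList k c d).length wit.length &&
  (List.zip (rootList k c d) wit).all fun p =>
    Nat.beq p.2.length 8 && (p.2.all fun i => Nat.blt i d.De.length) &&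
      incr (p.2.map fun i => c.fp k (d.De.getD i [] ++ p.1 ++ iw (d.De.getD i [])))

/-- The outer involutions of the Sylow subgroup. -/
def outList : List (List ℕ) :=
  (c.pl.map c.pw).filter fun w => Nat.beq (xPar w) 1 && Nat.beq (c.fp k (w ++ w)) (c.fp k [])

/-- The witnesses reach the representatives. -/
def outOk : Bool :=
  Nat.beq (outList k c).length d.ow.length &&
  (List.zip (outList k c) d.ow).all fun p =>
    Nat.blt p.2.1 d.reps.length && wordOk p.2.2 &&
      c.eqB k (iw p.2.2 ++ p.1 ++ p.2.2) (d.reps.getD p.2.1 zeroRep).x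

/-- The representatives. -/
def repsOk : Bool :=
  d.reps.all fun r => wordOk r.x && Nat.beq (xPar r.x) 1 && c.eqB k (r.x ++ r.x) [] &&
    wordOk r.u3 && Nat.beq (xPar r.u3) 0 && c.eqB k (r.u3 ++ (r.u3 ++ r.u3)) [] && !c.eqB k r.u3 [] &&
    c.eqB k (r.u3 ++ r.x) (r.x ++ r.u3) &&
    wordOk r.conj && Nat.beq (xPar r.conj) 0 && c.eqB k (iw r.conj ++ r.x ++ r.conj) (r.x ++ [0]) &&
    (r.sqs.all fun v => wordOk v && c.eqB k (v ++ r.x) (r.x ++ v)) &&
    c.eqB k (r.sqs.flatMap fun v => v ++ v) [0]

/-- No square root of `a` commutes with a representative. -/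
def rootlessOk : Bool :=
  d.reps.all fun r => d.De.all fun l => !c.eqB k (l ++ r.x) (r.x ++ l) || !c.eqB k (l ++ l) [0]

/-- No square root of `a` is normalised by the centraliser. -/
def noTypeBOk : Bool :=
  d.De.all fun l => !c.eqB k (l ++ l) [0] ||
    d.De.any fun v => !c.eqB k (v ++ l ++ iw v) l && !c.eqB k (v ++ l ++ iw v) (iw l)

/-- The checks needed for every candidate. -/
structure Ok : Prop where
  lists : d.listsOk k c = true
  small : ∃ wit, d.smallOk k c wit = true
  out : d.outOk k c = true
  reps : d.repsOk k c = true
  o4s : cnt4 k c d.Do [0] = 32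

end Dat

end CfsgLib.StdON
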