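import Cfsg.Agent.Lib.StdON.ModelCheck
import Cfsg.Agent.Lib.StdON.ModelData.D0
import Cfsg.Agent.Lib.StdON.ModelData.D1
import Cfsg.Agent.Lib.StdON.ModelData.D2
import Cfsg.Agent.Lib.StdON.ModelData.D3
import Cfsg.Agent.Lib.StdON.ModelData.D4
import Cfsg.Agent.Lib.StdON.ModelData.D5
import Cfsg.Agent.Lib.StdON.ModelData.D6
import Cfsg.Agent.Lib.StdON.ModelData.D7
import Cfsg.Agent.Lib.StdON.ModelData.D8
import Cfsg.Agent.Lib.StdON.ModelData.D9
import Cfsg.Agent.Lib.StdON.ModelData.D10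
import Cfsg.Agent.Lib.StdON.ModelData.D11

/-!
The case distinctions over the twelve candidates.
-/

set_option autoImplicit false

namespace CfsgLib.StdON

open ONanRec

namespace Dat

/-- The outer element commutes with the centre. -/
def Central (k : Fin 12) (c : Cert) : Prop := c.eqB k [6, 4, 7] [4] = true

/-- The fourth roots of `t` outside. -/
def FourthOk (k : Fin 12) (c : Cert) (d : Dat) : Prop :=
  cnt4 k c d.Do [4, 4] = 0 ∨
    (cnt4 k c d.Do [4, 4] = 64 ∧ cnt2 k c d.Do [4, 4] = 0 ∧ cnt2 k c d.Do [0] = 0 ∧ Central k c)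

/-- The square roots outside when the centre is inverted. -/
def InvertOk (k : Fin 12) (c : Cert) (d : Dat) : Prop :=
  Central k c ∨
    (cnt2 k c d.Do [4, 4] = 0 ∧ cnt2 k c d.Do [0] = 16 ∧ (d.noTypeBOk k c = true ∨ d.reps.length ≤ 1)) ∨
    (cnt2 k c d.Do [4, 4] = 0 ∧ cnt2 k c d.Do [0] = 0 ∧ d.reps ≠ [] ∧ d.rootlessOk k c = true) ∨
    cnt2 k c d.Do [0] + 16 ≤ cnt2 k c d.Do [4, 4]

end Dat

open ONanRec.PinData ModelData

private theorem le16 {a b x y : ℕ} (hb : b = y) (ha : a = x) (h : x + 16 ≤ y) : a + 16 ≤ b := by omega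

/-- Every candidate has a certificate and lists. -/
theorem exists_dat : ∀ k : Fin 12, ∃ (c : Cert) (d : Dat), c.Ok k ∧ d.Ok k c ∧ Dat.FourthOk k c d ∧
    Dat.InvertOk k c d := by
  intro k
  fin_cases k
  · exact ⟨cert0, dat0, ok0, dok0, Or.inl fourth0,
      Or.inr (Or.inl ⟨roots0.1, roots0.2, Or.inl noTypeB0⟩)⟩
  · exact ⟨cert1, dat1, ok1, dok1, Or.inl fourth1,
      Or.inr (Or.inr (Or.inr (le16 roots1.1 roots1.2 (by norm_num))))⟩
  · exact ⟨cert2, dat2, ok2, dok2, Or.inl fourth2,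
      Or.inl central2⟩
  · exact ⟨cert3, dat3, ok3, dok3, Or.inr ⟨fourth3, roots3.1, roots3.2, central3⟩,
      Or.inl central3⟩
  · exact ⟨cert4, dat4, ok4, dok4, Or.inl fourth4,
      Or.inr (Or.inl ⟨roots4.1, roots4.2, Or.inl noTypeB4⟩)⟩
  · exact ⟨cert5, dat5, ok5, dok5, Or.inl fourth5,
      Or.inr (Or.inr (Or.inr (le16 roots5.1 roots5.2 (by norm_num))))⟩
  · exact ⟨cert6, dat6, ok6, dok6, Or.inl fourth6,
      Or.inl central6⟩
  · exact ⟨cert7, dat7, ok7, dok7, Or.inr ⟨fourth7, roots7.1, roots7.2, central7⟩,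
      Or.inl central7⟩
  · exact ⟨cert8, dat8, ok8, dok8, Or.inl fourth8,
      Or.inr (Or.inr (Or.inl ⟨roots8.1, roots8.2, by simp [dat8, reps8], rootless8⟩))⟩
  · exact ⟨cert9, dat9, ok9, dok9, Or.inl fourth9,
      Or.inr (Or.inr (Or.inr (le16 roots9.1 roots9.2 (by norm_num))))⟩
  · exact ⟨cert10, dat10, ok10, dok10, Or.inl fourth10,
      Or.inr (Or.inl ⟨roots10.1, roots10.2, Or.inr (by simp [dat10, reps10])⟩)⟩
  · exact ⟨cert11, dat11, ok11, dok11, Or.inl fourth11,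
      Or.inr (Or.inr (Or.inr (le16 roots11.1 roots11.2 (by norm_num))))⟩

end CfsgLib.StdON
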