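import Cfsg.Agent.Lib.StdON.Basic
import Cfsg.Agent.Lib.ONanRec.Cand.Exists

/-!
The automorphisms of a perfect group 4.L3(4): modulo inner ones they are the identity, the field, the dual and
their product, as the diagonal ones do not fix the cover.
-/

set_option autoImplicit false
set_option linter.unusedSectionVars false
set_option maxHeartbeats 1000000

namespace CfsgLib.StdON

attribute [local irreducible] CfsgLib.Schur.L34Data.ev ONanRec.Cand.evF ONanRec.Cand.evW

open ONanRec.Cand CfsgLib.Schur.L34Data CfsgLib.Generation CfsgLib.PSLAut Matrix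

variable {F : Type} [Field F] [Fintype F] [CharP F 2] {ω : F} {E : Type*} [Group E] [Finite E]
  {τ : E →* ProjectiveSpecialLinearGroup (Fin 3) F} {z a b : E} {h : Fin 2}

/-- An automorphism that is trivial modulo the kernel is trivial. -/
theorem eq_one_of_mod (hf : Frame ω τ z a b h) (χ : MulAut E) (hχ : ∀ w, τ (χ w) = τ w) : χ = 1 := by
  have hk : ∀ w, χ w * w⁻¹ ∈ Subgroup.center E := fun w => hf.central (by
    rw [MonoidHom.mem_ker, map_mul, map_inv, hχ, mul_inv_cancel])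
  let φ : E →* ↥(Subgroup.center E) := MonoidHom.mk' (fun w => ⟨χ w * w⁻¹, hk w⟩) fun u w =>
    Subtype.ext (by
      show χ (u * w) * (u * w)⁻¹ = χ u * u⁻¹ * (χ w * w⁻¹)
      calc χ (u * w) * (u * w)⁻¹ = χ u * (χ w * w⁻¹ * u⁻¹) := by rw [map_mul, _root_.mul_inv_rev]; group
        _ = χ u * (u⁻¹ * (χ w * w⁻¹)) := by rw [Subgroup.mem_center_iff.1 (hk w) u⁻¹]
        _ = _ := by group)
  have hφ : commutator E ≤ φ.ker := by
    rw [_root_.commutator_def, Subgroup.commutator_le]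
    intro u _ v _
    rw [MonoidHom.mem_ker, map_commutatorElement, commutatorElement_eq_one_iff_mul_comm]
    exact Subtype.ext (Subgroup.mem_center_iff.1 (φ v).2 _)
  refine MulEquiv.ext fun w => ?_
  have h1 : χ w * w⁻¹ = 1 := congrArg Subtype.val (hφ (hf.perfect.ge (Subgroup.mem_top w)))
  exact mul_inv_eq_one.1 h1

/-- Up to an inner automorphism an automorphism induces a standard one without diagonal part. -/
theorem exists_standard (hF : Fintype.card F = 4) (hω : ω * ω = 1 + ω) (hb : Function.Bijective (val4 ω))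
    (hf : Frame ω τ z a b h) (hcen : τ.ker = Subgroup.center E) (φ : MulAut E) :
    ∃ (s : E) (σ : F ≃+* F) (e : Bool),
      ∀ w, τ ((MulAut.conj s * φ) w) = bAut hω 0 σ e (τ w) := by
  have hmap : τ.ker.map φ.toMonoidHom = τ.ker := by
    rw [hcen]
    ext y
    rw [Subgroup.mem_map_equiv, Subgroup.mem_center_iff, Subgroup.mem_center_iff]
    refine ⟨fun h g => ?_, fun h g => ?_⟩
    · have e := congrArg φ (h (φ.symm g))
      simpa using e
    · apply φ.injective
      simpa using h (φ g)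
  let ψ := QuotientGroup.quotientKerEquivOfSurjective τ hf.surj
  let α : MulAut (ProjectiveSpecialLinearGroup (Fin 3) F) :=
    ψ.symm.trans ((QuotientGroup.congr τ.ker τ.ker φ hmap).trans ψ)
  have hα : ∀ w, α (τ w) = τ (φ w) := by
    intro w
    have : ψ.symm (τ w) = QuotientGroup.mk w := by rw [MulEquiv.symm_apply_eq]; rfl
    show ψ (QuotientGroup.congr τ.ker τ.ker φ hmap (ψ.symm (τ w))) = _
    rw [this]
    rfl
  obtain ⟨g, σ, e, hge⟩ : ∃ (g : GL (Fin 3) F) (σ : F ≃+* F) (e : Bool),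
      α = conjAut g * fieldAut σ * (if e then iotaAut else 1) := by
    obtain ⟨g, σ, h | ⟨-, h⟩⟩ := aut_classification (by norm_num) α
    · exact ⟨g, σ, false, by simp [h]⟩
    · exact ⟨g, σ, true, by simp [h]⟩
  obtain ⟨d, s0, hg⟩ := exists_diag hω hb g
  obtain ⟨m, hm⟩ := hf.surj (QuotientGroup.mk s0)
  have hαb : α = MulAut.conj (τ m) * bAut hω d σ e := by
    rw [hge, hg, bAut, hm]
    simp only [mul_assoc]
  set γ : MulAut E := MulAut.conj m⁻¹ * φ with hγ
  have hstd : ∀ w, τ (γ w) = bAut hω d σ e (τ w) := fun w => by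
    rw [hγ, MulAut.mul_apply, MulAut.conj_apply, map_mul, map_mul, inv_inv, map_inv, ← hα, hαb, MulAut.mul_apply,
      MulAut.conj_apply]
    group
  obtain ⟨f, hfr⟩ := exists_frob hω hb σ
  obtain ⟨L, hnil, happ, hinv, hτL, hsc, ha, hb'⟩ := hf.lift hF hω hb
  have hzc := comm_of_ker hf.ker hf.central
  have h4 : z ^ 4 = 1 := hf.ord ▸ pow_orderOf_eq_one z
  set c := cIdx d.val f e with hc
  have hc12 : c < 12 := by
    have := d.isLt
    simp only [hc, cIdx]
    split_ifs <;> omega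
  obtain ⟨hA4, hB4⟩ : (∀ l ∈ imA.getD c [], l < 4) ∧ ∀ l ∈ imB.getD c [], l < 4 := im_lt ⟨c, hc12⟩
  have himg : ∀ (p : Bool) (v : E), (∃ S : SpecialLinearGroup (Fin 3) F, τ v = QuotientGroup.mk S ∧
      S.1 = Matrix.of fun i j => val4 ω (baseT p false i j)) →
      ∃ n : Fin 4, γ v = L (if p then imB.getD c [] else imA.getD c []) * z ^ n.val := by
    rintro p v ⟨S, hv, hS⟩
    obtain ⟨S', h1, h2⟩ := hτL (if p then imB.getD c [] else imA.getD c []) (by cases p <;> [exact hA4; exact hB4])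
    refine exists_pow_of_ker hf.ker hf.ord ?_
    rw [hstd, hv, h1]
    refine bAut_base hω d hfr e p hS (h2.trans ?_)
    cases p
    · exact congrArg (fun C : Code => m3 ω C.2.2) (im_code ⟨c, hc12⟩ 0)
    · exact congrArg (fun C : Code => m3 ω C.2.2) (im_code ⟨c, hc12⟩ 2)
  obtain ⟨i, hi⟩ : ∃ n : Fin 4, γ a = L (imA.getD c []) * z ^ n.val := himg false a hf.imgA
  obtain ⟨j, hj⟩ : ∃ n : Fin 4, γ b = L (imB.getD c []) * z ^ n.val := himg true b hf.imgB
  obtain ⟨sg, hsg⟩ : ∃ sg : Fin 2, γ z = z ^ (2 * sg.val + 1) := by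
    have hz' : γ z ∈ τ.ker := by
      rw [hcen, Subgroup.mem_center_iff]
      intro u
      apply γ.symm.injective
      rw [map_mul, map_mul, MulEquiv.symm_apply_apply]
      exact (hzc _).symm.eq
    have hone : τ (γ z) = τ 1 := by rw [map_one]; exact hz'
    obtain ⟨n, hn⟩ := exists_pow_of_ker hf.ker hf.ord hone
    rw [one_mul] at hn
    have ho : orderOf (z ^ n.val) = 4 := by rw [← hn, MulEquiv.orderOf_eq, hf.ord]
    rw [hn]
    fin_cases n
    · simp at ho
    · exact ⟨0, rfl⟩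
    · rw [orderOf_pow, hf.ord] at ho
      norm_num at ho
    · exact ⟨1, rfl⟩
  have hrow : (c, 2 * sg.val + 1, i.val, j.val) ∈ outerTab h.val := by
    refine norm_outer h ⟨c, hc12⟩ sg i j fun r => ?_
    obtain ⟨hR, hm', hn, hk⟩ := rel_scal ⟨c, hc12⟩ r
    have hlt : ∀ l ∈ rel r.val, l < 6 := fun l hl => (rel_lt r l hl).trans (by norm_num)
    have hval := value_word L z h4 hzc hnil happ hinv (A := imA.getD c []) (B := imB.getD c [])
      (![γ a, γ b, z, 1]) hi hj rfl (rel r.val) hlt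
    have hrl := congrArg γ (hf.rels r)
    rw [← MulEquiv.coe_toMonoidHom, map_ev, MulEquiv.coe_toMonoidHom, map_pow, hsg, ← pow_mul] at hrl
    have e1 : ONanRec.Cand.ev (fun k => γ (![a, b, z, 1] k)) (rel r.val) =
        ONanRec.Cand.ev ![γ a, γ b, z, 1] (rel r.val) := by
      refine congrArg List.prod (List.map_congr_left fun l hl => ?_)
      have := rel_lt r l hl
      interval_cases l <;> simp
    rw [e1, hval, hsc _ (lsub_lt hA4 hB4 _) _ _ _ hm' hn hk ((mT_lsub hω _ _ _).trans (congrArg _ hR)),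
      ← pow_add, pow_eq_pow_iff_modEq, hf.ord] at hrl
    exact hrl
  have hc4 := (outer_cls h _ hrow).1
  obtain rfl : d = 0 := by
    apply Fin.ext
    simp only [hc, cIdx] at hc4
    show d.val = 0
    split_ifs at hc4 <;> omega
  exact ⟨m⁻¹, σ, e, hstd⟩

/-- The facts on automorphisms. -/
theorem autFacts {L : Type*} [Group L] [Finite L] (hL : IsFour L) : AutFacts L := by
  obtain ⟨hperf, hcyc, hcard, F, iF, iF', hF, ⟨e0⟩⟩ := hL
  obtain ⟨hchar, ω, hω, hb⟩ := CfsgLib.Schur.L34Data.exists_omega hF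
  let τ0 : L →* ProjectiveSpecialLinearGroup (Fin 3) F :=
    e0.toMonoidHom.comp (QuotientGroup.mk' (Subgroup.center L))
  have hker0 : τ0.ker = Subgroup.center L := by
    ext y
    simp [τ0]
  obtain ⟨⟨z0, hz0m⟩, hz0⟩ := hcyc.exists_generator
  have hzk : τ0.ker = Subgroup.zpowers z0 := by
    rw [hker0]
    refine le_antisymm (fun y hy => ?_) (Subgroup.zpowers_le.2 hz0m)
    obtain ⟨j, hj⟩ := Subgroup.mem_zpowers_iff.1 (hz0 ⟨y, hy⟩)
    exact Subgroup.mem_zpowers_iff.2 ⟨j, by simpa using congrArg Subtype.val hj⟩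
  have hord0 : orderOf z0 = 4 := by rw [← Nat.card_zpowers, ← hzk, hker0, hcard]
  obtain ⟨τ, z, a, b, h, hf⟩ := exists_frame hF hω hb τ0 (e0.surjective.comp (QuotientGroup.mk'_surjective _))
    z0 hzk hord0 (hker0 ▸ le_rfl) hperf
  have hcen : τ.ker = Subgroup.center L :=
    Subgroup.eq_of_le_of_card_ge hf.central (by rw [hcard, hf.ker, Nat.card_zpowers, hf.ord])
  choose s σ e hs using exists_standard hF hω hb hf hcen
  refine ⟨fun φ => ?_, fun φ => ?_⟩
  · set χ : MulAut L := MulAut.conj (s φ) * φ with hχ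
    have h1 : χ * χ = 1 := eq_one_of_mod hf _ fun w => by
      rw [MulAut.mul_apply, hχ, hs, hs, ← MulAut.mul_apply, bAut_zero_sq hω hb, MulAut.one_apply]
    refine ⟨(s φ)⁻¹ * χ (s φ)⁻¹, ?_⟩
    have e1 : φ = MulAut.conj (s φ)⁻¹ * χ := by rw [hχ, ← mul_assoc, ← map_mul, inv_mul_cancel, map_one, one_mul]
    have e2 : χ * MulAut.conj (s φ)⁻¹ = MulAut.conj (χ (s φ)⁻¹) * χ := MulEquiv.ext fun w => by
      simp [MulAut.mul_apply, MulAut.conj_apply]
    conv_lhs => rw [e1]
    rw [map_mul, mul_assoc, ← mul_assoc χ, e2, mul_assoc, h1, mul_one]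
  · choose f hfr using fun i => exists_frob hω hb (σ (φ i))
    obtain ⟨i, j, hij, hfe⟩ := Fintype.exists_ne_map_eq_of_card_lt (fun i => (f i, e (φ i)))
      (show Fintype.card (Bool × Bool) < Fintype.card (Fin 5) by simp)
    simp only [Prod.mk.injEq] at hfe
    have hσ : σ (φ i) = σ (φ j) := RingEquiv.ext fun x => by
      obtain ⟨c, rfl⟩ := hb.2 x
      rw [hfr, hfr, hfe.1]
    refine ⟨i, j, hij, ?_⟩
    set χ : Fin 5 → MulAut L := fun i => MulAut.conj (s (φ i)) * φ i with hχ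
    have h1 : (χ i)⁻¹ * χ j = 1 := eq_one_of_mod hf _ fun w => by
      apply (bAut hω 0 (σ (φ i)) (e (φ i))).injective
      rw [MulAut.mul_apply, ← hs (φ i)]
      show τ (χ i ((χ i)⁻¹ (χ j w))) = _
      rw [MulAut.inv_def, MulEquiv.apply_symm_apply, hσ, hfe.2]
      exact hs (φ j) w
    have h2 : MulAut.conj (s (φ i)) * φ i = MulAut.conj (s (φ j)) * φ j := inv_mul_eq_one.1 h1
    refine ⟨(φ i)⁻¹ ((s (φ j))⁻¹ * s (φ i)), ?_⟩
    have h3 : φ j = MulAut.conj ((s (φ j))⁻¹ * s (φ i)) * φ i := by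
      rw [map_mul, mul_assoc, h2, ← mul_assoc, ← map_mul, inv_mul_cancel, map_one, one_mul]
    conv_lhs => rw [h3]
    exact MulEquiv.ext fun w => by simp [MulAut.mul_apply, MulAut.conj_apply]

end CfsgLib.StdON
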