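import Cfsg.Agent.Lib.StdON.Model
import Cfsg.Agent.Lib.StdON.ExtData
import Cfsg.Agent.Lib.ONanRec.Cand.Exists

/-!
The facts on extensions of index two of 4.L3(4): such a group is one of the twelve candidates, in which everything
is conjugated to the listed centraliser of `a`.
-/

set_option autoImplicit false

universe u

namespace CfsgLib.StdON

open ONanRec ONanRec.Cand

variable {H : Type u} [Group H] [Finite H] {N : Subgroup H}

attribute [local irreducible] CfsgLib.Schur.L34Data.ev ONanRec.Cand.evF ONanRec.Cand.evW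

/-- Membership in a subgroup of index two is the parity of the outer letter. -/
theorem ev_mem_iff (hN : N.index = 2) {g : Fin 4 → H} (h0 : g 0 ∈ N) (h1 : g 1 ∈ N) (h2 : g 2 ∈ N)
    (h3 : g 3 ∉ N) : ∀ {w : List ℕ}, (∀ l ∈ w, l < 8) → (ev g w ∈ N ↔ xPar w = 0) := by
  intro w
  induction w with
  | nil => exact fun _ => iff_of_true N.one_mem rfl
  | cons l w ih =>
    intro hw
    have ih' := ih fun a ha => hw a (List.mem_cons_of_mem _ ha)
    have hl : lev g l ∈ N ↔ l / 2 / 3 = 0 := by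
      have := hw l List.mem_cons_self
      interval_cases l <;> simp [lev, h0, h2, h3] <;> exact h1
    have hlb : l / 2 / 3 ≤ 1 := by have := hw l List.mem_cons_self; omega
    rw [show ev g (l :: w) = lev g l * ev g w from rfl, Subgroup.mul_mem_iff_of_index_two hN, hl, ih']
    simp only [xPar, List.map_cons, List.sum_cons]
    omega

/-- An extension is a candidate. -/
theorem exists_model (h : IsExt N) :
    ∃ (k : Fin 12) (c : Cert) (d : Dat) (z : H) (g : Fin 4 → H), Model k c d N.subtype z g ∧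
      Dat.FourthOk k c d ∧ Dat.InvertOk k c d := by
  obtain ⟨⟨hperf, hcyc, hcard4, F, iF, iF', hF, ⟨e0⟩⟩, hM, hout⟩ := h
  haveI : N.Normal := Subgroup.normal_of_index_eq_two hM
  obtain ⟨hchar, ω, hω, hb⟩ := CfsgLib.Schur.L34Data.exists_omega hF
  let τ0 : ↥N →* Matrix.ProjectiveSpecialLinearGroup (Fin 3) F :=
    e0.toMonoidHom.comp (QuotientGroup.mk' (Subgroup.center ↥N))
  have hker0 : τ0.ker = Subgroup.center ↥N := by
    ext y
    simp [τ0]
  obtain ⟨⟨z0, hz0m⟩, hz0⟩ := hcyc.exists_generator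
  have hzk : τ0.ker = Subgroup.zpowers z0 := by
    rw [hker0]
    refine le_antisymm (fun y hy => ?_) (Subgroup.zpowers_le.2 hz0m)
    obtain ⟨j, hj⟩ := Subgroup.mem_zpowers_iff.1 (hz0 ⟨y, hy⟩)
    exact Subgroup.mem_zpowers_iff.2 ⟨j, by simpa using congrArg Subtype.val hj⟩
  have hord0 : orderOf z0 = 4 := by rw [← Nat.card_zpowers, ← hzk, hker0, hcard4]
  obtain ⟨τ, zM, a, b, hh, hf⟩ := exists_frame hF hω hb τ0 (e0.surjective.comp (QuotientGroup.mk'_surjective _))
    z0 hzk hord0 (hker0 ▸ le_rfl) hperf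
  have hcen : τ.ker = Subgroup.center ↥N :=
    Subgroup.eq_of_le_of_card_ge hf.central (by rw [hcard4, hf.ker, Nat.card_zpowers, hf.ord])
  obtain ⟨k, g, hgen, hgz, hrel⟩ := exists_candidate hF hω hb hM hout hf hcen
  have hg2 : g 2 ∈ N := hgz ▸ zM.2
  -- the first two letters are in `N`
  let χ : Fin 4 → Prop := fun i => g i ∈ N
  have hmul : ∀ x y : H, x * y ∈ N ↔ (x ∈ N ↔ y ∈ N) := fun x y => Subgroup.mul_mem_iff_of_index_two hM
  obtain ⟨h0, h1⟩ : g 0 ∈ N ∧ g 1 ∈ N := by
    obtain ⟨D, hD⟩ : ∃ D, candData k.val = D := ⟨_, rfl⟩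
    obtain ⟨hs, -, -⟩ := candData_spec k
    rw [hD] at hs
    have hR : ∀ i < 6, ev g (lRels.getD i [] ++ List.replicate (D.1.getD i 0) 5) = 1 := fun i hi => hrel _ (by
      rw [hs]
      simp only [shape, List.mem_append, List.mem_map, List.mem_range]
      exact .inl (.inr ⟨i, hi, rfl⟩))
    have hrep : ∀ n, ev g (List.replicate n 5) ∈ N := fun n => by
      induction n with
      | zero => exact N.one_mem
      | succ n ih => exact N.mul_mem (by simpa [lev] using hg2) ih
    have h' : ∀ i < 6, ev g (lRels.getD i []) ∈ N := fun i hi => by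
      have e := hR i hi
      rw [ONanRec.ev_append] at e
      exact (N.mul_mem_cancel_right (hrep _)).1 (e ▸ N.one_mem)
    have h2' := h' 2 (by norm_num)
    have h3' := h' 3 (by norm_num)
    simp only [lRels, List.getD_cons_succ, List.getD_cons_zero, ev, List.map_cons, List.map_nil, List.prod_cons,
      List.prod_nil, mul_one, hmul] at h2' h3'
    simp [lev] at h2' h3'
    by_cases c0 : g 0 ∈ N <;> by_cases c1 : g 1 ∈ N <;> simp [c0, c1] at h2' h3' ⊢ <;>
      exact c1 h2'
  have h3 : g 3 ∉ N := fun h3 => by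
    have : Subgroup.closure (Set.range g) ≤ N :=
      (Subgroup.closure_le _).2 (by rintro _ ⟨i, rfl⟩; fin_cases i <;> assumption)
    rw [hgen, top_le_iff] at this
    rw [this, Subgroup.index_top] at hM
    omega
  set t : H := (zM : H) * zM with ht
  -- the square of the central generator is central
  have htc : ∀ x : H, Commute x t := by
    intro x
    have hcM : ∀ y ∈ N, Commute y t := fun y hy => by
      have := (comm_of_ker hf.ker hf.central ⟨y, hy⟩).symm
      exact (congrArg Subtype.val this.eq : y * (zM : H) = zM * y) |> fun e =>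
        (show Commute y (zM : H) from e).mul_right e
    have hconj : ∀ y : H, MulAut.conjNormal y (zM * zM) = zM * zM := by
      intro y
      have hc : MulAut.conjNormal y zM ∈ Subgroup.center ↥N := Subgroup.mem_center_iff.2 fun u => by
        apply (MulAut.conjNormal y).symm.injective
        rw [map_mul, map_mul, MulEquiv.symm_apply_apply]
        exact (Subgroup.mem_center_iff.1 (hcen ▸ hf.ker.symm ▸ Subgroup.mem_zpowers zM) _)
      rw [← hcen, hf.ker, Subgroup.mem_zpowers_iff] at hc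
      obtain ⟨j, hj⟩ := hc
      have ho : orderOf (zM ^ j) = 4 := by rw [hj, MulEquiv.orderOf_eq, hf.ord]
      have hj2 : j % 2 = 1 := by
        by_contra hne
        obtain ⟨i, rfl⟩ : 2 ∣ j := by omega
        have h2 : (zM ^ (2 * i)) ^ 2 = 1 := by
          rw [← zpow_natCast, ← zpow_mul, show 2 * i * ((2 : ℕ) : ℤ) = ((4 : ℕ) : ℤ) * i by push_cast; ring,
            zpow_mul, zpow_natCast, ← hf.ord, pow_orderOf_eq_one, one_zpow]
        have := orderOf_dvd_of_pow_eq_one h2
        rw [ho] at this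
        omega
      obtain ⟨i, rfl⟩ : ∃ i, j = 2 * i + 1 := ⟨j / 2, by omega⟩
      rw [map_mul, ← hj, ← zpow_add, show 2 * i + 1 + (2 * i + 1) = ((4 : ℕ) : ℤ) * i + 2 by push_cast; ring,
        zpow_add, zpow_mul, zpow_natCast, ← hf.ord, pow_orderOf_eq_one, one_zpow, one_mul, zpow_two]
    have := congrArg Subtype.val (hconj x)
    rw [MulAut.conjNormal_apply, Subgroup.coe_mul, ← ht] at this
    exact mul_inv_eq_iff_eq_mul.1 this
  have htop : Subgroup.centralizer ({t} : Set H) = ⊤ :=
    eq_top_iff.2 fun x _ => Subgroup.mem_centralizer_singleton_iff.2 (htc x).eq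
  have hcard : Nat.card ↥(Subgroup.centralizer ({t} : Set H)) = 161280 := by
    have h1 := N.card_mul_index
    have h2 := τ.ker.card_mul_index
    rw [Subgroup.index_ker, MonoidHom.range_eq_top_of_surjective τ hf.surj, Subgroup.card_top,
      CfsgLib.Schur.L34.card_PSL34 hF, hf.ker, Nat.card_zpowers, hf.ord] at h2
    rw [htop, Subgroup.card_top, ← h1, hM, ← h2]
  have hC : Centralizer k t g := by
    refine centralizer_of_rels k g (hgen.trans htop.symm) (by rw [hgz]) hrel hcard fun K hK hne htK => ?_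
    let E := Subgroup.topEquiv.symm.trans (MulEquiv.subgroupCongr htop.symm)
    have hne' : K.comap E.toMonoidHom ≠ ⊥ := fun h => hne (by
      rw [← Subgroup.map_comap_eq_self_of_surjective (f := E.toMonoidHom) E.surjective K, h, Subgroup.map_bot])
    have := sq_mem_of_normal N hout τ hf.surj zM hcen hf.ker hf.ord hperf _ (hK.comap E.toMonoidHom) hne'
    exact (show (⟨(zM : H) * zM, htK⟩ : ↥(Subgroup.centralizer ({t} : Set H))) ∈ K from this)
  obtain ⟨c, d, hc, hd, hfo, hio⟩ := exists_dat k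
  refine ⟨k, c, d, t, g, ⟨hC, hc, hd, htop, N.subtype_injective, fun w hw => ?_, fun x => ?_⟩, hfo, hio⟩
  · rw [Subgroup.range_subtype]
    exact ev_mem_iff hM h0 h1 hg2 h3 hw
  · rw [← hcen, hf.ker, hgz]
    constructor
    · intro hx
      obtain ⟨j, rfl⟩ := Subgroup.mem_zpowers_iff.1 hx
      refine ⟨(j % 4).toNat, by omega, ?_⟩
      rw [Subgroup.coe_subtype, ← SubmonoidClass.coe_pow]
      refine congrArg Subtype.val ?_
      rw [← zpow_natCast, Int.toNat_of_nonneg (Int.emod_nonneg _ (by norm_num)), ← zpow_mod_orderOf zM j, hf.ord]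
      rfl
    · rintro ⟨i, -, hi⟩
      rw [show x = zM ^ i from Subtype.ext (by rw [SubmonoidClass.coe_pow]; exact hi)]
      exact pow_mem (Subgroup.mem_zpowers _) _

namespace Model

variable {k : Fin 12} {c : Cert} {d : Dat} {z : H} {g : Fin 4 → H}

/-- An equation with a fourth power, read on the base. -/
theorem pow_four_iff (M : Model k c d N.subtype z g) {w u : List ℕ} (hw : ∀ l ∈ w, l < 8) (hu : ∀ l ∈ u, l < 8) :
    ev g w * ev g w * (ev g w * ev g w) = ev g u ↔ c.eqB k (w ++ w ++ (w ++ w)) u = true := by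
  rw [← ONanRec.ev_append, ← ONanRec.ev_append]
  have h8 : ∀ l ∈ w ++ w ++ (w ++ w), l < 8 := by
    intro l hl
    simp only [List.mem_append] at hl
    rcases hl with (h | h) | (h | h) <;> exact hw l h
  exact M.eq_iff h8 hu

/-- An equation with a square, read on the base. -/
theorem sq_iff (M : Model k c d N.subtype z g) {w u : List ℕ} (hw : ∀ l ∈ w, l < 8) (hu : ∀ l ∈ u, l < 8) :
    ev g w * ev g w = ev g u ↔ c.eqB k (w ++ w) u = true := by
  rw [← ONanRec.ev_append]
  exact M.eq_iff (fun l hl => (List.mem_append.1 hl).elim (hw l) (hw l)) hu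

theorem range_eq (_M : Model k c d N.subtype z g) : N.subtype.range = N := Subgroup.range_subtype N

/-- Sets defined by conjugation-invariant conditions have equal size for conjugate arguments. -/
theorem ncard_conj (M : Model k c d N.subtype z g) (n : N) {s s' : H} (hn : (n : H) * s * (n : H)⁻¹ = s')
    (P Q : H → Prop) (hPQ : ∀ v, Q ((n : H) * v * (n : H)⁻¹) ↔ P v) :
    {v : H | v ∉ N ∧ Commute v s ∧ P v}.ncard = {v : H | v ∉ N ∧ Commute v s' ∧ Q v}.ncard := by
  haveI : N.Normal := ⟨fun x hx y => by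
    have := M.range_conj (x := x) (by rw [M.range_eq]; exact hx) y
    rwa [M.range_eq] at this⟩
  rw [← Set.ncard_image_of_injective _ (MulAut.conj (n : H)).injective]
  congr 1
  ext v
  simp only [Set.mem_image, Set.mem_setOf_eq, MulAut.conj_apply]
  have hmem : ∀ v : H, (n : H) * v * (n : H)⁻¹ ∈ N ↔ v ∈ N := fun v =>
    ⟨fun h => by
      have := (inferInstance : N.Normal).conj_mem _ h (n : H)⁻¹
      simpa [mul_assoc] using this, fun h => (inferInstance : N.Normal).conj_mem _ h _⟩
  have hcomm : ∀ v : H, Commute ((n : H) * v * (n : H)⁻¹) s' ↔ Commute v s := fun v => by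
    rw [← hn]
    exact Commute.conj_iff _
  constructor
  · rintro ⟨w, ⟨h1, h2, h3⟩, rfl⟩
    exact ⟨fun h => h1 ((hmem w).1 h), (hcomm w).2 h2, (hPQ w).2 h3⟩
  · rintro ⟨h1, h2, h3⟩
    refine ⟨(n : H)⁻¹ * v * n, ?_, by group⟩
    have e : (n : H) * ((n : H)⁻¹ * v * n) * (n : H)⁻¹ = v := by group
    exact ⟨fun h => h1 (e ▸ (hmem _).2 h), (hcomm _).1 (e.symm ▸ h2), (hPQ _).1 (e.symm ▸ h3)⟩

/-- Counting fourth roots outside. -/
theorem out4_ncard (M : Model k c d N.subtype z g) {s : N} (hs : Inner s) (w u : List ℕ) (x : H)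
    (hu : ∀ l ∈ u, l < 8) (hx : ∀ n : N, (n : H) * s * (n : H)⁻¹ = ev g [0] → (n : H) * x * (n : H)⁻¹ = ev g u)
    (hw : w = u) : (outRoots4 N (s : H) x).ncard = Dat.cnt4 k c d.Do w := by
  subst hw
  obtain ⟨n, hn⟩ := M.exists_conj hs
  replace hn : (n : H) * s * (n : H)⁻¹ = ev g [0] := hn
  rw [outRoots4, M.ncard_conj n hn (fun v => v * v * (v * v) = x) (fun v => v * v * (v * v) = ev g w) fun v => by
    rw [← hx n hn]
    rw [show (n : H) * v * (n : H)⁻¹ * ((n : H) * v * (n : H)⁻¹) * ((n : H) * v * (n : H)⁻¹ *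
      ((n : H) * v * (n : H)⁻¹)) = (n : H) * (v * v * (v * v)) * (n : H)⁻¹ by group, mul_left_inj, mul_right_inj]]
  have := M.ncard_odd (fun v => v * v * (v * v) = ev g w) (fun v => c.eqB k (v ++ v ++ (v ++ v)) w)
    fun v hv => M.pow_four_iff (M.lists.2.1 v hv).1 hu
  rw [M.range_eq] at this
  exact this

/-- Counting square roots outside. -/
theorem out2_ncard (M : Model k c d N.subtype z g) {s : N} (hs : Inner s) (u : List ℕ) (x : H)
    (hu : ∀ l ∈ u, l < 8) (hx : ∀ n : N, (n : H) * s * (n : H)⁻¹ = ev g [0] → (n : H) * x * (n : H)⁻¹ = ev g u) :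
    (outRoots N (s : H) x).ncard = Dat.cnt2 k c d.Do u := by
  obtain ⟨n, hn⟩ := M.exists_conj hs
  replace hn : (n : H) * s * (n : H)⁻¹ = ev g [0] := hn
  rw [outRoots, M.ncard_conj n hn (fun v => v * v = x) (fun v => v * v = ev g u) fun v => by
    rw [← hx n hn, show (n : H) * v * (n : H)⁻¹ * ((n : H) * v * (n : H)⁻¹) = (n : H) * (v * v) * (n : H)⁻¹ by group,
      mul_left_inj, mul_right_inj]]
  have := M.ncard_odd (fun v => v * v = ev g u) (fun v => c.eqB k (v ++ v) u)
    fun v hv => M.sq_iff (M.lists.2.1 v hv).1 hu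
  rw [M.range_eq] at this
  exact this

/-- The centre is centralised when the outer letter commutes with it. -/
theorem commute_center (M : Model k c d N.subtype z g) (h : Dat.Central k c) (x : H) {y : N}
    (hy : y ∈ Subgroup.center N) : Commute (y : H) x := by
  obtain ⟨i, -, hi⟩ := (M.center y).1 hy
  rw [show (y : H) = g 2 ^ i from hi]
  refine Commute.pow_left ?_ i
  have h3 : Commute (g 2) (g 3) := by
    have e := (M.eq_iff (u := [6, 4, 7]) (w := [4]) (by simp) (by simp)).2 h
    have e' : g 3 * g 2 * (g 3)⁻¹ = g 2 := by simpa [ev, lev, mul_assoc] using e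
    exact (mul_inv_eq_iff_eq_mul.1 e').symm
  have hN : ∀ v ∈ N, Commute (g 2) v := fun v hv => by
    obtain ⟨ζ, hζ, hζc⟩ := M.exists_zeta
    rw [← hζ]
    exact congrArg Subtype.val (Subgroup.mem_center_iff.1 hζc ⟨v, hv⟩).symm
  have hgen : ∀ i : Fin 4, Commute (g 2) (g i) := by
    intro i
    fin_cases i
    · exact hN _ (by
        have := (M.range_iff [0] (by simp)).2 rfl
        rw [M.range_eq] at this
        simpa [ev, lev] using this)
    · exact hN _ (by
        have := (M.range_iff [2] (by simp)).2 rfl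
        rw [M.range_eq] at this
        simp [ev, lev] at this
        exact this)
    · exact Commute.refl _
    · exact h3
  obtain ⟨w, -, rfl⟩ := M.word x
  have := ONanRec.ev_mem_of g (Subgroup.centralizer ({g 2} : Set H))
    (fun i => Subgroup.mem_centralizer_singleton_iff.2 (hgen i).symm.eq) w
  exact (show Commute (ev g w) (g 2) from Subgroup.mem_centralizer_singleton_iff.1 this).symm

/-- An outer involution is conjugate to a representative by an element of `N`, up to that one of the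
centraliser. -/
theorem exists_rep (M : Model k c d N.subtype z g) {x : H} (hx : x ∉ N) (hx2 : x * x = 1) :
    ∃ r ∈ d.reps, ∃ n : N, (n : H) * x * (n : H)⁻¹ = ev g r.x := by
  haveI : N.Normal := ⟨fun y hy v => by
    have := M.range_conj (x := y) (by rw [M.range_eq]; exact hy) v
    rwa [M.range_eq] at this⟩
  have ho : orderOf x = 2 := orderOf_eq_prime (hp := ⟨Nat.prime_two⟩) (by rw [pow_two]; exact hx2)
    fun h => hx (h ▸ N.one_mem)
  obtain ⟨y, -, e, he, hye⟩ := Cert.exists_conj_pw M.hC M.hc (M.mem_top x) ho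
  have hpw := Cert.pw_spec M.hC M.hc e
  have hpar : xPar (c.pw e) = 1 := by
    have h1 : ¬ xPar (c.pw e) = 0 := fun h => by
      have h2 := (M.range_iff _ hpw).2 h
      rw [M.range_eq, ← hye] at h2
      exact hx (by simpa [mul_assoc] using (inferInstance : N.Normal).conj_mem _ h2 y⁻¹)
    simp only [xPar] at h1 ⊢
    omega
  have hmem : c.pw e ∈ Dat.outList k c := by
    refine List.mem_filter.2 ⟨List.mem_map_of_mem he, ?_⟩
    simp only [Bool.and_eq_true, Nat.beq_eq]
    refine ⟨hpar, Cert.fp_congr M.hC M.hc (fun l hl => (List.mem_append.1 hl).elim (hpw l) (hpw l)) (by simp) ?_⟩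
    rw [ONanRec.ev_append, ONanRec.ev_nil, ← hye, show y * x * y⁻¹ * (y * x * y⁻¹) = y * (x * x) * y⁻¹ by group,
      hx2]
    group
  have hout := M.hd.out
  simp only [Dat.outOk, Bool.and_eq_true, Nat.beq_eq, List.all_eq_true, Nat.blt_eq] at hout
  obtain ⟨hlen, hall⟩ := hout
  obtain ⟨i, hi, hie⟩ := List.getElem_of_mem hmem
  obtain ⟨⟨hidx, hcw⟩, hconj⟩ := hall ((Dat.outList k c)[i], d.ow[i]'(hlen ▸ hi))
    (List.mem_iff_getElem.2 ⟨i, by simp [hlen ▸ hi, hi], by simp⟩)
  set p := d.ow[i]'(hlen ▸ hi)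
  have hcw8 := Cert.wordOk_iff.1 hcw
  refine ⟨_, List.getElem_mem hidx, ?_⟩
  rw [List.getD_eq_getElem _ _ hidx] at hconj
  have hrx : ∀ l ∈ (d.reps[p.1]).x, l < 8 := by
    have hr := M.hd.reps
    simp only [Dat.repsOk, List.all_eq_true] at hr
    have hr' := hr _ (List.getElem_mem hidx)
    simp only [Bool.and_eq_true] at hr'
    exact Cert.wordOk_iff.1 hr'.1.1.1.1.1.1.1.1.1.1.1.1
  rw [hie] at hconj
  have hl8 : ∀ l ∈ iw p.2 ++ c.pw e ++ p.2, l < 8 := fun l hl => by
    simp only [List.mem_append] at hl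
    rcases hl with (hl | hl) | hl
    exacts [iw_lt hcw8 l hl, hpw l hl, hcw8 l hl]
  have h1 := (M.eq_iff hl8 hrx).2 hconj
  rw [ONanRec.ev_append, ONanRec.ev_append, ev_iw, ← hye] at h1
  set q := (ev g p.2)⁻¹ * y with hq
  have h2 : q * x * q⁻¹ = ev g (d.reps[p.1]).x := by rw [← h1, hq]; group
  by_cases hqN : q ∈ N
  · exact ⟨⟨q, hqN⟩, h2⟩
  · have hN2 : N.index = 2 := by
      rw [Subgroup.index_eq_two_iff]
      refine ⟨g 3, fun v => ?_⟩
      obtain ⟨w, hw, rfl⟩ := M.word v
      have h36 : ∀ l ∈ w ++ [6], l < 8 := fun l hl => (List.mem_append.1 hl).elim (hw l) (by simp_all)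
      have ha : ev g w * g 3 = ev g (w ++ [6]) := by rw [ONanRec.ev_append]; simp [ev, lev]
      have hb1 := M.range_iff w hw
      have hb2 := M.range_iff _ h36
      rw [M.range_eq] at hb1 hb2
      rw [ha, hb1, hb2, xPar_append]
      have h6 : xPar [6] = 1 := rfl
      rw [h6]
      simp only [xPar]
      rcases Nat.mod_two_eq_zero_or_one ((w.map fun l => l / 2 / 3).sum) with h | h <;> rw [h]
      · exact .inr ⟨rfl, by norm_num⟩
      · exact .inl ⟨rfl, by norm_num⟩
    refine ⟨⟨q * x, (Subgroup.mul_mem_iff_of_index_two hN2).2 (iff_of_false hqN hx)⟩, ?_⟩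
    show q * x * x * (q * x)⁻¹ = _
    rw [← h2]
    group

/-- A representative: the involution, an element of order three commuting with it, the product with `a`. -/
theorem rep_spec (M : Model k c d N.subtype z g) {r : OutRep} (hr : r ∈ d.reps) :
    (∀ l ∈ r.x, l < 8) ∧ ev g r.x ∉ N ∧ ev g r.x * ev g r.x = 1 ∧
      (∃ u : N, orderOf u = 3 ∧ Commute (u : H) (ev g r.x)) ∧
      (∃ n : N, (n : H) * ev g r.x * (n : H)⁻¹ = ev g r.x * ev g [0]) ∧
      ev g [0] ∈ Subgroup.closure ((fun v : H => v * v) '' {v | Commute v (ev g r.x)}) := by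
  have h := M.hd.reps
  simp only [Dat.repsOk, List.all_eq_true] at h
  have h' := h r hr
  simp only [Bool.and_eq_true, Bool.not_eq_true', Nat.beq_eq, List.all_eq_true] at h'
  obtain ⟨⟨⟨⟨⟨⟨⟨⟨⟨⟨⟨⟨hx, hxp⟩, hx2⟩, hu⟩, hup⟩, hu3⟩, hu1⟩, huc⟩, hn⟩, hnp⟩, hnx⟩, hsq⟩, hprod⟩ := h'
  have x8 := Cert.wordOk_iff.1 hx
  have u8 := Cert.wordOk_iff.1 hu
  have n8 := Cert.wordOk_iff.1 hn
  have app : ∀ {p q : List ℕ}, (∀ l ∈ p, l < 8) → (∀ l ∈ q, l < 8) → ∀ l ∈ p ++ q, l < 8 :=
    fun hp hq l hl => (List.mem_append.1 hl).elim (hp l) (hq l)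
  have hmem : ∀ {p : List ℕ}, (∀ l ∈ p, l < 8) → (ev g p ∈ N ↔ xPar p = 0) := fun hp => by
    rw [← M.range_iff _ hp, M.range_eq]
  have e2 := (M.eq_iff (app x8 x8) (by simp)).2 hx2
  rw [ONanRec.ev_append, ONanRec.ev_nil] at e2
  refine ⟨x8, fun h => by rw [hmem x8, hxp] at h; omega, e2, ?_, ?_, ?_⟩
  · refine ⟨⟨ev g r.u3, (hmem u8).2 hup⟩, ?_, ?_⟩
    · rw [← Subgroup.orderOf_coe]
      refine orderOf_eq_prime (hp := ⟨Nat.prime_three⟩) ?_ fun h => ?_
      · have e := (M.eq_iff (app u8 (app u8 u8)) (by simp)).2 hu3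
        rw [ONanRec.ev_append, ONanRec.ev_append, ONanRec.ev_nil] at e
        rw [pow_succ, pow_two, mul_assoc]
        exact e
      · have e := (M.eq_iff u8 (w := []) (by simp)).1 (by rw [ONanRec.ev_nil]; exact h)
        rw [e] at hu1
        exact Bool.noConfusion hu1
    · have e := (M.eq_iff (app u8 x8) (app x8 u8)).2 huc
      rwa [ONanRec.ev_append, ONanRec.ev_append] at e
  · have e := (M.eq_iff (app (app (iw_lt n8) x8) n8) (app x8 (by simp))).2 hnx
    rw [ONanRec.ev_append, ONanRec.ev_append, ONanRec.ev_append, ev_iw] at e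
    refine ⟨⟨(ev g r.conj)⁻¹, N.inv_mem ((hmem n8).2 hnp)⟩, ?_⟩
    simpa using e
  · have hsq8 : ∀ l ∈ r.sqs.flatMap fun v => v ++ v, l < 8 := by
      intro l hl
      obtain ⟨v, hv, hlv⟩ := List.mem_flatMap.1 hl
      exact (List.mem_append.1 hlv).elim (Cert.wordOk_iff.1 (hsq v hv).1 l) (Cert.wordOk_iff.1 (hsq v hv).1 l)
    rw [← (M.eq_iff hsq8 (by simp)).2 hprod, ev_flatMap]
    refine Subgroup.list_prod_mem _ fun y hy => ?_
    simp only [List.mem_map] at hy
    obtain ⟨_, ⟨v, hv, rfl⟩, rfl⟩ := hy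
    refine Subgroup.subset_closure ⟨ev g v, ?_, rfl⟩
    have v8 := Cert.wordOk_iff.1 (hsq v hv).1
    have e := (M.eq_iff (app v8 x8) (app x8 v8)).2 (hsq v hv).2
    rwa [ONanRec.ev_append, ONanRec.ev_append] at e

/-- An outer involution is conjugate to its product with an inner involution. -/
theorem exists_pair (M : Model k c d N.subtype z g) {x : H} (hx : x ∉ N) (hx2 : x * x = 1) :
    ∃ r ∈ d.reps, ∃ n : N, ∃ m : N, Inner m ∧ (n : H) * x * (n : H)⁻¹ = ev g r.x ∧
      (n : H) * m * (n : H)⁻¹ = ev g [0] ∧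
      (m : H) ∈ Subgroup.closure ((fun v : H => v * v) '' {v | Commute v x}) ∧
      ∃ y : N, (y : H) * x * (y : H)⁻¹ = x * m := by
  obtain ⟨r, hr, n, hn⟩ := M.exists_rep hx hx2
  obtain ⟨-, -, -, -, ⟨q, hq⟩, hcl⟩ := M.rep_spec hr
  obtain ⟨s, hs, hsI⟩ := M.exists_a
  have hs' : (s : H) = ev g [0] := hs
  have hx' : x = (n : H)⁻¹ * ev g r.x * n := by rw [← hn]; group
  refine ⟨r, hr, n, n⁻¹ * s * n, ⟨?_, fun h => hsI.2 ?_⟩, hn, ?_, ?_, n⁻¹ * q * n, ?_⟩
  · rw [show n⁻¹ * s * n * (n⁻¹ * s * n) = n⁻¹ * (s * s) * n by group, hsI.1]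
    group
  · simpa [mul_assoc] using (inferInstance : (Subgroup.center N).Normal).conj_mem _ h n
  · simp only [Subgroup.coe_mul, Subgroup.coe_inv, hs']
    group
  · simp only [Subgroup.coe_mul, Subgroup.coe_inv, hs']
    have h1 : MulAut.conj (n : H)⁻¹ (ev g [0]) ∈ (Subgroup.closure ((fun v : H => v * v) ''
        {v | Commute v (ev g r.x)})).map (MulAut.conj (n : H)⁻¹).toMonoidHom := ⟨_, hcl, rfl⟩
    rw [MonoidHom.map_closure, MulAut.conj_apply, inv_inv] at h1
    refine Subgroup.closure_mono ?_ h1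
    rintro _ ⟨_, ⟨v, hv, rfl⟩, rfl⟩
    refine ⟨MulAut.conj (n : H)⁻¹ v, ?_, by simp [mul_assoc]⟩
    rw [Set.mem_setOf_eq, hx', ← show MulAut.conj (n : H)⁻¹ (ev g r.x) = (n : H)⁻¹ * ev g r.x * n by simp]
    exact (show Commute v (ev g r.x) from hv).map _
  · simp only [Subgroup.coe_mul, Subgroup.coe_inv, hs', hx']
    calc (n : H)⁻¹ * q * n * ((n : H)⁻¹ * ev g r.x * n) * ((n : H)⁻¹ * q * n)⁻¹
        = (n : H)⁻¹ * ((q : H) * ev g r.x * (q : H)⁻¹) * n := by group
      _ = _ := by rw [hq]; group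

/-- Eight distinct conjugates under the centraliser of `a` bound the common centraliser by sixteen. -/
theorem root_bound (M : Model k c d N.subtype z g) {w : List ℕ} (hw : w ∈ d.Do) {x : H} (hwx : ev g w = x)
    {p : List ℕ} (h8 : p.length = 8) (hlt : ∀ i ∈ p, i < d.De.length)
    (hincr : Cert.incr (p.map fun i => c.fp k (d.De.getD i [] ++ w ++ iw (d.De.getD i []))) = true) :
    {v : H | v ∈ N.subtype.range ∧ Commute v (ev g [0]) ∧ Commute v x}.ncard ≤ 16 := by
  obtain ⟨hE, hO, hEl, -, -, -⟩ := M.lists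
  have hall := M.ncard_even (fun _ => True) (fun _ => true) fun v _ => by simp
  rw [List.countP_eq_length.2 (fun _ _ => rfl), hEl] at hall
  set A : Set H := {v : H | v ∈ N.subtype.range ∧ Commute v (ev g [0]) ∧ True}
  set C : Set H := {v : H | v ∈ N.subtype.range ∧ Commute v (ev g [0]) ∧ Commute v x}
  have hDe : ∀ i : Fin p.length, d.De.getD p[i.1] [] ∈ d.De := fun i => by
    rw [List.getD_eq_getElem _ _ (hlt _ (List.getElem_mem i.2))]
    exact List.getElem_mem _
  let φ : Fin p.length × C → A := fun q =>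
    ⟨ev g (d.De.getD p[q.1.1] []) * q.2.1, mul_mem (hE _ (hDe q.1)).2.1 q.2.2.1,
      ((hE _ (hDe q.1)).2.2.symm).mul_left q.2.2.2.1, trivial⟩
  have hφ : Function.Injective φ := by
    rintro ⟨i, v, hv⟩ ⟨i', v', hv'⟩ e
    have e' : ev g (d.De.getD p[i.1] []) * v = ev g (d.De.getD p[i'.1] []) * v' := congrArg Subtype.val e
    have hc : ∀ (j : Fin p.length) (u : H), Commute u x →
        ev g (d.De.getD p[j.1] [] ++ w ++ iw (d.De.getD p[j.1] [])) =
          (ev g (d.De.getD p[j.1] []) * u) * x * (ev g (d.De.getD p[j.1] []) * u)⁻¹ := fun j u hu => by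
      rw [ONanRec.ev_append, ONanRec.ev_append, ev_iw, hwx, mul_assoc (ev g (d.De.getD p[j.1] [])) u x, hu.eq]
      group
    have h1 : ev g (d.De.getD p[i.1] [] ++ w ++ iw (d.De.getD p[i.1] [])) =
        ev g (d.De.getD p[i'.1] [] ++ w ++ iw (d.De.getD p[i'.1] [])) := by
      rw [hc i v hv.2.2, hc i' v' hv'.2.2, e']
    have l8 : ∀ j : Fin p.length, ∀ l ∈ d.De.getD p[j.1] [] ++ w ++ iw (d.De.getD p[j.1] []), l < 8 := fun j l hl => by
      simp only [List.mem_append] at hl
      rcases hl with (hl | hl) | hl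
      exacts [(hE _ (hDe j)).1 l hl, (hO w hw).1 l hl, iw_lt (hE _ (hDe j)).1 l hl]
    have h2 := Cert.fp_congr M.hC M.hc (l8 i) (l8 i') h1
    have hnd := Cert.pairwise_of_incr hincr |>.imp fun hab => Nat.ne_of_lt hab
    have h3 := (List.nodup_iff_injective_get.1 hnd) (a₁ := ⟨i.1, by simp⟩) (a₂ := ⟨i'.1, by simp⟩) (by simpa using h2)
    have hii : i = i' := Fin.ext (by simpa using congrArg Fin.val h3)
    subst hii
    rw [mul_left_cancel_iff] at e'
    subst e'
    rfl
  have h := Nat.card_le_card_of_injective φ hφ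
  rw [Nat.card_prod, Nat.card_fin, Nat.card_coe_set_eq, Nat.card_coe_set_eq, hall, h8] at h
  omega

end Model

/-- The facts on extensions of index two. -/
theorem extFacts (N : Subgroup H) [N.Normal] (h : IsExt N) : ExtFacts N := by
  obtain ⟨k, c, d, z, g, M, hfo, hio⟩ := exists_model h
  have h0 : ∀ l ∈ [0], l < 8 := by simp
  have h44 : ∀ l ∈ [4, 4], l < 8 := by simp
  have hzz : ∀ z' : N, z' ∈ Subgroup.center N → z' ≠ 1 → z' * z' = 1 → (z' : H) = z :=
    fun z' a b c => M.center_invol a b c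
  have hzx : ∀ z' : N, z' ∈ Subgroup.center N → z' ≠ 1 → z' * z' = 1 → ∀ n : N,
      (n : H) * z' * (n : H)⁻¹ = ev g [4, 4] := fun z' a b c n => by
    rw [hzz z' a b c, M.ev44, (M.comm_z _).eq, mul_inv_cancel_right]
  refine ⟨fun s hs z' a b e => ?_, fun s hs z' a b e hinv => ?_, fun x hx hx2 hinv => ?_, fun x hx hx2 => ?_,
    fun x s hs hx hx4 => ?_⟩
  · -- fourth roots
    refine ⟨?_, ?_⟩
    · rw [M.out4_ncard hs [0] [0] (s : H) h0 (fun _ hn => hn) rfl]
      exact M.hd.o4s
    rw [M.out4_ncard hs [4, 4] [4, 4] (z' : H) h44 (fun n _ => hzx z' a b e n) rfl,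
      M.out2_ncard hs [4, 4] (z' : H) h44 (fun n _ => hzx z' a b e n),
      M.out2_ncard hs [0] (s : H) h0 (fun _ hn => hn)]
    rcases hfo with h1 | ⟨h1, h2, h3, h4⟩
    · exact .inl h1
    · exact .inr ⟨h1, h2, h3, fun x y hy => M.commute_center h4 x hy⟩
  · -- square roots
    rw [M.out2_ncard hs [4, 4] (z' : H) h44 (fun n _ => hzx z' a b e n),
      M.out2_ncard hs [0] (s : H) h0 (fun _ hn => hn)]
    rcases hio with h1 | ⟨h1, h2, h3⟩ | ⟨h1, h2, h3, h4⟩ | h1
    · obtain ⟨x, y, hy, hne⟩ := hinv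
      exact absurd (mul_inv_eq_iff_eq_mul.2 (M.commute_center h1 x hy).eq.symm) hne
    · refine .inl ⟨h1, h2, fun hB x y hx hy hx2 hy2 => ?_⟩
      rcases h3 with h3 | h3
      · exfalso
        obtain ⟨s', hs', l, hl, hl2, hln⟩ := hB
        obtain ⟨n, hn⟩ := M.exists_conj hs'
        replace hn : (n : H) * s' * (n : H)⁻¹ = ev g [0] := hn
        set l' : H := (n : H) * l * (n : H)⁻¹
        have hlc : Commute (ev g [0]) l' := by
          rw [← hn]
          exact (Commute.conj_iff _).2 (congrArg Subtype.val (Subgroup.mem_centralizer_singleton_iff.1 hl)).symm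
        obtain ⟨w, hw, hwl⟩ := M.mem_De hlc (by rw [M.range_eq]; exact N.mul_mem (N.mul_mem n.2 l.2) (N.inv_mem n.2))
        obtain ⟨hE, -, -, -, -, -⟩ := M.lists
        have hw8 := (hE w hw).1
        simp only [Dat.noTypeBOk, List.all_eq_true, Bool.or_eq_true, Bool.not_eq_true', List.any_eq_true,
          Bool.and_eq_true] at h3
        rcases h3 w hw with h3 | ⟨v, hv, h5, h6⟩
        · rw [(M.sq_iff hw8 h0).1 (by
            rw [hwl, ← hn, ← show ((l * l : N) : H) = s' from congrArg Subtype.val hl2, Subgroup.coe_mul]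
            simp only [l']
            group)] at h3
          exact Bool.noConfusion h3
        · obtain ⟨hv8, hvr, hvc⟩ := hE v hv
          rw [M.range_eq] at hvr
          have hc : n⁻¹ * ⟨ev g v, hvr⟩ * n ∈ cent s' := Subgroup.mem_centralizer_singleton_iff.2 (Subtype.ext (by
            simp only [Subgroup.coe_mul, Subgroup.coe_inv]
            have e1 : (s' : H) = (n : H)⁻¹ * ev g [0] * n := by rw [← hn]; group
            rw [e1]
            calc (n : H)⁻¹ * ev g v * n * ((n : H)⁻¹ * ev g [0] * n) = (n : H)⁻¹ * (ev g v * ev g [0]) * n := by group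
              _ = _ := by rw [← hvc.eq]; group))
          have h7 : ∀ u : List ℕ, (∀ a ∈ u, a < 8) → c.eqB k (v ++ w ++ iw v) u = false →
              ev g v * l' * (ev g v)⁻¹ ≠ ev g u := fun u hu hf e1 => by
            rw [(M.eq_iff (fun a ha => by
              simp only [List.mem_append] at ha
              rcases ha with (ha | ha) | ha
              exacts [hv8 a ha, hw8 a ha, iw_lt hv8 a ha]) hu).1 (by
                rw [ONanRec.ev_append, ONanRec.ev_append, ev_iw, hwl]; exact e1)] at hf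
            exact Bool.noConfusion hf
          rcases hln _ hc with e1 | e1 <;> replace e1 := congrArg Subtype.val e1 <;>
            simp only [Subgroup.coe_mul, Subgroup.coe_inv] at e1
          · refine h7 w hw8 h5 ?_
            rw [hwl]
            calc ev g v * l' * (ev g v)⁻¹
                = (n : H) * ((n : H)⁻¹ * ev g v * n * l * ((n : H)⁻¹ * ev g v * n)⁻¹) * (n : H)⁻¹ := by
                  simp only [l']; group
              _ = l' := by rw [e1]
          · refine h7 (iw w) (iw_lt hw8) h6 ?_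
            rw [ev_iw, hwl]
            calc ev g v * l' * (ev g v)⁻¹
                = (n : H) * ((n : H)⁻¹ * ev g v * n * l * ((n : H)⁻¹ * ev g v * n)⁻¹) * (n : H)⁻¹ := by
                  simp only [l']; group
              _ = l'⁻¹ := by rw [e1]; simp only [l']; group
      · obtain ⟨r, hr, n, hn⟩ := M.exists_rep hx hx2
        obtain ⟨r', hr', n', hn'⟩ := M.exists_rep hy hy2
        have hrr : r = r' := by
          match hd : d.reps, h3 with
          | [], _ => rw [hd] at hr; simp at hr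
          | [u], _ => rw [hd] at hr hr'; simp at hr hr'; rw [hr, hr']
          | _ :: _ :: _, h3 => simp at h3
        subst hrr
        refine ⟨n'⁻¹ * n, ?_⟩
        simp only [Subgroup.coe_mul, Subgroup.coe_inv]
        rw [show (n' : H)⁻¹ * n * x * ((n' : H)⁻¹ * n)⁻¹ = (n' : H)⁻¹ * ((n : H) * x * (n : H)⁻¹) * n' by group,
          hn, ← hn']
        group
    · refine .inr (.inl ⟨h1, h2, ?_, fun x hx hx2 => ?_⟩)
      · obtain ⟨r, hr⟩ := List.exists_mem_of_ne_nil _ h3
        obtain ⟨-, a1, a2, -, -, -⟩ := M.rep_spec hr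
        exact ⟨_, a1, a2⟩
      · obtain ⟨r, hr, n, m, hm, hn, hnm, hcl, hy⟩ := M.exists_pair hx hx2
        refine ⟨m, hm, hcl, fun l hlx hlm => ?_, hy⟩
        obtain ⟨hE, -, -, -, -, -⟩ := M.lists
        set l' : H := (n : H) * l * (n : H)⁻¹
        have hl2 : l' * l' = ev g [0] := by
          rw [← hnm, ← hlm, Subgroup.coe_mul]
          simp only [l']
          group
        have hlc : Commute (ev g [0]) l' := hl2 ▸ (Commute.refl l').mul_left (Commute.refl l')
        obtain ⟨w, hw, hwl⟩ := M.mem_De hlc (by rw [M.range_eq]; exact N.mul_mem (N.mul_mem n.2 l.2) (N.inv_mem n.2))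
        have hw8 := (hE w hw).1
        have hr8 := (M.rep_spec hr).1
        simp only [Dat.rootlessOk, List.all_eq_true, Bool.or_eq_true, Bool.not_eq_true'] at h4
        rcases h4 r hr w hw with h5 | h5
        · rw [(M.eq_iff (fun a ha => (List.mem_append.1 ha).elim (hw8 a) (hr8 a))
            (fun a ha => (List.mem_append.1 ha).elim (hr8 a) (hw8 a))).1 (by
              rw [ONanRec.ev_append, ONanRec.ev_append, hwl, ← hn]
              exact (Commute.conj_iff _).2 hlx)] at h5
          exact Bool.noConfusion h5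
        · rw [(M.sq_iff hw8 h0).1 (by rw [hwl, hl2])] at h5
          exact Bool.noConfusion h5
    · exact .inr (.inr h1)
  · obtain ⟨r, hr, n, m, hm, -, -, hcl, hy⟩ := M.exists_pair hx hx2
    exact ⟨m, hm, hcl, hy⟩
  · obtain ⟨r, hr, n, hn⟩ := M.exists_rep hx hx2
    obtain ⟨-, -, -, ⟨u, hu, huc⟩, -, -⟩ := M.rep_spec hr
    refine ⟨n⁻¹ * u * n, ?_, ?_⟩
    · rw [show n⁻¹ * u * n = n⁻¹ * u * n⁻¹⁻¹ by group, CfsgLib.Invol.orderOf_conj_eq, hu]
    · have e1 : x = (n : H)⁻¹ * ev g r.x * n := by rw [← hn]; group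
      rw [e1]
      have := huc.map (MulAut.conj (n : H)⁻¹).toMonoidHom
      simpa [mul_assoc] using this
  · -- fourth roots have small centralisers
    obtain ⟨n, hn⟩ := M.exists_conj hs
    have hn' : (n : H) * s * (n : H)⁻¹ = ev g [0] := hn
    set x' : H := (n : H) * x * (n : H)⁻¹
    have hx'4 : x' * x' * (x' * x') = ev g [0] := by
      rw [← hn', ← hx4]
      simp only [x']
      group
    have hxc : Commute (ev g [0]) x' := by
      rw [← hx'4]
      exact ((Commute.refl x').mul_left (Commute.refl x')).mul_left ((Commute.refl x').mul_left (Commute.refl x'))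
    have hx'N : x' ∉ N := fun h => hx (by simpa [x', mul_assoc] using N.mul_mem (N.mul_mem (N.inv_mem n.2) h) n.2)
    obtain ⟨w, hw, hwx⟩ := M.mem_Do hxc (by rw [M.range_eq]; exact hx'N)
    obtain ⟨hE, hO, -, -, -, -⟩ := M.lists
    have hw8 := (hO w hw).1
    obtain ⟨wit, hsm⟩ := M.hd.small
    simp only [Dat.smallOk, Bool.and_eq_true, Nat.beq_eq, List.all_eq_true, Nat.blt_eq] at hsm
    obtain ⟨hlen, hall⟩ := hsm
    have hmem : w ∈ Dat.rootList k c d :=
      List.mem_filter.2 ⟨hw, (M.pow_four_iff hw8 h0).1 (by rw [hwx, hx'4])⟩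
    obtain ⟨j, hj, hje⟩ := List.getElem_of_mem hmem
    obtain ⟨⟨h8len, hlt⟩, hincr⟩ := hall ((Dat.rootList k c d)[j], wit[j]'(hlen ▸ hj))
      (List.mem_iff_getElem.2 ⟨j, by simp [hlen ▸ hj, hj], by simp⟩)
    set p := wit[j]'(hlen ▸ hj)
    rw [hje] at hincr
    have hbound := M.root_bound hw hwx h8len hlt hincr
    refine le_trans ?_ hbound
    rw [← Set.ncard_image_of_injective _
      (show Function.Injective (fun v : N => (n : H) * v * (n : H)⁻¹) from fun a b e1 =>
        Subtype.ext (mul_left_cancel (mul_right_cancel e1)))]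
    refine Set.ncard_le_ncard ?_ (Set.toFinite _)
    rintro _ ⟨v, ⟨hv, hvx⟩, rfl⟩
    refine ⟨by rw [M.range_eq]; exact N.mul_mem (N.mul_mem n.2 v.2) (N.inv_mem n.2), ?_, (Commute.conj_iff _).2 hvx⟩
    rw [← hn']
    exact (Commute.conj_iff _).2 (congrArg Subtype.val (Subgroup.mem_centralizer_singleton_iff.1 hv))

end CfsgLib.StdON
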