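import Cfsg.Agent.Lib.StdON.LData
import Cfsg.Agent.Lib.ONanRec.Cand.CandShape
import Cfsg.Agent.Lib.ONanRec.Cand.CoverCodes

/-!
# The tables of the two covers are right
-/

set_option autoImplicit false
set_option maxRecDepth 100000
set_option maxHeartbeats 8000000

namespace CfsgLib.StdON

open ONanRec.Cand

theorem words_ok0 : dat0.okWords = true := by decide +kernel

theorem words_ok1 : dat1.okWords = true := by decide +kernel

theorem table_ok0 : dat0.okTable = true := by decide +kernel

theorem table_ok1 : dat1.okTable = true := by decide +kernel

theorem distinct_ok0 : dat0.okDistinct = true := by decide +kernel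

theorem distinct_ok1 : dat1.okDistinct = true := by decide +kernel

theorem facts_ok0 : dat0.okFacts = true := by decide +kernel

theorem facts_ok1 : dat1.okFacts = true := by decide +kernel

theorem dat_ok : ∀ h : Fin 2, (dat h).okWords = true ∧ (dat h).okTable = true ∧ (dat h).okDistinct = true ∧
    (dat h).okFacts = true := by
  intro h
  fin_cases h
  exacts [⟨words_ok0, table_ok0, distinct_ok0, facts_ok0⟩, ⟨words_ok1, table_ok1, distinct_ok1, facts_ok1⟩]

/-- The candidate of a table has the relators of its cover. -/
theorem dat_cov : ∀ h : Fin 2, ∀ i : Fin 6, (candData (dat h).k.val).1.getD i.val 0 = cov h.val i.val := by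
  decide +kernel

end CfsgLib.StdON
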