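import Cfsg.Agent.Lib.StdON.LRep
import Cfsg.Agent.Lib.StdON.LChecks
import Cfsg.Agent.Lib.ONanRec.Cand.CoverFrame
import Cfsg.Agent.Lib.ONanRec.Cand.Outer
import Cfsg.Agent.Lib.Classical.SLBasic
import Cfsg.Agent.Lib.Classical.PSL34
import Cfsg.Agent.Lib.Schur.L34Bound

/-!
# The facts on a perfect group 4.L3(4)

Such a group satisfies the relators of one of the two covers, so it is the group generated by the first three columns
of the table of a candidate. Its inner involutions are conjugate, and the facts on the centraliser of one of them are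
read off the table.
-/

set_option autoImplicit false
set_option linter.unusedSectionVars false
set_option maxRecDepth 100000
set_option maxHeartbeats 1000000

namespace CfsgLib.StdON

open ONanRec.Cand CfsgLib.Generation Matrix CfsgLib.PresCert
open CfsgLib.Schur.L34Data hiding ev

attribute [local irreducible] CfsgLib.Schur.L34Data.ev evF evW modelTab dat

theorem ev_congr_six {M : Type*} [Group M] {g g' : Fin 4 → M} (h : ∀ i : Fin 4, i.val < 3 → g i = g' i) :
    ∀ w : List ℕ, (∀ l ∈ w, l < 6) → ONanRec.Cand.ev g w = ONanRec.Cand.ev g' w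
  | [], _ => rfl
  | l :: w, hw => by
    rw [ev_cons, ev_cons, ev_congr_six h w fun a ha => hw a (List.mem_cons_of_mem _ ha)]
    congr 1
    have := hw l List.mem_cons_self
    interval_cases l <;> simp [h]

/-- Two elements with the relators of a cover modulo a central element of order dividing four. -/
theorem card_cover_le {M : Type*} [Group M] (a b z : M) (c : ℕ → ℕ) (h4 : z ^ 4 = 1) (za : Commute z a)
    (zb : Commute z b) (hrel : ∀ i < 6, ev2 a b (lRels.getD i []) = z ^ c i) :
    Finite (Subgroup.closure ({a, b, z} : Set M)) ∧ Nat.card (Subgroup.closure ({a, b, z} : Set M)) ≤ 80640 := by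
  set N := Subgroup.closure ({a, b, z} : Set M) with hN
  let aN : ↥N := ⟨a, Subgroup.subset_closure (by simp)⟩
  let bN : ↥N := ⟨b, Subgroup.subset_closure (by simp)⟩
  let zN : ↥N := ⟨z, Subgroup.subset_closure (by simp)⟩
  set Z := Subgroup.zpowers zN with hZ
  have hzc : ∀ y : ↥N, Commute zN y := by
    rintro ⟨y, hy⟩
    refine Subtype.ext ?_
    show z * y = y * z
    induction hy using Subgroup.closure_induction with
    | mem y hy => rcases hy with rfl | rfl | rfl; exacts [za.eq, zb.eq, rfl]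
    | one => simp
    | mul u v _ _ hu hv => exact (Commute.mul_right hu hv).eq
    | inv u _ hu => exact ((show Commute z u from hu).inv_right).eq
  haveI : Z.Normal := ⟨fun n hn y => by
    obtain ⟨j, rfl⟩ := Subgroup.mem_zpowers_iff.1 hn
    rw [((hzc y).symm.zpow_right j).eq, mul_inv_cancel_right]
    exact Subgroup.mem_zpowers_iff.2 ⟨j, rfl⟩⟩
  let π := QuotientGroup.mk' Z
  have hπz : π zN = 1 := (QuotientGroup.eq_one_iff _).2 (Subgroup.mem_zpowers _)
  have hev : ∀ {P : Type _} [Group P] (f : ↥N →* P) (w : List ℕ), f (ev2 aN bN w) = ev2 (f aN) (f bN) w := by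
    intro P _ f w
    rw [ev2, ev2, map_list_prod, List.map_map]
    refine congrArg List.prod (List.map_congr_left fun l _ => ?_)
    match l with
    | 0 => rfl
    | 1 => exact map_inv f aN
    | 2 => rfl
    | 3 => exact map_inv f bN
    | n + 4 => exact map_one f
  obtain ⟨hfin, hle⟩ := l34_card_le (π aN) (π bN) fun w hw => by
    obtain ⟨i, hi, rfl⟩ := List.getElem_of_mem hw
    have e : ev2 aN bN lRels[i] = zN ^ c i := by
      refine Subtype.ext (((hev N.subtype lRels[i]).trans ?_).trans (SubgroupClass.coe_pow zN _).symm)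
      rw [← List.getD_eq_getElem _ [] hi]
      exact hrel i hi
    rw [← hev π, e, map_pow, hπz, one_pow]
  have htop : Subgroup.closure ({π aN, π bN} : Set (↥N ⧸ Z)) = ⊤ := by
    rw [eq_top_iff]
    rintro y -
    obtain ⟨⟨y, hy⟩, rfl⟩ := QuotientGroup.mk'_surjective _ y
    induction hy using Subgroup.closure_induction with
    | mem y hy =>
      rcases hy with rfl | rfl | rfl
      · exact Subgroup.subset_closure (.inl rfl)
      · exact Subgroup.subset_closure (.inr rfl)
      · exact hπz.symm ▸ Subgroup.one_mem _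
    | one => exact Subgroup.one_mem _
    | mul u v hu hv ihu ihv =>
      have := Subgroup.mul_mem _ ihu ihv
      rwa [← map_mul] at this
    | inv u hu ihu =>
      have := Subgroup.inv_mem _ ihu
      rwa [← map_inv] at this
  rw [htop] at hfin hle
  rw [Nat.card_congr Subgroup.topEquiv.toEquiv] at hle
  haveI : Finite (↥N ⧸ Z) := Finite.of_equiv _ Subgroup.topEquiv.toEquiv
  have hd : orderOf zN ∣ 4 := orderOf_dvd_of_pow_eq_one (Subtype.ext h4)
  haveI : Finite Z := Nat.finite_of_card_ne_zero (by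
    rw [Nat.card_zpowers]
    exact (Nat.pos_of_dvd_of_pos hd (by norm_num)).ne')
  refine ⟨Finite.of_subgroup_quotient Z, ?_⟩
  rw [Subgroup.card_eq_card_quotient_mul_card_subgroup Z, Nat.card_zpowers]
  exact Nat.mul_le_mul hle (Nat.le_of_dvd (by norm_num) hd)

variable {F : Type} [Field F] [Fintype F] [CharP F 2] {ω : F} {L : Type*} [Group L] [Finite L]
  {τ : L →* ProjectiveSpecialLinearGroup (Fin 3) F} {z a b : L} {h : Fin 2}

/-- A frame gives the representation by the table. -/
theorem exists_rep (hF : Fintype.card F = 4) (hω : ω * ω = 1 + ω) (hb : Function.Bijective (val4 ω))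
    (hf : Frame ω τ z a b h) (hcen : τ.ker = Subgroup.center L) : Rep (dat h) (![a, b, z, 1] : Fin 4 → L) := by
  set k := (dat h).k with hk
  set g : Fin 4 → L := ![a, b, z, 1] with hg
  have h4 : z ^ 4 = 1 := hf.ord ▸ pow_orderOf_eq_one z
  have hzc := comm_of_ker hf.ker hf.central
  have hcard : Nat.card L = 80640 := by
    have h2 := τ.ker.card_mul_index
    rw [Subgroup.index_ker, MonoidHom.range_eq_top_of_surjective τ hf.surj, Subgroup.card_top,
      CfsgLib.Schur.L34.card_PSL34 hF, hf.ker, Nat.card_zpowers, hf.ord] at h2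
    omega
  -- the pairs of an element and a permutation
  let gp : Fin 4 → L × Equiv.Perm (Fin (modelTab k.val).n) := fun i => (g i, colPerm k i)
  obtain ⟨hs, -, -⟩ := candData_spec k
  have hσ := colPerm_rels k
  rw [hs] at hσ
  have comm_of : ∀ i : Fin 4, ev (colPerm k) [2 * i.val, 5, 2 * i.val + 1, 4] = 1 →
      Commute (colPerm k 2) (colPerm k i) := by
    intro i he
    have : colPerm k i * (colPerm k 2)⁻¹ * (colPerm k i)⁻¹ * colPerm k 2 = 1 := by
      fin_cases i <;> simpa [ev, mul_assoc] using he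
    rw [mul_eq_one_iff_eq_inv] at this
    have h2 : Commute (colPerm k i) (colPerm k 2)⁻¹ := mul_inv_eq_iff_eq_mul.1 this
    simpa using h2.inv_right.symm
  have za : Commute (gp 2) (gp 0) := by
    have hz : Commute z a := hzc a
    exact Prod.ext (by simpa [gp, hg] using hz.eq) (comm_of 0 (hσ _ (by simp [shape]))).eq
  have zb : Commute (gp 2) (gp 1) := by
    have hz : Commute z b := hzc b
    exact Prod.ext (by simpa [gp, hg] using hz.eq) (comm_of 1 (hσ _ (by simp [shape]))).eq
  have hz4 : gp 2 ^ 4 = 1 := by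
    refine Prod.ext (by simpa [gp, hg] using h4) ?_
    have := hσ [4, 4, 4, 4] (by simp [shape])
    simpa [gp, ev, pow_succ, mul_assoc] using this
  have hev2 : ∀ {M : Type _} [Group M] (q : Fin 4 → M) (w : List ℕ), (∀ l ∈ w, l < 4) →
      ev2 (q 0) (q 1) w = ev q w := by
    intro M _ q w hw
    refine congrArg List.prod (List.map_congr_left fun l hl => ?_)
    have := hw l hl
    interval_cases l <;> simp
  have hrel : ∀ i < 6, ev2 (gp 0) (gp 1) (lRels.getD i []) = gp 2 ^ cov h.val i := by
    intro i hi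
    have hl : ∀ l ∈ lRels.getD i [], l < 4 := by
      rw [rel_eq ⟨i, hi⟩]
      exact rel_lt ⟨i, hi⟩
    rw [hev2 gp _ hl]
    refine Prod.ext ((map_ev gp (MonoidHom.fst _ _) _).trans ?_) ((map_ev gp (MonoidHom.snd _ _) _).trans ?_)
    · show ev g (lRels.getD i []) = z ^ cov h.val i
      rw [rel_eq ⟨i, hi⟩]
      exact hf.rels ⟨i, hi⟩
    · show ev (colPerm k) (lRels.getD i []) = colPerm k 2 ^ cov h.val i
      have := hσ (lRels.getD i [] ++ List.replicate ((candData k.val).1.getD i 0) 5) (by
        simp only [shape, List.mem_append, List.mem_map, List.mem_range]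
        exact .inl (.inr ⟨i, hi, rfl⟩))
      rw [dat_cov h ⟨i, hi⟩, ev_append, show ev (colPerm k) (List.replicate (cov h.val i) 5) =
        ((colPerm k 2)⁻¹) ^ cov h.val i by simp [ev, List.map_replicate, List.prod_replicate]] at this
      rwa [mul_eq_one_iff_eq_inv, inv_pow, inv_inv] at this
  obtain ⟨hfin, hle⟩ := card_cover_le _ _ _ (cov h.val) hz4 za zb hrel
  set P := Subgroup.closure ({gp 0, gp 1, gp 2} : Set _) with hP
  let f : ↥P →* L := (MonoidHom.fst _ _).comp P.subtype
  have fsurj : Function.Surjective f := by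
    intro y
    have hy : y ∈ Subgroup.closure ({a, b, z} : Set L) := by rw [hf.closure_eq hF hω hb]; exact Subgroup.mem_top y
    have hle' : Subgroup.closure ({a, b, z} : Set L) ≤ f.range := by
      refine (Subgroup.closure_le _).2 ?_
      rintro _ (rfl | rfl | rfl)
      exacts [⟨⟨gp 0, Subgroup.subset_closure (by simp)⟩, rfl⟩, ⟨⟨gp 1, Subgroup.subset_closure (by simp)⟩, rfl⟩,
        ⟨⟨gp 2, Subgroup.subset_closure (by simp)⟩, rfl⟩]
    exact hle' hy
  have fbij : Function.Bijective f := fsurj.bijective_of_nat_card_le (by rw [hcard]; exact hle)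
  let ψ : L →* Equiv.Perm (Fin (modelTab k.val).n) :=
    ((MonoidHom.snd _ _).comp P.subtype).comp (MulEquiv.ofBijective f fbij).symm.toMonoidHom
  have hψ : ∀ i : Fin 4, i.val < 3 → ψ (g i) = colPerm k i := by
    intro i hi
    have hm : gp i ∈ P := by
      refine Subgroup.subset_closure ?_
      fin_cases i <;> simp at hi ⊢
    have : (MulEquiv.ofBijective f fbij).symm (g i) = ⟨gp i, hm⟩ := by
      rw [MulEquiv.symm_apply_eq]
      rfl
    show ((MulEquiv.ofBijective f fbij).symm (g i)).1.2 = _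
    rw [this]
  have hψev : ∀ w : List ℕ, (∀ l ∈ w, l < 6) → ψ (ev g w) = ev (colPerm k) w := fun w hw =>
    (map_ev g ψ w).trans (ev_congr_six hψ w hw)
  have hψz : ψ (z * z) ≠ 1 := by
    rw [map_mul]
    have e := hψ 2 (by norm_num)
    simp only [hg, Matrix.cons_val] at e
    rw [e]
    exact colPerm_zz k
  have ψinj : Function.Injective ψ := by
    rw [← MonoidHom.ker_eq_bot_iff, Subgroup.eq_bot_iff_forall]
    have hsimple : IsSimpleGroup (ProjectiveSpecialLinearGroup (Fin 3) F) :=
      CfsgLib.Classical.isSimpleGroup_PSL (by simp)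
    rcases hsimple.eq_bot_or_eq_top_of_normal (ψ.ker.map τ) ((MonoidHom.normal_ker ψ).map τ hf.surj) with h' | h'
    · intro c hc
      have hcz : c ∈ Subgroup.zpowers z := hf.ker ▸ (Subgroup.map_eq_bot_iff _).1 h' hc
      rcases zs_four h4 hcz with e | e | e | e
      · exact e
      · exact absurd (MonoidHom.mem_ker.1 (ψ.ker.mul_mem (e ▸ hc) (e ▸ hc))) hψz
      · exact absurd (MonoidHom.mem_ker.1 (e ▸ hc)) hψz
      · refine absurd ?_ hψz
        have e' := MonoidHom.mem_ker.1 (ψ.ker.mul_mem (e ▸ hc) (e ▸ hc))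
        rwa [show z * z * z * (z * z * z) = z ^ 4 * (z * z) by simp [pow_succ, mul_assoc], h4, one_mul] at e'
    · exfalso
      refine hψz (MonoidHom.mem_ker.1 ((?_ : ⊤ ≤ ψ.ker) (Subgroup.mem_top _)))
      rw [← hf.perfect, _root_.commutator_def, Subgroup.commutator_le]
      intro u _ v _
      obtain ⟨n, hn, hn'⟩ := h'.ge (Subgroup.mem_top (τ u))
      obtain ⟨c, hc, rfl⟩ : ∃ c ∈ Subgroup.center L, u = n * c :=
        ⟨_, hf.central (by rw [MonoidHom.mem_ker, map_mul, map_inv, hn', inv_mul_cancel]), (mul_inv_cancel_left n u).symm⟩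
      rw [MonoidHom.mem_ker, map_commutatorElement, map_mul, MonoidHom.mem_ker.1 hn, one_mul, ← map_commutatorElement,
        commutatorElement_eq_one_iff_mul_comm.2 (Subgroup.mem_center_iff.1 hc v).symm, map_one]
  have walk_eq : ∀ u v : List ℕ, (∀ l ∈ u, l < 6) → (∀ l ∈ v, l < 6) → ev g u = ev g v →
      ∀ i < (modelTab k.val).n, (modelTab k.val).walk i u = (modelTab k.val).walk i v := by
    intro u v hu hv e i hi
    have hu8 : ∀ l ∈ u, l < 8 := fun l hl => (hu l hl).trans (by norm_num)
    have hv8 : ∀ l ∈ v, l < 8 := fun l hl => (hv l hl).trans (by norm_num)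
    rw [← colPerm_word k hu8 ⟨i, hi⟩, ← colPerm_word k hv8 ⟨i, hi⟩, ← hψev u hu, e, hψev v hv]
  have hok := dat_ok h
  have hsqa : a * a = 1 := by
    have := hf.rels 0
    rw [show rel (0 : Fin 6).val = [0, 0] from rfl, show cov h.val (0 : Fin 6).val = 0 by fin_cases h <;> rfl,
      pow_zero] at this
    simpa [ev] using this
  have hab : τ a ≠ 1 := by
    intro ha
    have hac : a ∈ Subgroup.center L := hcen ▸ ha
    have hne : (dat h).code [0, 2] ≠ (dat h).code [2, 0] := by
      have h' := hok.1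
      simp only [LDat.okWords, Bool.and_eq_true, Bool.not_eq_true', ← Bool.not_eq_true, Nat.beq_eq] at h'
      exact h'.2
    have hbase : ∀ p ∈ (dat h).base, p < (modelTab k.val).n := by
      have h' := hok.1
      simp only [LDat.okWords, Bool.and_eq_true, List.all_eq_true, Nat.blt_eq] at h'
      exact h'.1.2
    refine hne (List.foldl_ext _ _ _ fun c p hp => ?_)
    rw [walk_eq [0, 2] [2, 0] (by simp) (by simp) ?_ p (hbase p hp)]
    simpa [ev, hg] using (Subgroup.mem_center_iff.1 hac b).symm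
  refine ⟨hcard, walk_eq, fun u v hu hv e => ψinj ?_, ?_, ?_, ?_, fun l hl => ?_, hok⟩
  · have hu8 : ∀ l ∈ u, l < 8 := fun l hl => (hu l hl).trans (by norm_num)
    have hv8 : ∀ l ∈ v, l < 8 := fun l hl => (hv l hl).trans (by norm_num)
    rw [hψev u hu, hψev v hv, ← _root_.inv_inj]
    exact Equiv.ext fun i => Fin.ext (by rw [colPerm_word k hu8, colPerm_word k hv8]; exact e i.val i.isLt)
  · rw [← hcen, hf.ker]
    simp [hg]
  · simpa [hg] using hf.ord
  · simpa [hg] using hsqa
  · by_cases hτ : τ l = 1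
    · exact .inl (hcen ▸ hτ)
    refine .inr ?_
    haveI : Fact (Nat.Prime 2) := ⟨Nat.prime_two⟩
    have ho : orderOf (τ a) = 2 := orderOf_eq_prime (by rw [pow_two, ← map_mul, hsqa, map_one]) hab
    have hol : orderOf (τ l) = 2 := orderOf_eq_prime (by
      rw [pow_two, ← map_mul]
      exact MonoidHom.mem_ker.1 (hcen.symm ▸ hl : l * l ∈ τ.ker)) hτ
    obtain ⟨x, hx⟩ := isConj_iff.1 (CfsgLib.Classical.PSL34.involutions_conjugate hF _ _ ho hol)
    obtain ⟨m, rfl⟩ := hf.surj x
    refine ⟨m, l⁻¹ * (m * a * m⁻¹), ?_, by simp [hg, mul_assoc]⟩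
    rw [← hcen, MonoidHom.mem_ker, map_mul, map_inv, map_mul, map_mul, map_inv, hx, inv_mul_cancel]

namespace Rep

variable {L : Type*} [Group L] {D : LDat} {g : Fin 4 → L} (R : Rep D g)
include R

/-- Inner involutions are conjugates of the first generator. -/
theorem conj_of_inner {s : L} (hs : Inner s) : ∃ m : L, m * g 0 * m⁻¹ = s := by
  rcases R.classes s (hs.1 ▸ one_mem _) with h | ⟨m, c, hc, he⟩
  · exact absurd h hs.2
  have hcomm : ∀ y : L, y * c = c * y := Subgroup.mem_center_iff.1 hc
  have hcc : c * c = 1 := by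
    have e : s * c * (s * c) = 1 := by
      rw [he, show m * g 0 * m⁻¹ * (m * g 0 * m⁻¹) = m * (g 0 * g 0) * m⁻¹ by group, R.sq_a]
      group
    calc c * c = s * s * (c * c) := by rw [hs.1, one_mul]
      _ = s * (c * s) * c := by rw [← hcomm s]; simp only [mul_assoc]
      _ = s * c * (s * c) := by simp only [mul_assoc]
      _ = 1 := e
  by_cases h1 : c = 1
  · exact ⟨m, by rw [← he, h1, mul_one]⟩
  have hcz := R.central_invol hc h1 hcc
  obtain ⟨-, -, hl6, -, -, hsame, -⟩ := R.words_spec
  have e0 : ev g D.conjA * g 0 * (ev g D.conjA)⁻¹ = g 0 * c := by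
    have h6 : ∀ l ∈ LDat.conjWord D.conjA, l < 6 := fun l hl => by
      rcases List.mem_append.1 hl with h | h
      · exact hl6 l h
      rcases List.mem_cons.1 h with rfl | h
      exacts [by norm_num, invC_lt hl6 l h]
    have := R.same_sound h6 (by simp) hsame
    rw [LDat.conjWord, ev_append, ev_cons, ev_invC g fun l hl => (hl6 l hl).trans (by norm_num), ← mul_assoc] at this
    rw [hcz]
    simpa [ev] using this
  refine ⟨m * ev g D.conjA, ?_⟩
  calc m * ev g D.conjA * g 0 * (m * ev g D.conjA)⁻¹ = m * (ev g D.conjA * g 0 * (ev g D.conjA)⁻¹) * m⁻¹ := by group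
    _ = m * g 0 * (c * m⁻¹) := by rw [e0]; group
    _ = m * g 0 * m⁻¹ * c := by rw [← hcomm m⁻¹]; group
    _ = s := by rw [← he, mul_assoc, hcc, mul_one]

end Rep

/-- An inner involution with the facts of its centraliser: transfer by an automorphism. -/
theorem cent_map_iff {L : Type*} [Group L] (e : L ≃* L) (a v : L) : e v ∈ cent (e a) ↔ v ∈ cent a := by
  simp only [cent, Subgroup.mem_centralizer_singleton_iff, ← map_mul, e.injective.eq_iff]

theorem ncard_map {L : Type*} [Group L] (e : L ≃* L) {S S' : L → Prop} (h : ∀ v, S' (e v) ↔ S v) :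
    {v : L | S' v}.ncard = {v : L | S v}.ncard := by
  rw [← Set.ncard_image_of_injective {v : L | S v} e.injective]
  congr 1
  ext v
  refine ⟨fun hv => ⟨e.symm v, (h _).1 (by simpa using hv), e.apply_symm_apply v⟩, ?_⟩
  rintro ⟨u, hu, rfl⟩
  exact (h u).2 hu

theorem omega_map_iff {L : Type*} [Group L] (e : L ≃* L) (a v : L) :
    e v ∈ centOmega (e a) ↔ v ∈ centOmega a := by
  have key : ∀ (e : L ≃* L) (a v : L), v ∈ centOmega a → e v ∈ centOmega (e a) := by
    intro e a v hv
    have hle : centOmega a ≤ (centOmega (e a)).comap e.toMonoidHom := by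
      refine (Subgroup.closure_le _).2 fun c hc => Subgroup.subset_closure ⟨(cent_map_iff e a c).2 hc.1, ?_⟩
      show e c * e c = 1
      rw [← map_mul, hc.2, map_one]
    exact hle hv
  refine ⟨fun hv => ?_, key e a v⟩
  simpa using key e.symm (e a) (e v) hv

namespace Rep

variable {L : Type*} [Group L] {D : LDat} {g : Fin 4 → L} (R : Rep D g)
include R

/-- All the facts. -/
theorem facts : LFacts L := by
  haveI := R.finite
  obtain ⟨⟨hr, hrr⟩, hcc, hexp, hnr, ⟨n1, n2, n3, n4⟩, -, m1, m2⟩ := R.facts_spec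
  obtain ⟨hi0, hia, hiz, -⟩ := R.table_spec
  have hz2 := R.word_mul hiz hiz
  have hsqi : ∀ i < 128, ∀ t < 128, (ev g (D.word i) * ev g (D.word i) = ev g (D.word t) ↔
      Nat.beq (D.mul i i) t = true) := by
    intro i hi t ht
    rw [← (R.word_mul hi hi).2, Nat.beq_eq]
    exact ⟨R.index_eq (R.word_mul hi hi).1 ht, fun e => by rw [e]⟩
  have h4i : ∀ i < 128, ∀ t < 128, (ev g (D.word i) * ev g (D.word i) * (ev g (D.word i) * ev g (D.word i)) =
      ev g (D.word t) ↔ Nat.beq (D.four i) t = true) := by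
    intro i hi t ht
    rw [← (R.word_mul hi hi).2]
    exact hsqi _ (R.word_mul hi hi).1 t ht
  -- transfer to an arbitrary inner involution
  have move : ∀ s : L, Inner s → ∃ e : L ≃* L, e (g 0) = s ∧ ∀ c ∈ Subgroup.center L, e c = c := by
    intro s hs
    obtain ⟨m, hm⟩ := R.conj_of_inner hs
    exact ⟨MulAut.conj m, hm, fun c hc => by
      rw [MulAut.conj_apply, Subgroup.mem_center_iff.1 hc m, mul_inv_cancel_right]⟩
  have hz : ∀ z ∈ Subgroup.center L, z ≠ 1 → z * z = 1 → z = ev g (D.word (D.mul D.iz D.iz)) :=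
    fun z hz h1 h2 => by rw [R.word_z2]; exact R.central_invol hz h1 h2
  have counts : ∀ s : L, Inner s → ∀ z ∈ Subgroup.center L, z ≠ 1 → z * z = 1 →
      {v : L | v ∈ cent s ∧ v * v = z}.ncard = 24 ∧ {v : L | v ∈ cent s ∧ v * v = s}.ncard = 8 ∧
      {v : L | v ∈ cent s ∧ v * v * (v * v) = z}.ncard = 32 ∧
      {v : L | v ∈ cent s ∧ v * v * (v * v) = s}.ncard = 0 := by
    intro s hs z hzm h1 h2
    obtain ⟨e, rfl, hec⟩ := move s hs
    have he := hec z hzm
    rw [← R.word_ia] at *
    refine ⟨?_, ?_, ?_, ?_⟩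
    · rw [ncard_map e (S := fun v => v ∈ cent (ev g (D.word D.ia)) ∧ v * v = z) fun v => and_congr
        (cent_map_iff e _ v) (by conv_lhs => rw [← map_mul, ← he, e.injective.eq_iff])]
      rw [R.word_ia, R.ncard_eq (fun v => v * v = z) _ fun i hi => by rw [hz z hzm h1 h2]; exact hsqi i hi _ hz2.1]
      exact n1
    · rw [ncard_map e (S := fun v => v ∈ cent (ev g (D.word D.ia)) ∧ v * v = ev g (D.word D.ia)) fun v => and_congr
        (cent_map_iff e _ v) (by rw [← map_mul, e.injective.eq_iff])]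
      rw [R.word_ia, R.ncard_eq (fun v => v * v = g 0) _ fun i hi => by rw [← R.word_ia]; exact hsqi i hi _ hia]
      exact n2
    · rw [ncard_map e (S := fun v => v ∈ cent (ev g (D.word D.ia)) ∧ v * v * (v * v) = z) fun v => and_congr
        (cent_map_iff e _ v) (by conv_lhs => rw [← map_mul, ← map_mul, ← he, e.injective.eq_iff])]
      rw [R.word_ia, R.ncard_eq (fun v => v * v * (v * v) = z) _ fun i hi => by
        rw [hz z hzm h1 h2]; exact h4i i hi _ hz2.1]
      exact n3
    · rw [ncard_map e (S := fun v => v ∈ cent (ev g (D.word D.ia)) ∧ v * v * (v * v) = ev g (D.word D.ia))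
        fun v => and_congr (cent_map_iff e _ v) (by rw [← map_mul, ← map_mul, e.injective.eq_iff])]
      rw [R.word_ia, R.ncard_eq (fun v => v * v * (v * v) = g 0) _ fun i hi => by
        rw [← R.word_ia]; exact h4i i hi _ hia]
      exact n4
  have base : ∀ s : L, Inner s → ∀ c ∈ cent s, ∃ e : L ≃* L, e (g 0) = s ∧
      (∀ c ∈ Subgroup.center L, e c = c) ∧ ∃ i < 128, e (ev g (D.word i)) = c := by
    intro s hs c hc
    obtain ⟨e, he, hec⟩ := move s hs
    have : e.symm c ∈ cent (g 0) := (cent_map_iff e _ _).1 (by rw [e.apply_symm_apply, he]; exact hc)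
    obtain ⟨i, hi, hic⟩ := R.exists_index this
    exact ⟨e, he, hec, i, hi, by rw [hic, e.apply_symm_apply]⟩
  have symm_centre : ∀ {e : L ≃* L}, (∀ c ∈ Subgroup.center L, e c = c) → ∀ x : L,
      e x ∈ Subgroup.center L → x ∈ Subgroup.center L := by
    intro e hec x hx
    have := e.injective (hec _ hx)
    rwa [← this]
  refine
    { lift := fun l hl => ?_
      one_class := fun s s' hs hs' => ?_
      card_cent := fun s hs => ?_
      mem_squares := fun s hs => ?_
      centre_cent := fun s hs u hu => ?_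
      root_values := counts
      exp_four := fun s hs l hl => ?_
      no_root := fun s hs ζ hζ hζ2 l hl hll => ?_
      roots_cent := fun s hs z hzm h1 h2 => ?_
      roots_omega := fun s hs z hzm h1 h2 => ?_ }
  · refine (R.classes l hl).imp id ?_
    rintro ⟨m, c, hc, he⟩
    refine ⟨c, hc, ?_⟩
    rw [he]
    refine ⟨by rw [show m * g 0 * m⁻¹ * (m * g 0 * m⁻¹) = m * (g 0 * g 0) * m⁻¹ by group, R.sq_a]; group, fun h => ?_⟩
    refine R.inner_a.2 ?_
    have e := Subgroup.mem_center_iff.1 h m⁻¹
    have : g 0 = m * g 0 * m⁻¹ := by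
      calc g 0 = m⁻¹ * (m * g 0 * m⁻¹) * m := by group
        _ = _ := by rw [e]; group
    rwa [this]
  · obtain ⟨m, rfl⟩ := R.conj_of_inner hs
    obtain ⟨m', rfl⟩ := R.conj_of_inner hs'
    exact ⟨m' * m⁻¹, by group⟩
  · obtain ⟨e, rfl, -⟩ := move s hs
    rw [← R.card_cent]
    exact (Nat.card_congr (e.toEquiv.subtypeEquiv fun v => (cent_map_iff e _ v).symm)).symm
  · obtain ⟨e, rfl, -⟩ := move s hs
    refine Subgroup.subset_closure ⟨e (ev g (D.word D.sqRoot)), (cent_map_iff e _ _).2 (R.prod_mem _), ?_⟩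
    show e _ * e _ = _
    rw [← map_mul, ← (R.word_mul hr hr).2, hrr, R.word_ia]
  · have hus : u ∈ cent s := by
      refine Subgroup.mem_centralizer_singleton_iff.2 ?_
      exact hu s (Subgroup.mem_centralizer_singleton_iff.2 rfl)
    obtain ⟨e, rfl, hec, i, hi, rfl⟩ := base s hs u hus
    rcases hcc i hi with h | h | ⟨x, hx, hne⟩
    · have := (R.centre_iff hi).2 h
      exact .inl (by rwa [hec _ this])
    · have := (R.centre_iff (R.word_mul hi hia).1).2 h
      rw [(R.word_mul hi hia).2, R.word_ia] at this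
      exact .inr (by rw [← map_mul]; rwa [hec _ this])
    · refine absurd ?_ hne
      obtain ⟨h1, h2⟩ := R.word_rmulW [x] (by simpa using hx) hi
      obtain ⟨h1', h2'⟩ := R.word_rmulW [x] (by simpa using hx) hi0
      change D.rmul x i < 128 at h1
      change D.rmul x D.i0 < 128 at h1'
      change ev g (D.word (D.rmul x i)) = _ at h2
      change ev g (D.word (D.rmul x D.i0)) = _ at h2'
      refine R.index_eq h1 (R.word_mul h1' hi).1 ?_
      rw [(R.word_mul h1' hi).2, h2, h2', R.word_i0, one_mul]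
      apply e.injective
      rw [map_mul, map_mul]
      exact hu _ ((cent_map_iff e _ _).2 (R.prod_mem [x]))
  · obtain ⟨e, rfl, hec, i, hi, rfl⟩ := base s hs l hl
    have hf : D.four i < 128 := (R.word_mul (R.word_mul hi hi).1 (R.word_mul hi hi).1).1
    have hm := (R.centre_iff hf).2 (hexp i hi)
    rw [LDat.four, (R.word_mul (R.word_mul hi hi).1 (R.word_mul hi hi).1).2, (R.word_mul hi hi).2] at hm
    rw [← map_mul, ← map_mul]
    rwa [hec _ hm]
  · obtain ⟨e, rfl, hec, i, hi, rfl⟩ := base s hs l hl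
    obtain ⟨t, ht, hte, htz⟩ : ∃ t < 128, ev g (D.word t) = ζ ∧
        (t = D.iz ∨ t = D.mul (D.mul D.iz D.iz) D.iz) := by
      rcases zs_four (R.ord ▸ pow_orderOf_eq_one (g 2)) (R.centre ▸ hζ) with rfl | rfl | rfl | rfl
      · exact absurd (one_mul 1) hζ2
      · exact ⟨_, hiz, R.word_iz, .inl rfl⟩
      · exact absurd R.four_z hζ2
      · exact ⟨_, (R.word_mul hz2.1 hiz).1, R.word_z3, .inr rfl⟩
    have hsq : D.mul i i = D.mul t D.ia := by
      refine R.index_eq (R.word_mul hi hi).1 (R.word_mul ht hia).1 ?_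
      rw [(R.word_mul hi hi).2, (R.word_mul ht hia).2, hte, R.word_ia]
      apply e.injective
      rw [map_mul, map_mul, hec ζ hζ]
      exact hll
    obtain ⟨x, hx, hne1, hne2⟩ := hnr i hi (by rcases htz with rfl | rfl <;> [exact .inl hsq; exact .inr hsq])
    obtain ⟨h1, k1⟩ := R.word_rmulW [x] (by simpa using hx) hi
    obtain ⟨h1', k1'⟩ := R.word_rmulW [x] (by simpa using hx) hi0
    change D.rmul x i < 128 at h1
    change D.rmul x D.i0 < 128 at h1'
    change ev g (D.word (D.rmul x i)) = _ at k1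
    change ev g (D.word (D.rmul x D.i0)) = _ at k1'
    rw [R.word_i0, one_mul] at k1'
    refine ⟨_, (cent_map_iff e _ _).2 (R.prod_mem [x]), fun h => hne1 ?_, fun h => hne2 ?_⟩
    · refine R.index_eq h1 (R.word_mul h1' hi).1 ?_
      rw [(R.word_mul h1' hi).2, k1, k1']
      apply e.injective
      rw [map_mul, map_mul]
      calc e (ev g (D.word i)) * e (ev g ([x].flatMap D.gword))
          = e (ev g ([x].flatMap D.gword)) * e (ev g (D.word i)) * ((e (ev g (D.word i)))⁻¹ *
            (e (ev g ([x].flatMap D.gword)))⁻¹ * e (ev g (D.word i)) * e (ev g ([x].flatMap D.gword))) := by group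
        _ = _ := by rw [h, mul_one]
    · refine R.index_eq h1 (R.word_mul (R.word_mul h1' hi).1 hia).1 ?_
      rw [(R.word_mul (R.word_mul h1' hi).1 hia).2, (R.word_mul h1' hi).2, k1, k1', R.word_ia]
      apply e.injective
      rw [map_mul, map_mul, map_mul]
      calc e (ev g (D.word i)) * e (ev g ([x].flatMap D.gword))
          = e (ev g ([x].flatMap D.gword)) * e (ev g (D.word i)) * ((e (ev g (D.word i)))⁻¹ *
            (e (ev g ([x].flatMap D.gword)))⁻¹ * e (ev g (D.word i)) * e (ev g ([x].flatMap D.gword))) := by group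
        _ = _ := by rw [h]
  · obtain ⟨h24, h8, -⟩ := counts s hs z hzm h1 h2
    omega
  · obtain ⟨e, rfl, hec⟩ := move s hs
    have he := hec z hzm
    have sub : ∀ v : L, v ∈ centOmega (g 0) → v ∈ cent (g 0) := fun v hv =>
      (Subgroup.closure_le (K := cent (g 0))).2 (fun c hc => hc.1) hv
    have hom : ∀ (w : L) (p : ℕ → Bool), (∀ i < 128, (ev g (D.word i) * ev g (D.word i) = w ↔ p i = true)) →
        {v : L | v ∈ centOmega (g 0) ∧ v * v = w}.ncard = LDat.cnt fun i => D.omIdx.contains i && p i := by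
      intro w p hp
      rw [show {v : L | v ∈ centOmega (g 0) ∧ v * v = w} =
        {v : L | v ∈ cent (g 0) ∧ v ∈ centOmega (g 0) ∧ v * v = w} from
          Set.ext fun v => ⟨fun h => ⟨sub v h.1, h⟩, fun h => h.2⟩]
      exact R.ncard_eq (fun v => v ∈ centOmega (g 0) ∧ v * v = w) (fun i => D.omIdx.contains i && p i) fun i hi => by
        rw [Bool.and_eq_true, List.contains_iff_mem]
        exact and_congr (R.omega_iff hi) (hp i hi)
    have e1 : {v : L | v ∈ centOmega (e (g 0)) ∧ v * v = z}.ncard = 24 := by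
      rw [ncard_map e (S := fun v => v ∈ centOmega (g 0) ∧ v * v = z)
        (S' := fun v => v ∈ centOmega (e (g 0)) ∧ v * v = z) fun v => and_congr
        (omega_map_iff e _ v) (by conv_lhs => rw [← map_mul, ← he, e.injective.eq_iff])]
      rw [hom z (fun i => Nat.beq (D.mul i i) (D.mul D.iz D.iz)) fun i hi => by
        rw [hz z hzm h1 h2]; exact hsqi i hi _ hz2.1]
      exact m1
    have e2 : {v : L | v ∈ centOmega (e (g 0)) ∧ v * v = e (g 0)}.ncard = 8 := by
      rw [ncard_map e (S := fun v => v ∈ centOmega (g 0) ∧ v * v = g 0)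
        (S' := fun v => v ∈ centOmega (e (g 0)) ∧ v * v = e (g 0)) fun v => and_congr
        (omega_map_iff e _ v) (by rw [← map_mul, e.injective.eq_iff])]
      rw [hom (g 0) (fun i => Nat.beq (D.mul i i) D.ia) fun i hi => by rw [← R.word_ia]; exact hsqi i hi _ hia]
      exact m2
    rw [e1, e2]
    norm_num

end Rep

/-- The facts on a perfect group 4.L3(4). -/
theorem lFacts {L : Type*} [Group L] [Finite L] (hL : IsFour L) : LFacts L := by
  obtain ⟨hperf, hcyc, hcard, F, iF, iF', hF, ⟨e0⟩⟩ := hL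
  obtain ⟨hchar, ω, hω, hb⟩ := CfsgLib.Schur.L34Data.exists_omega hF
  let τ0 : L →* ProjectiveSpecialLinearGroup (Fin 3) F :=
    e0.toMonoidHom.comp (QuotientGroup.mk' (Subgroup.center L))
  have hker0 : τ0.ker = Subgroup.center L := by
    ext y
    simp [τ0]
  obtain ⟨⟨z0, hz0m⟩, hz0⟩ := hcyc.exists_generator
  have hzk : τ0.ker = Subgroup.zpowers z0 := by
    rw [hker0]
    refine le_antisymm (fun y hy => ?_) (Subgroup.zpowers_le.2 hz0m)
    obtain ⟨j, hj⟩ := Subgroup.mem_zpowers_iff.1 (hz0 ⟨y, hy⟩)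
    exact Subgroup.mem_zpowers_iff.2 ⟨j, by simpa using congrArg Subtype.val hj⟩
  have hord0 : orderOf z0 = 4 := by rw [← Nat.card_zpowers, ← hzk, hker0, hcard]
  obtain ⟨τ, z, a, b, h, hf⟩ := exists_frame hF hω hb τ0 (e0.surjective.comp (QuotientGroup.mk'_surjective _))
    z0 hzk hord0 (hker0 ▸ le_rfl) hperf
  have hcen : τ.ker = Subgroup.center L :=
    Subgroup.eq_of_le_of_card_ge hf.central (by rw [hcard, hf.ker, Nat.card_zpowers, hf.ord])
  exact (exists_rep hF hω hb hf hcen).facts

end CfsgLib.StdON
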