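import Cfsg.Agent.Lib.StdON.Cases
import Cfsg.Agent.Lib.CoNoughtStd.Fusion
import Cfsg.Agent.Lib.FGS.PrimePowerOrbits

/-!
# One outer coset

With three outer cosets a rootless coset has an involution not fused to `z`, against Thompson's transfer lemma; so
`comp` is `L` or has one outer coset, and it has one by fusion.
-/

set_option autoImplicit false

universe u

namespace CfsgLib.StdON.Setting

open Subgroup

variable {G : Type u} [Group G] [Finite G] [IsSimpleGroup G] {L : Subgroup G} {ζ : L}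

/-- Products of squares of elements commuting with a conjugate of `z` act innerly when moved back. -/
theorem back_squares (S : Setting L ζ) (g : G) {y : G}
    (hy : y ∈ closure ((fun c : G => c * c) '' {c | Commute c (g * zc ζ * g⁻¹)})) : g⁻¹ * y * g ∈ LK L := by
  induction hy using Subgroup.closure_induction with
  | mem y hy =>
    obtain ⟨c, hc, rfl⟩ := hy
    have h := S.sq_mem (commute_back g hc)
    rwa [show g⁻¹ * c * g * (g⁻¹ * c * g) = g⁻¹ * (c * c) * g by group] at h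
  | one => simp
  | mul a b _ _ ha hb =>
    rw [show g⁻¹ * (a * b) * g = g⁻¹ * a * g * (g⁻¹ * b * g) by group]
    exact mul_mem ha hb
  | inv a _ ha =>
    rw [show g⁻¹ * a⁻¹ * g = (g⁻¹ * a * g)⁻¹ by group]
    exact inv_mem ha

/-- A root of an inner involution that is a moved generator of the centre centralises the centre. -/
theorem root_commute (S : Setting L ζ) {m : L} (hm : Inner m) {p : G} (hp : p * zc ζ * p⁻¹ = m)
    (hz : Commute (p * (ζ : G) * p⁻¹) (zc ζ)) : Commute (p * (ζ : G) * p⁻¹) (ζ : G) := by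
  set r := p * (ζ : G) * p⁻¹ with hr
  have hrr : r * r = m := by
    rw [hr, ← hp]; show _ = p * ((ζ : G) * ζ) * p⁻¹; group
  have hzp : Commute (p⁻¹ * (ζ : G) * p) (zc ζ) := commute_back p (hp ▸ (commute_L S.zeta_cent m).symm)
  have h1 : (ζ : G) * r * (ζ : G)⁻¹ = r ∨ (ζ : G) * r * (ζ : G)⁻¹ = r⁻¹ := by
    rcases S.conj_zeta hzp with e | e <;> [left; right] <;>
      · have := congrArg (fun y => p * y * p⁻¹) e
        simpa [hr, mul_assoc] using this
  rcases h1 with e | e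
  · exact (commute_of_conj_eq e).symm
  rcases S.conj_zeta hz with e' | e'
  · exact commute_of_conj_eq e'
  exfalso
  refine hm.2 ?_
  have e1 : (zc ζ) = (m : G)⁻¹ := by
    rw [← hrr, _root_.mul_inv_rev]
    calc zc ζ = (ζ : G) * (r * (ζ : G)⁻¹ * r⁻¹)  := by
          rw [show r * (ζ : G)⁻¹ * r⁻¹ = (r * ζ * r⁻¹)⁻¹ by group, e', inv_inv]; rfl
      _ = (ζ : G) * r * (ζ : G)⁻¹ * r⁻¹ := by group
      _ = _ := by rw [e]
  have e2 : ζ * ζ = m⁻¹ := Subtype.ext (by rw [Subgroup.coe_inv]; exact e1)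
  rw [← inv_inv m, ← e2]
  exact inv_mem S.zL_center

/-- A root centralising the centre of an inner involution acts innerly when the outer cosets have none. -/
theorem root_inner (S : Setting L ζ) {r : G} {m : L} (hz : Commute r (zc ζ)) (hζ : Commute r (ζ : G))
    (hrr : r * r = m)
    (hroot : ∀ t ∈ S.comp, t ∉ L → Commute t (ζ : G) → Commute t (m : G) → t * t ≠ m) : r ∈ LK L := by
  have hrm : Commute r (m : G) := hrr ▸ (Commute.refl r).mul_right (Commute.refl r)
  obtain ⟨t, ht, d, hd, rfl⟩ := S.comp_decomp hz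
  have hdK := S.oddPart_le hd
  by_cases htL : t ∈ L
  · exact mul_mem (le_LK ⟨t, htL⟩) (cent_le_LK hdK)
  exfalso
  refine hroot t ht htL ?_ ?_ ?_
  · have := hζ.mul_left (commute_L hdK ζ).symm.inv_left
    rwa [mul_inv_cancel_right] at this
  · have := hrm.mul_left (commute_L hdK m).symm.inv_left
    rwa [mul_inv_cancel_right] at this
  · obtain ⟨d', hd', e⟩ := S.sq_modD ht hd
    rw [e] at hrr
    have hd'c : d' ∈ S.comp := by
      rw [eq_inv_mul_of_mul_eq hrr]
      exact mul_mem (inv_mem (mul_mem ht ht)) (S.le_comp m)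
    rwa [S.comp_oddPart hd'c hd', mul_one] at hrr

/-- An inner involution has a normal root in its centraliser. -/
theorem typeB (S : Setting L ζ)
    (hroot : ∀ m : L, Inner m → ∀ t ∈ S.comp, t ∉ L → Commute t (ζ : G) → Commute t (m : G) → t * t ≠ m) :
    TypeB L := by
  obtain ⟨s, hs⟩ := S.exists_inner
  obtain ⟨h, h1, h3⟩ := S.exists_swap hs
  have hz : Commute (h * (ζ : G) * h⁻¹) (zc ζ) :=
    h3 ▸ conj_commute h (commute_L S.zeta_cent s).symm
  have hsq : h * (ζ : G) * h⁻¹ * (h * ζ * h⁻¹) = s := by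
    rw [← h1]; show _ = h * ((ζ : G) * ζ) * h⁻¹; group
  have hi := S.root_inner hz (S.root_commute hs h1 hz) hsq (hroot s hs)
  refine ⟨s, hs, ⟨_, S.zeta_L hs h1 hi⟩, mem_cent_iff.2 (h1 ▸ conj_commute h (S.z_commute_L ζ)),
    Subtype.ext hsq, fun c hc => ?_⟩
  have hdz : Commute (h⁻¹ * (c : G) * h) (zc ζ) := commute_back h (h1 ▸ mem_cent_iff.1 hc)
  rcases S.conj_zeta hdz with e | e <;> [left; right] <;>
    · refine Subtype.ext ?_
      have := congrArg (fun y => h * y * h⁻¹) e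
      simpa [mul_assoc] using this

/-- The involutions of a rootless coset are not fused to `z`. -/
theorem not_fused (S : Setting L ζ)
    (hroot : ∀ m : L, Inner m → ∀ t ∈ S.comp, t ∉ L → Commute t (ζ : G) → Commute t (m : G) → t * t ≠ m)
    {x : G} (hx : x ∈ S.comp) (hxL : x ∉ L) (hR : RootlessCoset L x) {a : G} (ha : a * x⁻¹ ∈ L) (ha2 : a * a = 1)
    {g : G} (hg : g * zc ζ * g⁻¹ = a) : False := by
  obtain ⟨m, hm, hmc, hml⟩ := hR a ha ha2
  have hma : Commute (m : G) a := by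
    have hle : closure ((fun c : G => c * c) '' {c | Commute c a}) ≤ centralizer ({a} : Set G) :=
      (closure_le _).2 fun y ⟨c, hc, e⟩ => e ▸ mem_centralizer_singleton_iff.2 (hc.mul_left hc).eq
    exact mem_centralizer_singleton_iff.1 (hle hmc)
  rw [← hg] at hma hmc
  have hm' : g⁻¹ * (m : G) * g ∈ LK L := S.back_squares g hmc
  have hm'2 : g⁻¹ * (m : G) * g * (g⁻¹ * m * g) = 1 := by
    rw [show g⁻¹ * (m : G) * g * (g⁻¹ * m * g) = g⁻¹ * ((m : G) * m) * g by group, inner_coe hm]; group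
  have hm'L : g⁻¹ * (m : G) * g ∈ L := S.root_mem hm' (hm'2 ▸ L.one_mem)
  set m' : L := ⟨_, hm'L⟩ with hm'def
  have hgm : g * (m' : G) * g⁻¹ = m := by rw [hm'def]; group
  have hm'i : Inner m' := by
    refine ⟨Subtype.ext hm'2, fun hc => ?_⟩
    rcases S.center_invol hc (Subtype.ext hm'2) with e | e
    · exact inner_ne_one hm (by rw [← hgm, e, Subgroup.coe_one, mul_one, mul_inv_cancel])
    · refine S.coset_notMem hxL ha ?_
      rw [← hg, show g * zc ζ * g⁻¹ = (m : G) by rw [← hgm, e]; rfl]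
      exact m.2
  obtain ⟨k', hk1, hk3⟩ := S.exists_swap hm'i
  set p := g * k' with hp
  have hpz : p * zc ζ * p⁻¹ = m := by rw [← hgm, ← hk1, hp]; group
  have hpm : p * (m' : G) * p⁻¹ = a := by rw [← hg, ← hk3, hp]; group
  obtain ⟨k2, k21, k23⟩ := S.exists_swap hm
  have hq2 : Commute (k2⁻¹ * p) (zc ζ) := commute_of_conj_eq (by
    rw [show k2⁻¹ * p * zc ζ * (k2⁻¹ * p)⁻¹ = k2⁻¹ * (p * zc ζ * p⁻¹) * k2 by group, hpz, ← k21]; group)
  have hpzz : p⁻¹ * zc ζ * p = ((S.conjL _ hq2.inv_left m : L) : G) := by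
    rw [conjL_coe, ← k23]; group
  have hra : Commute (p * (ζ : G) * p⁻¹) a := hpm ▸ conj_commute p (commute_L S.zeta_cent m').symm
  have hrz : Commute (p * (ζ : G) * p⁻¹) (zc ζ) := by
    have h := conj_commute p (commute_L S.zeta_cent (S.conjL _ hq2.inv_left m)).symm
    rw [← hpzz] at h
    simpa [mul_assoc] using h
  have hrr : p * (ζ : G) * p⁻¹ * (p * ζ * p⁻¹) = m := by
    rw [← hpz]; show _ = p * ((ζ : G) * ζ) * p⁻¹; group
  have hrL : p * (ζ : G) * p⁻¹ ∈ L :=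
    S.root_mem (S.root_inner hrz (S.root_commute hm hpz hrz) hrr (hroot m hm)) (hrr ▸ m.2)
  exact hml ⟨_, hrL⟩ hra (Subtype.ext hrr)

omit [IsSimpleGroup G] in
theorem zeta_mem_sylG (S : Setting L ζ) : (ζ : G) ∈ S.sylG := by
  haveI : Fact (Nat.Prime 2) := ⟨Nat.prime_two⟩
  let C := centralizer ({zc ζ} : Set G)
  let ζC : C := ⟨ζ, mem_centralizer_singleton_iff.2 (S.z_commute_L ζ).eq⟩
  haveI : (Subgroup.zpowers ζC).Normal := ⟨fun x hx c => by
    obtain ⟨i, rfl⟩ := Subgroup.mem_zpowers_iff.1 hx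
    rw [← conj_zpow]
    refine zpow_mem ?_ i
    rcases S.conj_zeta (mem_centralizer_singleton_iff.1 c.2) with e | e
    · exact Subgroup.mem_zpowers_iff.2 ⟨1, (zpow_one _).trans (Subtype.ext e.symm)⟩
    · exact Subgroup.mem_zpowers_iff.2 ⟨-1, (zpow_neg_one _).trans (Subtype.ext e.symm)⟩⟩
  have hp : IsPGroup 2 (Subgroup.zpowers ζC) := IsPGroup.of_card (n := 2) (by
    rw [Nat.card_zpowers, ← Subgroup.orderOf_coe, show ((ζC : C) : G) = ((ζ : L) : G) from rfl,
      Subgroup.orderOf_coe, S.ord]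
    rfl)
  have h1 : (S.syl : Subgroup C) ⊔ Subgroup.zpowers ζC = S.syl :=
    S.syl.3 (S.syl.isPGroup'.to_sup_of_normal_right hp) le_sup_left
  exact ⟨ζC, h1 ▸ Subgroup.mem_sup_right (Subgroup.mem_zpowers ζC), rfl⟩

/-- The Sylow two-subgroup of the centraliser of `z` is one of `G`. -/
theorem sylow_G (S : Setting L ζ) : ∃ Q : Sylow 2 G, (Q : Subgroup G) = S.sylG := by
  haveI : Fact (Nat.Prime 2) := ⟨Nat.prime_two⟩
  let C := centralizer ({zc ζ} : Set G)
  obtain ⟨Q, hQ⟩ := (S.syl.isPGroup'.map C.subtype).exists_le_sylow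
  refine ⟨Q, (eq_of_le_of_not_lt hQ fun hlt => ?_).symm⟩
  have hlt' : S.sylG.subgroupOf (Q : Subgroup G) < ⊤ := lt_top_iff_ne_top.2 fun e =>
    (not_le_of_gt hlt) fun x hx => by
      have h1 : (⟨x, hx⟩ : (Q : Subgroup G)) ∈ S.sylG.subgroupOf (Q : Subgroup G) := e ▸ Subgroup.mem_top _
      exact h1
  haveI : Group.IsNilpotent (Q : Subgroup G) := Q.isPGroup'.isNilpotent
  obtain ⟨g, hgn, hgP⟩ := SetLike.exists_of_lt (Group.normalizerCondition_of_isNilpotent _ hlt')
  have hmax : (Q : Subgroup G).comap C.subtype = S.syl :=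
    S.syl.3 (Q.isPGroup'.comap_of_injective C.subtype C.subtype_injective) (Subgroup.map_le_iff_le_comap.1 hQ)
  have hgC : ¬ Commute (g : G) (zc ζ) := fun e => hgP (by
    have h1 : (⟨g, mem_centralizer_singleton_iff.2 e.eq⟩ : C) ∈ (Q : Subgroup G).comap C.subtype := g.2
    rw [hmax] at h1
    exact ⟨_, h1, rfl⟩)
  have hnorm : ∀ x ∈ S.sylG, (g : G) * x * (g : G)⁻¹ ∈ S.sylG ∧ (g : G)⁻¹ * x * g ∈ S.sylG := by
    intro x hx
    have hxQ : x ∈ (Q : Subgroup G) := hQ hx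
    refine ⟨(Subgroup.mem_normalizer_iff.1 hgn ⟨x, hxQ⟩).1 hx, ?_⟩
    exact (Subgroup.mem_normalizer_iff.1 hgn (g⁻¹ * ⟨x, hxQ⟩ * g)).2 (by
      rw [show g * (g⁻¹ * (⟨x, hxQ⟩ : (Q : Subgroup G)) * g) * g⁻¹ = ⟨x, hxQ⟩ by group]; exact hx)
  have hzP : zc ζ ∈ S.sylG := mul_mem S.zeta_mem_sylG S.zeta_mem_sylG
  have hpair : Pair ζ (g : G) := ⟨S.sylG_commute (hnorm _ hzP).1, hgC⟩
  have hcent : ∀ x ∈ S.sylG, Commute x ((g : G) * zc ζ * (g : G)⁻¹) := fun x hx => by
    have e := conj_commute (g : G) (S.sylG_commute (hnorm x hx).2)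
    simpa [mul_assoc] using e
  by_cases hin : (g : G) * zc ζ * (g : G)⁻¹ ∈ LK L
  · obtain ⟨s, hs, hse⟩ := S.inner_pair hpair hin
    let sC : C := ⟨s, mem_centralizer_singleton_iff.2 (S.z_commute_L s).eq⟩
    have hle : (S.syl : Subgroup C) ≤ centralizer ({sC} : Set C) := fun x hx =>
      mem_centralizer_singleton_iff.2 (Subtype.ext (by
        show (x : G) * s = s * x
        rw [hse]; exact (hcent _ ⟨x, hx, rfl⟩).eq))
    refine S.syl.not_dvd_index (dvd_trans ?_ (Subgroup.index_dvd_of_le hle))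
    let zC : C := ⟨zc ζ, mem_centralizer_singleton_iff.2 rfl⟩
    refine CoNoughtStd.even_index (y := sC) (z := zC)
      (fun c => Subtype.ext (mem_centralizer_singleton_iff.1 c.2)) (Subtype.ext S.zsq) ?_ ?_
    · intro e
      exact S.zne (mul_eq_left.1 (congrArg Subtype.val e :))
    · have hsz : Inner (s * (ζ * ζ)) := by
        refine ⟨?_, fun h => hs.2 ?_⟩
        · have hc : Commute (ζ * ζ) s := (Subgroup.mem_center_iff.1 S.zL_center s).symm
          rw [hc.mul_mul_mul_comm, hs.1, S.zL_sq, one_mul]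
        · have := mul_mem h S.zL_center
          rwa [mul_assoc, S.zL_sq, mul_one] at this
      obtain ⟨k, hk⟩ := S.lfacts.one_class s _ hs hsz
      refine isConj_iff.2 ⟨⟨k, mem_centralizer_singleton_iff.2 (S.z_commute_L k).eq⟩, Subtype.ext ?_⟩
      show (k : G) * s * (k : G)⁻¹ = (s : G) * zc ζ
      exact congrArg Subtype.val hk
  · have h1 := S.outer_inverts hpair.1 hin
    rw [← (hcent _ S.zeta_mem_sylG).eq, mul_inv_cancel_right] at h1
    exact S.zne (mul_eq_one_iff_eq_inv.2 h1)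

/-- An involution is conjugate into the Sylow two-subgroup within its coset. -/
theorem into_sylG (S : Setting L ζ) {a : G} (ha : a ∈ S.comp) (ha2 : a * a = 1) :
    ∃ c : G, c * a * c⁻¹ ∈ S.sylG ∧ c * a * c⁻¹ * a⁻¹ ∈ L := by
  haveI : Fact (Nat.Prime 2) := ⟨Nat.prime_two⟩
  let C := centralizer ({zc ζ} : Set G)
  let aC : C := ⟨a, mem_centralizer_singleton_iff.2 (S.comp_commute ha).eq⟩
  obtain ⟨P, hP⟩ : ∃ P : Sylow 2 C, aC ∈ P := by
    obtain ⟨k, -, hk⟩ := (Nat.dvd_prime_pow Nat.prime_two).1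
      (orderOf_dvd_of_pow_eq_one (n := 2 ^ 1) (Subtype.ext (by show a ^ (2 ^ 1) = 1; rw [pow_one, pow_two]; exact ha2)) :
        orderOf aC ∣ 2 ^ 1)
    obtain ⟨P, hP⟩ := (IsPGroup.of_card (n := k) (by rw [Nat.card_zpowers, hk]) :
      IsPGroup 2 (Subgroup.zpowers aC)).exists_le_sylow
    exact ⟨P, hP (mem_zpowers _)⟩
  obtain ⟨γ, hγ⟩ := MulAction.exists_smul_eq C P S.syl
  have hmem : γ * aC * γ⁻¹ ∈ (S.syl : Subgroup C) := by
    rw [← hγ, Sylow.coe_subgroup_smul]
    exact ⟨_, hP, rfl⟩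
  have hs : (γ : G) * a * (γ : G)⁻¹ ∈ S.sylG := ⟨_, hmem, rfl⟩
  refine ⟨γ, hs, S.comp_LK (mul_mem (S.sylG_le_comp hs) (inv_mem ha)) ?_⟩
  have hγz : Commute (γ : G) (zc ζ) := mem_centralizer_singleton_iff.1 γ.2
  have haz := S.comp_commute ha
  rw [show (γ : G) * a * (γ : G)⁻¹ * a⁻¹ =
    (γ : G) * a * (γ * a) * (a⁻¹ * ((γ : G) * γ)⁻¹ * a⁻¹⁻¹) * (a * a)⁻¹ by group]
  exact mul_mem (mul_mem (S.sq_mem (hγz.mul_left haz))
    (S.conj_LK haz.inv_left (inv_mem (S.sq_mem hγz)))) (inv_mem (S.sq_mem haz))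

/-- `comp` is `L` and one further coset. -/
theorem index_two (S : Setting L ζ) :
    ∃ e ∈ S.comp, e ∉ L ∧ ∀ t ∈ S.comp, t ∈ L ∨ t * e⁻¹ ∈ L := by
  obtain ⟨g, -, he, heL, hei⟩ := S.exists_fused
  set e := g * zc ζ * g⁻¹ with hge
  have he2 : e * e = 1 := S.conj_sq g
  have hinv : ¬ Commute e (ζ : G) := fun h => by
    rw [h.eq, mul_inv_cancel_right] at hei
    exact S.zne (mul_eq_one_iff_eq_inv.2 hei)
  refine ⟨e, he, heL, fun y hy => ?_⟩
  by_contra hy'
  push Not at hy'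
  obtain ⟨hyL, hye⟩ := hy'
  obtain ⟨f, hf, hfL, hfe, hfc⟩ := S.case_four hy he hyL heL hye hinv
  have hfeL := S.prod_notMem he hfe
  have hroot : ∀ m : L, Inner m → ∀ t ∈ S.comp, t ∉ L → Commute t (ζ : G) → Commute t (m : G) → t * t ≠ m := by
    intro m hm t ht htL htζ htm htt
    have hcz : ∀ x ∈ S.comp, ¬ Commute x (ζ : G) → t * x⁻¹ ∉ L := fun x hx hxn h => hxn (by
      refine commute_of_conj_eq ?_
      rw [← S.coset_zeta (S.comp_commute hx) h, htζ.eq, mul_inv_cancel_right])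
    rcases S.four_cosets hf he hfL heL hfe t ht with h | h | h | h
    · exact htL h
    · exact hcz e he hinv h
    · have h0 := (S.four_types hf he hfL heL hfe hinv hfc hm).1
      exact Set.eq_empty_iff_forall_notMem.1 ((Set.ncard_eq_zero).1 h0) t ⟨h, htm, htt⟩
    · exact hcz _ (mul_mem hf he) (fun h' => hinv (by
        have := hfc.inv_left.mul_left h'
        rwa [inv_mul_cancel_left] at this)) h
  obtain ⟨s, hs⟩ := S.exists_inner
  rcases (S.four_types hf he hfL heL hfe hinv hfc hs).2 with ⟨hone, hR, a, ha, ha2⟩ | hR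
  swap
  · exact S.not_fused hroot he heL hR (by rw [mul_inv_cancel]; exact L.one_mem) he2 hge.symm
  have hone' := hone (S.typeB hroot)
  have hnf : ∀ b : G, b * (f * e)⁻¹ ∈ L → b * b = 1 → ∀ k : G, k * zc ζ * k⁻¹ ≠ b := fun b hb hb2 k hk =>
    S.not_fused hroot (mul_mem hf he) hfeL hR hb hb2 hk
  obtain ⟨c, hcS, hca⟩ := S.into_sylG (S.coset_mem (mul_mem hf he) ha) ha2
  set a' := c * a * c⁻¹ with ha'def
  have ha'2 : a' * a' = 1 := by
    rw [ha'def, show c * a * c⁻¹ * (c * a * c⁻¹) = c * (a * a) * c⁻¹ by group, ha2]; group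
  have ha' : a' * (f * e)⁻¹ ∈ L := by
    have := L.mul_mem hca ha
    rwa [← mul_assoc, inv_mul_cancel_right] at this
  let E := S.ext e (S.comp_commute he) (S.comp_sq he)
  have ha'E : a' ∉ E := by
    rintro (h | h)
    · exact S.coset_notMem hfeL ha' h
    · refine S.cosets_apart (x := f * e) ?_ ha' h
      rwa [mul_inv_cancel_right]
  have hout : ∀ b ∈ S.comp, b ∉ E → b * a' ∈ E := by
    intro b hb hbE
    have hbL : b ∉ L := fun h => hbE (.inl h)
    have hbe : b * e⁻¹ ∉ L := fun h => hbE (.inr h)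
    have ha'c := S.sylG_le_comp hcS
    have hconj : ∀ {y : G}, y ∈ L → b * y * b⁻¹ ∈ L := fun {y} hy =>
      (Subgroup.mem_normalizer_iff.1 (S.cnorm b (S.comp_commute hb)) y).1 hy
    rcases S.four_cosets hb he hbL heL hbe a' ha'c with h | h | h | h
    · exact absurd (Or.inl h) ha'E
    · exact absurd (Or.inr h) ha'E
    · refine .inl ?_
      rw [show b * a' = b * (a' * b⁻¹) * b⁻¹ * (b * b) by group]
      exact L.mul_mem (hconj h) (S.comp_sq hb)
    · refine .inr ?_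
      rw [show b * a' * e⁻¹ = b * (a' * (b * e)⁻¹) * b⁻¹ * (b * b) by group]
      exact L.mul_mem (hconj h) (S.comp_sq hb)
  obtain ⟨Q, hQ⟩ := S.sylow_G
  set M := S.sylG ⊓ E with hM
  have hidx : M.relIndex (Q : Subgroup G) = 2 := by
    rw [Subgroup.relIndex, Subgroup.index_eq_two_iff]
    refine ⟨⟨a', hQ ▸ hcS⟩, fun b => ?_⟩
    show Xor ((b : G) * a' ∈ M) ((b : G) ∈ M)
    have hbS : (b : G) ∈ S.sylG := hQ ▸ b.2
    by_cases hbE : (b : G) ∈ E
    · refine .inr ⟨⟨hbS, hbE⟩, fun h => ha'E ?_⟩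
      have := E.mul_mem (E.inv_mem hbE) h.2
      rwa [inv_mul_cancel_left] at this
    · exact .inl ⟨⟨mul_mem hbS hcS, hout _ (S.sylG_le_comp hbS) hbE⟩, fun h => hbE h.2⟩
  have ha'o : orderOf a' = 2 := orderOf_eq_prime (hp := ⟨Nat.prime_two⟩) (by rw [pow_two]; exact ha'2) fun e1 =>
    S.coset_notMem hfeL ha' (e1 ▸ L.one_mem)
  have hperf : commutator G = ⊤ := by
    refine ((inferInstance : (commutator G).Normal).eq_bot_or_eq_top).resolve_left fun e1 => S.ncomm ⟨⟨fun p q => ?_⟩⟩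
    exact commutatorElement_eq_one_iff_mul_comm.1 (Subgroup.mem_bot.1
      (e1 ▸ Subgroup.commutator_mem_commutator (Subgroup.mem_top p) (Subgroup.mem_top q)))
  obtain ⟨k, hk⟩ := Cfsg.Agent.PrimePowerOrbits.exists_conj_of_relIndex_two hperf Q M
    (hQ ▸ inf_le_left) hidx ha'o
  set u := k⁻¹ * a' * k with hu
  have hu2 : u * u = 1 := by
    rw [hu, show k⁻¹ * a' * k * (k⁻¹ * a' * k) = k⁻¹ * (a' * a') * k by group, ha'2]; group
  have hu1 : u ≠ 1 := fun e1 => by
    have h' : a' = 1 := by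
      rw [show a' = k * u * k⁻¹ by rw [hu]; group, e1]; group
    rw [h', orderOf_one] at ha'o
    omega
  obtain ⟨j, hj⟩ : ∃ j : G, j * zc ζ * j⁻¹ = u := by
    rcases hk.2 with huL | hue
    · by_cases hc : (⟨u, huL⟩ : L) ∈ Subgroup.center L
      · rcases S.center_invol hc (Subtype.ext hu2) with e1 | e1
        · exact absurd (congrArg Subtype.val e1) hu1
        · exact ⟨1, by rw [one_mul, inv_one, mul_one]; exact (congrArg Subtype.val e1).symm⟩
      · obtain ⟨j, hj, -⟩ := S.exists_swap (s := ⟨u, huL⟩) ⟨Subtype.ext hu2, hc⟩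
        exact ⟨j, hj⟩
    · obtain ⟨n, hn⟩ := hone' e u (by rw [mul_inv_cancel]; exact L.one_mem) hue he2 hu2
      exact ⟨n * g, by rw [← hn, hge]; group⟩
  refine hnf a' ha' ha'2 (k * j) ?_
  rw [show k * j * zc ζ * (k * j)⁻¹ = k * (j * zc ζ * j⁻¹) * k⁻¹ by group, hj, hu]
  group

end CfsgLib.StdON.Setting
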