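import Cfsg.Agent.Lib.StdON.LModel

/-!
# The centraliser of an involution in the two covers 4.L3(4) (generated by tools/stdon_l/gen.py)

Letters are those of the candidates; the elements of the centraliser are words in three generators, ordered by the
images of three points.
-/

set_option autoImplicit false
set_option maxRecDepth 100000

namespace CfsgLib.StdON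

/-- The data of the cover A. -/
def dat0 : LDat :=
  { k := 0
    base := [0, 1, 4]
    gens := [
      [2, 0, 3, 0, 2, 0, 3, 0, 2], [2, 2, 0, 2, 2, 0, 2, 0, 2, 2, 0, 2, 2],
      [2, 0, 2, 0, 3, 0, 3, 0, 2, 0, 2, 0, 3, 0, 3]]
    gw := [
      [], [2, 0, 2], [2, 0, 0, 2], [2, 0, 0, 0, 2], [1, 1], [0, 1, 0, 1], [1, 1, 2, 0, 2], [0, 0, 1, 2, 0, 2, 1],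
      [0, 1, 1, 2, 0, 2], [0, 0, 1, 0, 1], [0, 0, 0, 1, 2, 0, 2, 1], [0, 1, 1], [0, 1, 2, 0, 2, 1], [0, 0, 0, 1, 1],
      [0, 0, 0, 1, 1, 2, 0, 2], [1, 0, 1], [0, 1, 2, 1, 0, 2], [0, 0, 0, 2, 0, 2], [0, 0, 0], [0, 1, 2, 1, 2],
      [0, 2, 0, 2], [0, 2, 0, 0, 2], [0, 2, 0, 0, 0, 2], [0], [0, 1, 2, 0], [1, 0, 2], [0, 0, 0, 1, 2],
      [0, 0, 1, 0, 2, 0], [1, 2, 1, 0, 2], [1, 2, 1, 2], [0, 0, 2, 0, 2], [0, 0], [1, 2, 0, 2, 1],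
      [0, 0, 0, 1, 0, 1], [0, 0, 1, 1], [0, 0, 1, 1, 2, 0, 2], [1, 1, 1, 2], [0, 0, 2, 0, 1], [0, 0, 2, 1],
      [2, 1, 0], [2, 1], [0, 0, 2, 1, 0], [2, 0, 0, 1], [2, 0, 1], [0, 2, 1], [0, 2, 0, 1], [0, 0, 0, 2, 1, 0],
      [0, 2, 0, 0, 1], [2, 0, 0], [2, 0], [2, 0, 0, 0], [2], [1, 0, 2, 0], [0, 1, 2], [0, 0, 1, 0, 2],
      [0, 0, 0, 1, 2, 0], [1, 2], [0, 0, 1, 2, 0], [0, 1, 0, 2], [1, 1, 2, 1, 0], [0, 1, 0, 2, 0], [1, 1, 2, 1],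
      [0, 0, 1, 2], [1, 2, 0], [1, 1, 2, 0], [0, 0, 2, 1, 0, 1], [0, 1, 0, 1, 2], [1, 1, 2], [1, 0, 1, 2],
      [0, 0, 0, 1, 1, 2, 0], [0, 0, 0, 1, 1, 2], [0, 2, 1, 0, 1], [0, 1, 1, 2], [0, 0, 0, 2, 1, 0, 1],
      [0, 0, 1, 0, 1, 2], [0, 1, 1, 2, 0], [0, 2, 1, 0], [0, 1, 1, 1, 2], [0, 0, 0, 2, 0, 1], [0, 0, 0, 2, 1],
      [0, 1, 2, 1], [0, 0, 0, 2], [0, 0, 0, 2, 0], [0, 1, 2, 1, 0], [0, 2], [0, 2, 0, 0], [0, 2, 0, 0, 0],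
      [0, 2, 0], [0, 0, 2, 0], [1, 2, 1, 0], [0, 0, 2], [1, 2, 1], [0, 0, 1, 1, 2, 0], [2, 1, 0, 1],
      [0, 0, 1, 1, 2], [1, 1, 1, 2, 1], [2, 0, 2, 1], [0, 0, 1, 2, 0, 2], [0, 1, 0], [1], [0, 0, 0, 2, 1, 2],
      [0, 1, 1, 1], [0, 0, 0, 2, 0, 1, 2], [0, 2, 1, 0, 2], [0, 0, 0, 1, 1, 1], [0, 0, 0, 2, 1, 0, 2], [0, 2, 1, 2],
      [0, 2, 0, 1, 2], [0, 0, 1, 0], [0, 1], [0, 0, 0, 1, 2, 0, 2], [0, 2, 0, 2, 1], [0, 0, 0, 1],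
      [0, 0, 0, 2, 0, 2, 1], [1, 0], [0, 1, 2, 0, 2], [2, 1, 0, 2], [0, 0, 2, 0, 1, 2], [0, 0, 2, 1, 2], [1, 1, 1],
      [0, 0, 2, 0, 2, 1], [1, 2, 0, 2], [0, 0, 1], [0, 0, 0, 1, 0], [0, 0, 2, 1, 0, 2], [2, 0, 1, 2],
      [0, 0, 1, 1, 1], [2, 1, 2]]
    right := [
      [
        23, 20, 21, 22, 11, 9, 8, 10, 35, 33, 32, 34, 7, 4, 6, 5, 3, 1, 0, 2, 30, 29, 28, 31, 54, 52, 55, 53, 16,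
        19, 17, 18, 12, 15, 13, 14, 43, 40, 41, 42, 39, 36, 37, 38, 76, 79, 77, 78, 50, 48, 51, 49, 26, 24, 27, 25,
        63, 61, 60, 62, 56, 59, 57, 58, 66, 67, 65, 64, 71, 68, 69, 70, 75, 72, 73, 74, 47, 45, 44, 46, 83, 82, 80,
        81, 87, 86, 84, 85, 91, 90, 88, 89, 95, 94, 92, 93, 115, 113, 112, 114, 119, 118, 116, 117, 127, 125, 126,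
        124, 99, 98, 96, 97, 123, 121, 122, 120, 107, 105, 104, 106, 110, 111, 108, 109, 102, 103, 100, 101],
      [
        99, 96, 98, 97, 119, 118, 116, 117, 103, 100, 102, 101, 107, 104, 105, 106, 115, 113, 112, 114, 111, 108,
        110, 109, 87, 84, 85, 86, 121, 123, 120, 122, 125, 127, 126, 124, 95, 92, 94, 93, 67, 65, 66, 64, 72, 75,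
        73, 74, 42, 43, 41, 40, 83, 80, 81, 82, 91, 88, 90, 89, 50, 51, 48, 49, 63, 60, 62, 61, 53, 55, 54, 52, 25,
        27, 26, 24, 71, 68, 69, 70, 77, 79, 78, 76, 44, 47, 46, 45, 37, 39, 38, 36, 57, 59, 58, 56, 6, 7, 5, 4, 21,
        23, 22, 20, 18, 17, 19, 16, 9, 11, 10, 8, 13, 14, 15, 12, 1, 3, 2, 0, 35, 32, 34, 33, 30, 28, 31, 29],
      [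
        51, 49, 48, 50, 67, 66, 64, 65, 75, 74, 73, 72, 71, 70, 69, 68, 83, 82, 81, 80, 87, 85, 86, 84, 115, 114,
        112, 113, 89, 91, 88, 90, 93, 95, 94, 92, 119, 117, 118, 116, 127, 124, 126, 125, 106, 107, 105, 104, 2, 1,
        3, 0, 111, 109, 108, 110, 99, 97, 98, 96, 120, 123, 122, 121, 6, 7, 5, 4, 15, 14, 13, 12, 11, 10, 9, 8, 103,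
        101, 102, 100, 19, 18, 17, 16, 23, 21, 22, 20, 30, 28, 31, 29, 35, 32, 34, 33, 59, 57, 58, 56, 79, 77, 78,
        76, 47, 46, 44, 45, 54, 53, 55, 52, 26, 27, 25, 24, 39, 37, 38, 36, 60, 63, 62, 61, 41, 43, 42, 40]]
    i0 := 0
    ia := 4
    iz := 12
    sqRoot := 98
    omega := [
      (0, 0, 0, 0), (2, 2, 0, 0), (4, 4, 0, 0), (5, 5, 0, 0), (8, 2, 24, 42), (10, 24, 42, 0), (12, 2, 24, 38),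
      (14, 24, 38, 0), (16, 2, 24, 58), (17, 24, 58, 0), (20, 2, 24, 62), (22, 24, 62, 0), (24, 24, 0, 0),
      (27, 2, 24, 0), (29, 29, 0, 0), (31, 31, 0, 0), (33, 33, 0, 0), (34, 34, 0, 0), (36, 2, 38, 0),
      (38, 38, 0, 0), (40, 2, 42, 0), (42, 42, 0, 0), (45, 45, 0, 0), (46, 2, 45, 0), (48, 2, 51, 0),
      (51, 51, 0, 0), (52, 52, 0, 0), (55, 2, 52, 0), (56, 2, 58, 0), (58, 58, 0, 0), (61, 2, 62, 0),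
      (62, 62, 0, 0), (66, 2, 67, 0), (67, 67, 0, 0), (69, 69, 0, 0), (71, 2, 69, 0), (73, 73, 0, 0),
      (75, 2, 73, 0), (76, 76, 0, 0), (78, 2, 76, 0), (82, 82, 0, 0), (83, 2, 82, 0), (86, 86, 0, 0),
      (87, 2, 86, 0), (90, 2, 91, 0), (91, 91, 0, 0), (94, 2, 95, 0), (95, 95, 0, 0), (98, 24, 82, 0),
      (99, 2, 24, 82), (102, 2, 24, 95), (103, 24, 95, 0), (105, 2, 24, 67), (107, 24, 67, 0), (110, 2, 24, 91),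
      (111, 24, 91, 0), (113, 2, 24, 51), (115, 24, 51, 0), (118, 24, 69, 0), (119, 2, 24, 69), (122, 24, 86, 0),
      (123, 2, 24, 86), (126, 24, 73, 0), (127, 2, 24, 73)]
    conjA := [3, 0, 2, 2, 0, 2, 0, 3, 0, 2, 2, 0, 2]
    conj := [
      [2, 2, 0, 2, 0, 3, 0, 2, 0, 2, 2, 0, 2], [2, 0, 3, 0, 3, 0, 3, 0, 2, 0, 3, 0, 2, 2], [0, 3, 0, 2],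
      [3, 0, 3, 0, 2, 2, 0, 2], [0, 2, 0, 3], [0, 2, 2, 0, 2, 0, 2, 2, 0, 3, 0, 3], [2, 0, 3, 0, 2, 0, 2, 0, 2],
      [0, 2, 0, 2, 0, 2, 2, 0, 3, 0, 2, 2], [0, 3, 0, 2, 2, 0, 2], [2, 0, 2, 2, 0, 2, 0, 3, 0, 2, 0, 2],
      [0, 2, 0, 3, 0, 2, 0, 2, 0, 3, 0, 2, 0, 2], [0, 2, 2, 0, 2, 0, 3, 0, 2, 0, 2],
      [0, 2, 0, 3, 0, 3, 0, 2, 0, 3, 0, 3, 0, 2], [2, 0, 2, 0, 2, 2, 0, 3, 0, 2, 0, 3, 0, 3],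
      [0, 2, 0, 2, 0, 3, 0, 3, 0, 2, 2], [3, 0, 2, 0, 2, 2, 0, 2, 0, 3, 0, 3, 0, 2],
      [0, 2, 0, 2, 2, 0, 2, 0, 3, 0, 3, 0, 2], [2, 0, 3, 0, 2, 2, 0, 2], [0, 3, 0, 2, 0, 2, 0, 2],
      [2, 0, 2, 0, 2, 2, 0, 2, 0, 3, 0, 3, 0, 2], [0, 2, 0, 2, 0, 2, 2, 0, 2, 0, 2, 2],
      [3, 0, 2, 0, 2, 0, 2, 2, 0, 2], [2, 2, 0, 3, 0, 2, 2, 0, 2], [2, 0, 2, 0, 2, 0, 3, 0, 3, 0, 2, 2],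
      [0, 2, 0, 3, 0, 2, 0, 3, 0, 3, 0, 3, 0, 2], [3, 0, 2, 0, 2, 0, 2, 2, 0, 3, 0, 2, 2],
      [2, 0, 2, 0, 3, 0, 2, 0, 2, 2, 0, 2], [2, 2, 0, 3, 0, 2, 0, 2, 0, 2],
      [3, 0, 2, 0, 2, 2, 0, 3, 0, 2, 0, 3, 0, 3], [3, 0, 3, 0, 2, 0, 2, 0, 2], [0, 2, 2, 0, 3, 0, 2, 0, 2],
      [0, 2, 0, 2, 0, 2, 2, 0, 2], [2, 0, 2, 0, 3], [3, 0, 3, 0, 2], [0, 3, 0, 3, 0, 3, 0, 2, 0, 3, 0, 2, 2],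
      [3, 0, 2, 2, 0, 2, 0, 2, 2, 0, 2, 0, 2], [3, 0, 2, 0, 3, 0, 2, 0, 2, 2, 0, 2], [2, 0, 2, 2, 0, 3, 0, 2, 0, 2],
      [3, 0, 2, 2, 0, 2, 0, 2, 2, 0, 3, 0, 3], [2, 2, 0, 2, 0, 2, 2, 0, 2, 0, 3, 0, 3, 0, 2],
      [0, 2, 0, 2, 2, 0, 3, 0, 2, 0, 3, 0, 3], [0, 2, 0, 3, 0, 2, 0, 2, 2, 0, 2],
      [2, 2, 0, 2, 0, 2, 2, 0, 3, 0, 2, 0, 3, 0, 3], [0, 3, 0, 3, 0, 3, 0, 2, 0, 2, 0, 2, 2],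
      [0, 2, 2, 0, 2, 0, 2, 2, 0, 2, 0, 2], [], [2, 0, 2, 2, 0, 3, 0, 2, 2, 0, 3, 0, 2, 0, 2, 2],
      [3, 0, 3, 0, 3, 0, 2, 2, 0, 2, 0, 2, 2], [3, 0, 3, 0, 2, 0, 3, 0, 3, 0, 3],
      [0, 3, 0, 3, 0, 2, 2, 0, 3, 0, 2, 2], [0, 2, 2, 0, 3], [2, 0, 2, 0, 2, 2, 0, 3],
      [0, 3, 0, 2, 2, 0, 2, 0, 2, 2], [3, 0, 3, 0, 2, 2, 0, 2, 0, 2], [0, 2, 0, 3, 0, 3, 0, 3],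
      [0, 2, 0, 2, 2, 0, 3], [3, 0, 3, 0, 2, 2, 0, 2, 0, 2, 2], [3, 0, 2, 0, 3, 0, 3, 0, 3],
      [2, 2, 0, 3, 0, 2, 2, 0, 2, 0, 2], [0, 3, 0, 3, 0, 2, 2, 0, 2, 0, 2, 2], [2, 0, 2, 2, 0, 3],
      [0, 2, 2, 0, 3, 0, 2, 2, 0, 2, 0, 2], [0, 3, 0, 2, 0, 3, 0, 3, 0, 3], [2, 0, 3, 0, 2, 0, 2, 2, 0, 2, 0, 2],
      [2, 2, 0, 3, 0, 2, 0, 2, 0, 3, 0, 2, 0, 2], [2, 2, 0, 2, 0, 2, 2, 0, 3, 0, 3],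
      [2, 0, 2, 0, 2, 2, 0, 3, 0, 2, 2], [0, 2, 0, 3, 0, 2, 0, 2, 0, 2], [3, 0, 2, 2, 0, 2],
      [2, 0, 3, 0, 2, 0, 3, 0, 3, 0, 2, 0, 2, 0, 3], [0, 3, 0, 3, 0, 2, 0, 3, 0, 3, 0, 3], [0, 2, 2, 0, 2, 2],
      [0, 2, 0, 2, 0, 3, 0, 2, 2, 0, 2], [0, 3, 0, 3, 0, 2, 0, 2, 2, 0, 3],
      [2, 2, 0, 2, 0, 3, 0, 2, 2, 0, 3, 0, 2, 2, 0, 2], [2, 0, 2, 2, 0, 2],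
      [2, 0, 2, 2, 0, 3, 0, 2, 0, 2, 0, 3, 0, 3, 0, 3], [0, 3, 0, 2, 0, 3, 0, 3, 0, 2, 0, 2, 0, 3],
      [3, 0, 2, 0, 2, 2, 0, 3, 0, 2, 2], [2, 2, 0, 2, 0, 2, 2, 0, 3, 0, 2, 2],
      [0, 2, 2, 0, 3, 0, 2, 0, 2, 0, 3, 0, 3, 0, 3], [2, 2, 0, 2, 2, 0, 2, 0, 2],
      [2, 2, 0, 3, 0, 2, 0, 2, 0, 3, 0, 3, 0, 2], [2, 2, 0, 3, 0, 2, 0, 3, 0, 3, 0, 2],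
      [2, 0, 3, 0, 2, 0, 3, 0, 3, 0, 2], [3, 0, 2, 0, 3, 0, 2, 0, 2, 0, 2], [3, 0, 2, 0, 2, 2, 0, 3, 0, 3],
      [0, 2, 0, 2, 2, 0, 3, 0, 2, 2, 0, 2], [3, 0, 2, 2, 0, 2, 0, 2], [0, 2, 0, 2, 2, 0, 3, 0, 2, 2],
      [2, 0, 2, 0, 3, 0, 2, 0, 2, 0, 2], [2, 2, 0, 2, 2, 0, 2], [2, 2, 0, 2, 0, 3, 0, 2, 0, 2, 0, 2],
      [2, 0, 2, 0, 2, 2, 0, 3, 0, 2, 2, 0, 2], [3, 0, 3, 0, 2, 0, 3, 0, 3, 0, 2], [0, 3, 0, 2, 0, 3, 0, 3, 0, 2],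
      [0, 3, 0, 2, 0, 3, 0, 3, 0, 2, 2], [0, 2, 0, 3, 0, 2, 0, 2, 0, 2, 2],
      [2, 0, 2, 0, 3, 0, 2, 2, 0, 3, 0, 2, 2, 0, 2], [3, 0, 3, 0, 3, 0, 2, 0, 3, 0, 3, 0, 3],
      [2, 0, 2, 0, 2, 2, 0, 3, 0, 3], [0, 2, 2, 0, 2], [3, 0, 2, 0, 3, 0, 2, 2, 0, 3, 0, 2, 2, 0, 2],
      [0, 2, 2, 0, 2, 0, 2], [0, 3, 0, 2, 0, 2, 0, 3, 0, 3, 0, 2], [2, 0, 3, 0, 2, 0, 2, 0, 3, 0, 3, 0, 2],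
      [3, 0, 3, 0, 2, 0, 2, 0, 3, 0, 3, 0, 2], [0, 2, 0, 3, 0, 2, 2, 0, 3, 0, 2, 2, 0, 2],
      [0, 2, 0, 2, 2, 0, 3, 0, 3], [2, 0, 2, 2, 0, 2, 0, 2], [0, 2, 0, 2, 2, 0, 2, 0, 2, 2],
      [0, 2, 2, 0, 3, 0, 3, 0, 2, 0, 2, 0, 3], [3, 0, 2, 2, 0, 2, 0, 3, 0, 2, 0, 2, 2],
      [2, 0, 2, 2, 0, 2, 0, 3, 0, 2, 2, 0, 2], [3], [0, 2, 2, 0, 3, 0, 2, 2, 0, 3, 0, 2, 0, 2, 2],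
      [0, 2, 2, 0, 3, 0, 2, 0, 2, 2, 0, 3], [0, 2, 2, 0, 2, 0, 3, 0, 2, 0, 2, 2],
      [0, 3, 0, 3, 0, 2, 0, 3, 0, 2, 0, 2, 0, 3], [0, 3, 0, 2, 2, 0, 3, 0, 2, 2],
      [3, 0, 2, 2, 0, 3, 0, 2, 0, 2, 0, 3, 0, 3, 0, 2], [0, 2, 0, 3, 0, 3, 0, 2, 2],
      [2, 0, 2, 0, 2, 0, 3, 0, 3, 0, 2], [2, 2, 0, 2, 2, 0, 3, 0, 2, 2], [0, 2, 2, 0, 3, 0, 2, 0, 3, 0, 2, 2],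
      [0, 2, 2, 0, 2, 0, 3, 0, 2, 2, 0, 2], [2], [0, 2, 2, 0, 2, 0, 2, 2, 0, 2, 0, 3, 0, 2, 2],
      [0, 3, 0, 2, 2, 0, 2, 0, 3, 0, 2, 0, 2, 2], [3, 0, 2, 0, 3, 0, 2, 2, 0, 2, 0, 2],
      [3, 0, 2, 0, 2, 0, 3, 0, 3, 0, 2, 0, 2, 0, 3], [3, 0, 2, 0, 2, 0, 3], [3, 0, 2, 2, 0, 2, 0, 3, 0, 2, 2, 0, 2],
      [2, 0, 2, 2, 0, 2, 0, 3, 0, 2, 0, 2, 2], [3, 0, 3, 0, 2, 2, 0, 2, 0, 3, 0, 2, 0, 2, 2],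
      [2, 2, 0, 2, 0, 2, 0, 3], [2, 2, 0, 2, 0, 2, 0, 3, 0, 3, 0, 2, 0, 2, 0, 3],
      [0, 2, 0, 3, 0, 2, 2, 0, 3, 0, 2, 2], [2, 0, 2, 0, 3, 0, 3, 0, 2, 2],
      [0, 2, 2, 0, 3, 0, 2, 0, 2, 0, 3, 0, 3, 0, 2], [2, 0, 3, 0, 2, 2, 0, 3, 0, 2, 2],
      [2, 0, 3, 0, 3, 0, 2, 0, 3, 0, 2, 0, 2, 0, 3], [2, 2, 0, 2, 0, 2, 2, 0, 3, 0, 2, 2, 0, 3],
      [2, 0, 2, 2, 0, 2, 0, 2, 0, 3, 0, 3, 0, 2], [2, 0, 3, 0, 2, 0, 3, 0, 3, 0, 2, 2, 0, 2, 0, 2],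
      [0, 2, 2, 0, 3, 0, 2, 0, 2, 2], [2, 0, 2, 0, 2, 0, 3, 0, 3, 0, 2, 0, 2, 0, 3],
      [2, 0, 2, 0, 3, 0, 2, 2, 0, 2, 0, 2], [2, 0, 3, 0, 2, 0, 2, 2, 0, 2, 0, 3, 0, 2, 0, 2], [2, 0, 2, 0, 2, 0, 3],
      [2, 2, 0, 3, 0, 2, 2, 0, 3, 0, 2, 2], [2, 0, 2, 2, 0, 3, 0, 2, 0, 2, 0, 3, 0, 3, 0, 2],
      [2, 2, 0, 3, 0, 3, 0, 2, 0, 3, 0, 2, 0, 2, 0, 3], [2, 2, 0, 2, 0, 3, 0, 3, 0, 2, 2],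
      [0, 2, 0, 3, 0, 2, 2, 0, 2], [0, 2, 2, 0, 3, 0, 2, 0, 3, 0, 3, 0, 2], [2, 0, 2, 0, 3, 0, 3],
      [2, 2, 0, 2, 0, 3, 0, 3, 0, 2, 0, 3, 0, 3], [0, 2], [3, 0, 2, 0, 2, 0, 3, 0, 2, 0, 2, 2, 0, 3],
      [0, 3, 0, 2, 0, 2, 0, 3, 0, 3, 0, 2, 0, 3, 0, 3], [3, 0, 3, 0, 2, 2, 0, 2, 0, 2, 0, 3, 0, 3, 0, 2], [3, 0, 2],
      [0, 2, 0, 3, 0, 2, 0, 3, 0, 3, 0, 2, 0, 2, 0, 2], [2, 0, 2, 2, 0, 2, 0, 3, 0, 3, 0, 2, 0, 3, 0, 3],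
      [0, 3, 0, 3, 0, 2, 2, 0, 2, 0, 2, 2, 0, 3], [2, 0, 2, 0, 3, 0, 2, 2, 0, 2],
      [0, 2, 2, 0, 2, 0, 3, 0, 2, 0, 2, 0, 3], [3, 0, 2, 0, 3, 0, 3, 0, 2, 0, 3, 0, 3], [2, 2, 0, 2, 0, 3, 0, 3],
      [0, 2, 2, 0, 3, 0, 2, 2, 0, 2], [2, 0, 3, 0, 2, 2], [2, 0, 2, 0, 2, 0, 3, 0, 2, 0, 2, 2], [2, 2, 0, 2, 2],
      [3, 0, 2, 0, 2, 0, 3, 0, 3, 0, 3, 0, 2], [0, 2, 0, 2, 0, 3, 0, 2, 0, 2, 0, 3, 0, 3, 0, 2],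
      [3, 0, 3, 0, 3, 0, 2, 2, 0, 3, 0, 2, 2], [3, 0, 2, 2, 0, 3], [2, 2, 0, 3, 0, 2, 0, 3, 0, 3, 0, 3],
      [2, 2, 0, 3, 0, 3, 0, 2, 2, 0, 2, 0, 2, 2], [0, 3, 0, 2, 2, 0, 2, 0, 2], [2, 2, 0, 2, 0, 2, 2, 0, 3],
      [2, 0, 2, 0, 3, 0, 3, 0, 3], [2, 0, 3, 0, 2, 2, 0, 2, 0, 2, 2], [2, 0, 3, 0, 3, 0, 2, 0, 2, 0, 2],
      [0, 2, 2, 0, 2, 0, 3, 0, 3, 0, 2, 2, 0, 2, 0, 2], [2, 2, 0, 2, 0, 3, 0, 3, 0, 3],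
      [2, 2, 0, 3, 0, 2, 2, 0, 2, 0, 2, 2], [3, 0, 2, 0, 2, 2, 0, 3], [2, 0, 3, 0, 2, 2, 0, 2, 0, 2],
      [2, 0, 3, 0, 2, 0, 2, 0, 3, 0, 2, 0, 2], [0, 3, 0, 2, 0, 2, 2, 0, 2, 0, 2],
      [3, 0, 2, 2, 0, 3, 0, 2, 0, 2, 0, 3, 0, 2, 0, 2], [0, 2, 0, 2, 0, 2, 2, 0, 2, 0, 2],
      [3, 0, 3, 0, 2, 0, 2, 2, 0, 2, 0, 2], [0, 3, 0, 2, 0, 2, 0, 3, 0, 2, 0, 2],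
      [0, 2, 2, 0, 3, 0, 2, 0, 2, 0, 3, 0, 2, 0, 2], [3, 0, 3, 0, 3, 0, 2, 0, 2, 0, 2],
      [3, 0, 3, 0, 3, 0, 2, 2, 0, 3, 0, 2, 0, 2, 0, 3], [0, 3], [2, 0, 2, 0, 3, 0, 3, 0, 2, 0, 2, 0, 2],
      [2, 2, 0, 2, 2, 0, 2, 0, 2, 2, 0, 3], [0, 2, 0, 2, 0, 3, 0, 2, 0, 2, 2, 0, 2],
      [0, 2, 0, 2, 0, 3, 0, 2, 0, 2, 0, 3], [0, 3, 0, 2, 0, 2, 2, 0, 3], [0, 3, 0, 2, 2, 0, 3],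
      [3, 0, 3, 0, 2, 0, 2, 2, 0, 3], [3, 0, 3, 0, 2, 2, 0, 3], [0, 3, 0, 2, 0, 3, 0, 2, 0, 2, 0, 3],
      [3, 0, 2, 0, 2, 0, 3, 0, 2, 0, 2, 0, 3], [2, 0, 3], [3, 0, 2, 2, 0, 2, 0, 2, 2, 0, 3],
      [0, 3, 0, 3, 0, 2, 2, 0, 3, 0, 2, 0, 2, 0, 3], [2, 2, 0, 2, 0, 3, 0, 3, 0, 2, 0, 2, 0, 2],
      [3, 0, 3, 0, 2, 2, 0, 2, 0, 3, 0, 3, 0, 2], [0, 3, 0, 2, 2, 0, 3, 0, 3, 0, 2, 2],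
      [2, 0, 3, 0, 3, 0, 2, 2, 0, 2, 0, 2, 2], [2, 2, 0, 2, 2, 0, 3], [2, 0, 2, 2, 0, 3, 0, 2, 2, 0, 2, 0, 2],
      [2, 0, 3, 0, 2, 0, 3, 0, 3, 0, 3], [0, 3, 0, 3, 0, 2, 0, 2, 0, 2],
      [0, 2, 0, 2, 2, 0, 3, 0, 3, 0, 2, 0, 2, 0, 3], [0, 2, 2, 0, 2, 0, 3, 0, 2, 0, 2, 0, 2],
      [3, 0, 3, 0, 2, 0, 2, 0, 3, 0, 2, 0, 2], [3, 0, 2, 0, 2, 2, 0, 3, 0, 2, 0, 2, 0, 3],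
      [0, 2, 0, 3, 0, 2, 0, 2, 2, 0, 3], [3, 0, 3, 0, 2, 2, 0, 3, 0, 2, 2, 0, 2],
      [0, 2, 0, 2, 2, 0, 2, 0, 2, 2, 0, 2], [3, 0, 3, 0, 2, 0, 2], [0, 2, 2, 0, 2, 0, 3, 0, 3, 0, 2],
      [2, 2, 0, 2, 0, 3, 0, 3, 0, 2], [3, 0, 3, 0, 3, 0, 2, 0, 3, 0, 2, 2, 0, 2], [2, 2, 0, 3, 0, 2, 0, 2],
      [3, 0, 2, 2, 0, 2, 0, 3, 0, 3, 0, 2], [3, 0, 2, 0, 3, 0, 3, 0, 2], [0, 3, 0, 3, 0, 2, 0, 3, 0, 2, 2, 0, 2],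
      [3, 0, 3, 0, 3, 0, 2, 0, 2, 0, 3], [0, 3, 0, 3], [3, 0, 3, 0, 2, 0, 2, 2, 0, 2],
      [0, 3, 0, 2, 2, 0, 2, 0, 2, 2, 0, 2], [2, 2, 0, 3, 0, 3, 0, 2, 0, 2, 0, 3, 0, 3, 0, 2],
      [0, 2, 2, 0, 2, 0, 3, 0, 2, 2], [2, 0, 3, 0, 3, 0, 2, 0, 2, 0, 3, 0, 2, 0, 2],
      [2, 0, 3, 0, 2, 0, 2, 2, 0, 3, 0, 3], [3, 0, 2, 2, 0, 3, 0, 3, 0, 2, 0, 2, 0, 3],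
      [3, 0, 2, 0, 2, 2, 0, 2, 0, 2, 2], [0, 3, 0, 2, 0, 2, 2, 0, 2, 0, 2, 2],
      [2, 2, 0, 3, 0, 3, 0, 2, 0, 2, 0, 3, 0, 2, 0, 2], [3, 0, 3, 0, 2, 0, 3, 0, 3],
      [0, 2, 0, 2, 2, 0, 3, 0, 3, 0, 2, 2], [2, 0, 2, 2, 0, 3, 0, 2, 2, 0, 2, 0, 2, 2], [0, 2, 2, 0, 2, 0, 2, 2],
      [0, 3, 0, 2, 0, 2, 2, 0, 3, 0, 3], [0, 3, 0, 3, 0, 2, 0, 2, 0, 3, 0, 2, 0, 2],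
      [2, 0, 2, 0, 2, 2, 0, 2, 0, 2, 2], [2, 0, 2, 2, 0, 3, 0, 3, 0, 2, 0, 2, 0, 3],
      [2, 2, 0, 2, 0, 2, 0, 3, 0, 3, 0, 3, 0, 2], [2, 0, 2, 2], [0, 2, 0, 3, 0, 3, 0, 2, 2, 0, 3, 0, 2, 0, 2, 2],
      [0, 2, 0, 2, 0, 3, 0, 2, 0, 2, 2], [3, 0, 3, 0, 2, 0, 2, 2, 0, 3, 0, 3],
      [3, 0, 3, 0, 3, 0, 2, 0, 2, 0, 3, 0, 2, 0, 2], [0, 3, 0, 2, 0, 2, 0, 3, 0, 2, 0, 2, 2, 0, 3],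
      [2, 0, 2, 0, 2, 0, 3, 0, 3, 0, 3, 0, 2], [0, 2, 2], [3, 0, 2, 0, 2, 0, 3, 0, 2, 0, 2, 2],
      [2, 0, 2, 2, 0, 2, 0, 2, 2], [3, 0, 3, 0, 2, 0, 3, 0, 3, 0, 3, 0, 2], [0, 3, 0, 2, 0, 3, 0, 3],
      [2, 2, 0, 2, 2, 0, 3, 0, 2, 2, 0, 2, 0, 2, 2], [0, 2, 0, 2, 2, 0, 2], [2, 2, 0, 2, 2, 0, 3, 0, 3, 0, 2, 2],
      [3, 0, 2, 2], [0, 2, 0, 3, 0, 2, 0, 2, 0, 2, 2, 0, 3, 0, 3], [0, 2, 2, 0, 2, 0, 2, 0, 3, 0, 2, 0, 2],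
      [0, 2, 0, 2, 0, 3, 0, 3, 0, 3, 0, 2], [2, 2, 0, 2, 2, 0, 2, 0, 2, 2], [2, 0, 3, 0, 2, 0, 3, 0, 3],
      [0, 3, 0, 2, 0, 3, 0, 3, 0, 3, 0, 2], [3, 0, 2, 2, 0, 3, 0, 2, 2, 0, 2, 0, 2, 2], [2, 0, 2, 0, 2, 2, 0, 2],
      [3, 0, 2, 2, 0, 3, 0, 3, 0, 2, 2], [0, 3, 0, 2, 2], [3, 0, 2, 2, 0, 3, 0, 2, 2, 0, 2], [3, 0, 3, 0, 2, 2],
      [2, 2, 0, 2, 2, 0, 3, 0, 2, 2, 0, 2], [0, 2, 2, 0, 3, 0, 3, 0, 2, 2], [2, 2, 0, 2, 0, 2, 2, 0, 2],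
      [0, 2, 0, 3, 0, 3, 0, 2, 0, 2, 0, 3, 0, 2, 0, 2], [0, 2, 0, 2, 0, 3, 0, 2, 0, 2, 2, 0, 3],
      [0, 3, 0, 2, 2, 0, 2, 0, 2, 0, 3, 0, 3, 0, 2], [2, 0, 2], [3, 0, 2, 2, 0, 3, 0, 2, 2, 0, 3, 0, 2, 0, 2, 2],
      [2, 2], [3, 0, 3, 0, 2, 2, 0, 3, 0, 2, 2], [3, 0, 2, 0, 3, 0, 3, 0, 2, 2],
      [3, 0, 3, 0, 3, 0, 2, 0, 3, 0, 2, 0, 2, 0, 3], [0, 2, 2, 0, 2, 0, 3, 0, 3, 0, 2, 0, 2, 0, 3],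
      [0, 2, 0, 2, 0, 3], [0, 2, 0, 3, 0, 2, 2, 0, 2, 0, 2], [0, 2, 0, 2, 0, 3, 0, 3, 0, 2, 0, 2, 0, 3],
      [0, 3, 0, 2, 0, 2, 2, 0, 2, 0, 3, 0, 2, 0, 2], [0, 2, 0, 2, 2, 0, 2, 0, 3, 0, 2, 0, 2],
      [0, 3, 0, 2, 2, 0, 2, 0, 2, 2, 0, 3], [2, 0, 2, 0, 3, 0, 2, 0, 2, 0, 3], [0, 3, 0, 3, 0, 2, 0, 2, 0, 2, 2],
      [0, 3, 0, 3, 0, 2, 2, 0, 3], [3, 0, 2, 0, 3, 0, 3, 0, 2, 0, 2, 0, 3], [0, 2, 2, 0, 3, 0, 3, 0, 2],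
      [0, 3, 0, 2, 0, 3, 0, 3, 0, 2, 0, 2, 0, 2], [2, 2, 0, 2, 0, 3, 0, 2, 0, 2], [2, 2, 0, 3, 0, 2, 0, 2, 2],
      [0, 3, 0, 2, 0, 2, 2, 0, 3, 0, 2, 2], [2, 2, 0, 2, 0, 2, 0, 3, 0, 3, 0, 2, 0, 3, 0, 3],
      [2, 0, 2, 2, 0, 3, 0, 2, 2], [0, 2, 0, 2, 0, 3, 0, 3, 0, 2], [2, 0, 3, 0, 2, 2, 0, 3, 0, 3, 0, 2, 2],
      [0, 3, 0, 2, 2, 0, 2, 0, 3, 0, 3, 0, 2], [2, 2, 0, 3], [0, 2, 0, 2, 0, 3, 0, 2, 2, 0, 3, 0, 2, 2, 0, 2],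
      [3, 0, 2, 0, 3, 0, 3, 0, 2, 0, 2, 0, 2], [0, 2, 2, 0, 2, 0, 2, 2, 0, 3], [2, 0, 3, 0, 2, 0, 3, 0, 2, 0, 2],
      [2, 0, 3, 0, 3, 0, 2, 0, 2, 2, 0, 3, 0, 2, 2], [0, 2, 0, 2, 0, 3, 0, 2, 2, 0, 2, 0, 2],
      [2, 2, 0, 3, 0, 2, 2, 0, 2, 0, 3, 0, 3, 0, 2], [3, 0, 2, 2, 0, 3, 0, 2, 2],
      [2, 2, 0, 2, 0, 2, 0, 3, 0, 3, 0, 2], [3, 0, 3, 0, 2, 0, 3, 0, 2, 0, 2, 0, 3],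
      [2, 2, 0, 3, 0, 2, 0, 2, 2, 0, 3], [2, 0, 3, 0, 3, 0, 2, 0, 2, 2, 0, 2, 0, 2], [2, 2, 0, 3, 0, 2, 2, 0, 3],
      [2, 0, 3, 0, 2, 2, 0, 2, 0, 3, 0, 3, 0, 2], [3, 0, 2, 0, 2, 0, 3, 0, 2, 2, 0, 2, 0, 2],
      [2, 0, 3, 0, 2, 0, 2, 2, 0, 3], [0, 3, 0, 3, 0, 2, 0, 2, 2, 0, 2, 0, 2], [2, 0, 3, 0, 2, 2, 0, 3],
      [2, 0, 2, 0, 2, 0, 3, 0, 2, 0, 2, 2, 0, 2], [3, 0, 3], [0, 2, 0, 3, 0, 3, 0, 2, 0, 2, 0, 2],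
      [0, 3, 0, 3, 0, 2, 0, 2, 2, 0, 2, 0, 2, 2, 0, 2], [2, 0, 2, 2, 0, 2, 0, 2, 2, 0, 3],
      [0, 2, 2, 0, 2, 0, 2, 2, 0, 3, 0, 2, 2], [3, 0, 3, 0, 2, 0, 3, 0, 2, 2, 0, 2],
      [2, 0, 3, 0, 3, 0, 2, 0, 3, 0, 3, 0, 2], [3, 0, 3, 0, 3, 0, 2, 0, 3, 0, 3],
      [2, 2, 0, 3, 0, 2, 0, 2, 0, 3, 0, 3, 0, 3], [0, 3, 0, 2, 0, 2, 0, 2, 2, 0, 3, 0, 3],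
      [0, 3, 0, 3, 0, 2, 0, 3, 0, 3, 0, 2], [2, 2, 0, 3, 0, 3, 0, 2, 0, 3, 0, 3],
      [2, 0, 3, 0, 2, 0, 2, 0, 2, 2, 0, 3, 0, 3], [3, 0, 3, 0, 2, 0, 2, 0, 3, 0, 3, 0, 3],
      [0, 3, 0, 2, 0, 3, 0, 2, 0, 2, 2, 0, 2], [2, 0, 3, 0, 3, 0, 3], [2, 2, 0, 2, 0, 3, 0, 2, 2, 0, 3, 0, 3],
      [2, 0, 3, 0, 2, 0, 2, 0, 3], [3, 0, 3, 0, 2, 0, 2, 2, 0, 3, 0, 2, 2], [2, 0, 2, 0, 3, 0, 2, 0, 2],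
      [2, 0, 2, 0, 2, 0, 3, 0, 3, 0, 2, 0, 3, 0, 3], [2, 0, 3, 0, 2, 0, 2, 2],
      [3, 0, 2, 0, 3, 0, 3, 0, 2, 0, 3, 0, 2, 2, 0, 2], [3, 0, 2, 0, 2, 2, 0, 3, 0, 2, 2, 0, 3],
      [2, 2, 0, 2, 2, 0, 2, 0, 2, 0, 3, 0, 3, 0, 2], [2, 0, 2, 2, 0, 3, 0, 2, 0, 2, 2],
      [2, 0, 2, 0, 2, 2, 0, 3, 0, 2, 2, 0, 3], [0, 3, 0, 2, 0, 3, 0, 3, 0, 2, 2, 0, 2, 0, 2],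
      [0, 2, 2, 0, 2, 0, 2, 0, 3, 0, 3, 0, 2], [3, 0, 2, 2, 0, 3, 0, 2, 0, 2, 2],
      [3, 0, 2, 0, 2, 0, 3, 0, 3, 0, 2, 0, 3, 0, 3], [2, 0, 3, 0, 2, 0, 2, 2, 0, 3, 0, 2, 2],
      [3, 0, 2, 0, 3, 0, 2, 0, 2], [3, 0, 3, 0, 2, 0, 2, 2], [2, 0, 3, 0, 2, 0, 2, 0, 3, 0, 3, 0, 3],
      [3, 0, 3, 0, 2, 0, 2, 0, 2, 2, 0, 3, 0, 3], [0, 2, 0, 2, 0, 3, 0, 3, 0, 2, 0, 3, 0, 3], [0, 3, 0, 2, 0, 2, 2],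
      [0, 2, 0, 3, 0, 2, 0, 2], [0, 3, 0, 2, 2, 0, 3, 0, 2, 2, 0, 3], [0, 2, 0, 2, 0, 2, 2, 0, 3, 0, 2, 2, 0, 2],
      [2, 0, 2, 0, 3, 0, 3, 0, 2], [2, 0, 2, 2, 0, 2, 0, 3, 0, 3, 0, 2], [0, 3, 0, 2, 0, 2],
      [0, 3, 0, 3, 0, 2, 0, 3, 0, 3], [0, 2, 0, 3, 0, 2, 2, 0, 2, 0, 2, 2, 0, 2],
      [0, 3, 0, 2, 0, 3, 0, 2, 2, 0, 3, 0, 2, 2, 0, 2], [0, 2, 0, 2, 0, 3, 0, 3, 0, 3],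
      [0, 2, 0, 3, 0, 2, 0, 3, 0, 3, 0, 3], [3, 0, 2, 2, 0, 3, 0, 2, 0, 2, 0, 3], [0, 2, 0, 2, 0, 2],
      [3, 0, 3, 0, 2, 0, 2, 0, 3], [0, 2, 0, 3, 0, 2, 2, 0, 3, 0, 3], [2, 0, 2, 0, 3, 0, 2, 0, 3, 0, 3, 0, 2],
      [3, 0, 2, 0, 2, 0, 2], [0, 2, 0, 3, 0, 2, 0, 3, 0, 3, 0, 2], [3, 0, 2, 0, 3, 0, 2, 2, 0, 3, 0, 3],
      [2, 2, 0, 3, 0, 2, 0, 2, 0, 3], [0, 2, 0, 2, 0, 2, 2, 0, 2, 0, 3, 0, 3, 0, 2],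
      [0, 3, 0, 2, 0, 3, 0, 2, 0, 2, 0, 2], [0, 2, 2, 0, 3, 0, 2, 0, 2, 0, 3], [2, 0, 2, 0, 2, 0, 3, 0, 3, 0, 3],
      [2, 0, 2, 0, 3, 0, 3, 0, 2, 0, 3, 0, 3], [3, 0, 2, 2, 0, 3, 0, 2, 0, 3, 0, 3, 0, 2], [0, 2, 0, 3, 0, 3],
      [3, 0, 2, 0, 3, 0, 2, 2, 0, 2], [0, 2, 2, 0, 2, 0, 2, 2, 0, 2, 0, 3, 0, 3, 0, 2], [2, 2, 0, 2],
      [0, 2, 2, 0, 2, 0, 3, 0, 3, 0, 2, 0, 3, 0, 3], [2, 0, 2, 0, 2, 0, 3, 0, 2, 0, 2, 2, 0, 3],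
      [2, 0, 2, 2, 0, 3, 0, 3, 0, 2, 2], [3, 0, 2, 0, 2, 2, 0, 2], [2, 2, 0, 2, 0, 3, 0, 2, 2, 0, 2],
      [3, 0, 2, 0, 3, 0, 3], [2, 0, 2, 2, 0, 2, 0, 3, 0, 2, 0, 2, 0, 3], [0, 2, 0, 3, 0, 3, 0, 2, 0, 3, 0, 3],
      [2, 0, 2, 2, 0, 3, 0, 2, 2, 0, 2], [2, 2, 0, 3, 0, 2, 2], [2, 0, 3, 0, 2, 0, 3, 0, 3, 0, 3, 0, 2],
      [3, 0, 2, 2, 0, 2, 0, 2, 2], [0, 2, 2, 0, 3, 0, 2, 2, 0, 2, 0, 2, 2], [2, 2, 0, 3, 0, 2, 0, 3, 0, 3],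
      [0, 3, 0, 2, 2, 0, 3, 0, 2, 0, 3, 0, 3, 0, 2], [2, 2, 0, 2, 0, 2, 2, 0, 2, 0, 2, 2],
      [3, 0, 2, 0, 2, 0, 2, 2, 0, 2, 0, 3, 0, 2, 2], [0, 2, 0, 2, 0, 2, 2, 0, 3, 0, 2, 2, 0, 3],
      [0, 3, 0, 2, 0, 3, 0, 2, 0, 2], [0, 3, 0, 3, 0, 2, 0, 2, 2, 0, 3, 0, 2, 2],
      [2, 0, 3, 0, 3, 0, 2, 2, 0, 3, 0, 2, 0, 2, 2], [0, 3, 0, 3, 0, 2, 2, 0, 2, 0, 2, 2, 0, 2],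
      [2, 0, 2, 0, 3, 0, 3, 0, 2, 2, 0, 2, 0, 2], [0, 2, 0, 3, 0, 3, 0, 2, 0, 3, 0, 2, 2],
      [2, 2, 0, 2, 0, 3, 0, 3, 0, 3, 0, 2], [0, 3, 0, 2, 0, 3, 0, 2, 2], [0, 2, 0, 3, 0, 2, 0, 3, 0, 3],
      [0, 3, 0, 2, 0, 2, 2, 0, 2, 0, 2, 2, 0, 2], [0, 2, 0, 2, 0, 2, 2, 0, 2, 0, 3, 0, 2, 2],
      [0, 3, 0, 3, 0, 2, 0, 3, 0, 2, 0, 2, 2, 0, 2], [2, 2, 0, 2, 0, 2, 0, 3, 0, 2, 0, 2], [3, 0, 2, 0, 2, 2],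
      [2, 0, 2, 2, 0, 2, 0, 2, 2, 0, 2, 0, 2, 2], [0, 2, 0, 2, 2, 0, 2, 0, 3, 0, 2, 2],
      [3, 0, 2, 0, 2, 0, 3, 0, 3, 0, 2], [0, 2, 2, 0, 3, 0, 2, 2], [3, 0, 2, 2, 0, 2, 0, 3, 0, 3],
      [3, 0, 3, 0, 2, 2, 0, 3, 0, 2, 0, 2, 0, 3], [2, 0, 2, 0, 3, 0, 3, 0, 2, 0, 2, 0, 3], [0, 2, 2, 0, 3, 0, 3],
      [2, 0, 3, 0, 3, 0, 2, 2, 0, 3], [2, 0, 3, 0, 2, 0, 3, 0, 3, 0, 2, 0, 2, 0, 2], [3, 0, 2, 2, 0, 3, 0, 3],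
      [0, 2, 0, 3, 0, 3, 0, 2, 0, 2, 0, 3], [2, 2, 0, 2, 0, 3, 0, 2, 0, 2, 0, 3],
      [0, 2, 0, 2, 0, 3, 0, 2, 0, 2, 0, 2], [2, 0, 3, 0, 3, 0, 2, 0, 2, 0, 2, 2],
      [2, 0, 2, 0, 2, 2, 0, 2, 0, 3, 0, 2, 0, 2], [2, 2, 0, 3, 0, 2, 0, 3, 0, 2, 2, 0, 2],
      [3, 0, 2, 2, 0, 2, 0, 2, 2, 0, 3, 0, 2, 2], [2, 2, 0, 2, 0, 2, 2, 0, 2, 0, 3, 0, 2, 2],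
      [0, 2, 2, 0, 3, 0, 2, 2, 0, 3, 0, 2, 2], [0, 2, 0, 2, 0, 3, 0, 2, 0, 2], [2, 0, 2, 0, 2, 2],
      [2, 2, 0, 3, 0, 2, 0, 3, 0, 2, 2], [0, 3, 0, 2, 0, 3, 0, 2, 2, 0, 2, 0, 2],
      [3, 0, 2, 0, 3, 0, 3, 0, 2, 2, 0, 2, 0, 2], [0, 2, 0, 3, 0, 3, 0, 3, 0, 2],
      [3, 0, 2, 2, 0, 3, 0, 2, 2, 0, 3, 0, 2, 2], [0, 2, 0, 2, 2], [3, 0, 2, 0, 2, 0, 3, 0, 2, 0, 2],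
      [2, 0, 2, 0, 2, 2, 0, 2, 0, 3, 0, 2, 2], [0, 2, 0, 3, 0, 2, 0, 2, 2, 0, 3, 0, 3],
      [2, 0, 2, 0, 3, 0, 3, 0, 3, 0, 2], [0, 2, 0, 3, 0, 3, 0, 2, 2, 0, 2, 0, 2], [3, 0, 3, 0, 2, 0, 3, 0, 2, 2],
      [3, 0, 3, 0, 2, 0, 2, 2, 0, 2, 0, 2, 2, 0, 2], [0, 3, 0, 2, 0, 3, 0, 2, 0, 2, 2],
      [2, 2, 0, 3, 0, 3, 0, 2, 0, 2, 0, 3], [0, 2, 0, 3, 0, 2, 2, 0, 3], [3, 0, 3, 0, 2, 2, 0, 2, 0, 2, 2, 0, 2],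
      [3, 0, 3, 0, 3], [0, 3, 0, 2, 2, 0, 3, 0, 2, 2, 0, 2], [2, 0, 2, 0, 3, 0, 2, 0, 2, 2, 0, 3],
      [2, 0, 2, 0, 2, 2, 0, 2, 0, 2, 2, 0, 2], [0, 2, 0, 2, 2, 0, 3, 0, 2, 0, 2, 0, 3],
      [2, 2, 0, 2, 0, 2, 0, 3, 0, 2, 0, 3, 0, 3, 0, 2], [2, 0, 2, 0, 3, 0, 2, 2],
      [2, 2, 0, 2, 0, 2, 2, 0, 3, 0, 2, 0, 2, 0, 3], [0, 2, 0, 2, 2, 0, 2, 0, 2, 2, 0, 3],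
      [3, 0, 2, 0, 2, 2, 0, 2, 0, 2, 2, 0, 2], [3, 0, 2, 0, 3, 0, 2, 0, 2, 2, 0, 3],
      [2, 0, 3, 0, 2, 2, 0, 2, 0, 2, 2, 0, 2], [0, 3, 0, 3, 0, 2, 0, 2, 0, 3], [2, 0, 3, 0, 3],
      [0, 3, 0, 2, 0, 2, 2, 0, 2], [2, 0, 3, 0, 3, 0, 2, 0, 2, 0, 3, 0, 3, 0, 2], [3, 0, 2, 2, 0, 2, 0, 3, 0, 2, 2],
      [2, 0, 3, 0, 2, 0, 2, 2, 0, 2], [2, 2, 0, 3, 0, 2, 2, 0, 2, 0, 2, 2, 0, 2], [2, 0, 3, 0, 3, 0, 2, 0, 2, 0, 3],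
      [2, 2, 0, 3, 0, 3], [2, 0, 2, 0, 2, 0, 3, 0, 2, 0, 3, 0, 3, 0, 2], [0, 2, 0, 3, 0, 2, 2],
      [0, 3, 0, 3, 0, 2, 0, 2, 0, 3, 0, 3, 0, 2], [2, 2, 0, 2, 2, 0, 2, 0, 3, 0, 2, 2], [2, 2, 0, 2, 0, 3, 0, 2, 2],
      [3, 0, 2, 0, 2, 0, 3, 0, 2, 0, 3, 0, 3, 0, 2], [2, 0, 3, 0, 3, 0, 2, 0, 3, 0, 2, 2, 0, 2],
      [0, 2, 0, 3, 0, 3, 0, 2], [2, 0, 3, 0, 2, 0, 2], [0, 2, 2, 0, 3, 0, 2, 0, 2, 0, 2, 2],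
      [2, 0, 3, 0, 2, 2, 0, 3, 0, 2, 2, 0, 2], [0, 2, 0, 3, 0, 2, 2, 0, 2, 0, 2, 2],
      [2, 0, 2, 0, 2, 2, 0, 3, 0, 2, 0, 2, 0, 3], [2, 2, 0, 2, 0, 3, 0, 2, 0, 2, 2, 0, 3],
      [3, 0, 2, 2, 0, 2, 0, 2, 0, 3, 0, 3, 0, 2], [2, 2, 0, 2, 2, 0, 3, 0, 2, 0, 2, 2],
      [0, 2, 0, 3, 0, 3, 0, 2, 0, 3, 0, 2, 2, 0, 2], [0, 2, 0, 2, 2, 0, 3, 0, 2, 2, 0, 3],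
      [3, 0, 3, 0, 3, 0, 2, 2, 0, 2, 0, 2, 2, 0, 2], [0, 3, 0, 3, 0, 2, 2, 0, 3, 0, 2, 0, 2, 2],
      [0, 2, 0, 2, 0, 3, 0, 2, 0, 3, 0, 3, 0, 2], [3, 0, 2, 0, 3, 0, 2, 2], [2, 0, 2, 2, 0, 2, 0, 3, 0, 2, 2],
      [3, 0, 3, 0, 3, 0, 2, 0, 2, 0, 3, 0, 3, 0, 2], [0, 2, 2, 0, 2, 0, 3, 0, 3], [2, 0, 2, 2, 0, 3, 0, 3],
      [2, 2, 0, 2, 0, 3, 0, 3, 0, 2, 0, 2, 0, 3], [0, 3, 0, 2, 2, 0, 3, 0, 2, 0, 2, 0, 3], [2, 0, 2, 0, 2],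
      [2, 0, 3, 0, 3, 0, 2, 0, 3, 0, 2, 2], [3, 0, 3, 0, 3, 0, 2, 0, 2, 0, 2, 2],
      [3, 0, 3, 0, 2, 2, 0, 2, 0, 2, 2, 0, 3], [3, 0, 2, 0, 2, 2, 0, 2, 0, 3, 0, 2, 0, 2],
      [0, 2, 0, 3, 0, 2, 0, 2, 0, 3], [0, 2, 0, 2, 2, 0, 2, 0, 2, 2, 0, 2, 0, 2, 2],
      [2, 0, 3, 0, 2, 0, 3, 0, 2, 2, 0, 2], [2, 0, 3, 0, 2, 0, 2, 0, 2, 2], [2, 2, 0, 3, 0, 3, 0, 2],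
      [2, 2, 0, 3, 0, 2, 2, 0, 3, 0, 3], [2, 2, 0, 3, 0, 3, 0, 2, 2, 0, 2, 0, 2], [0, 2, 0, 2],
      [0, 3, 0, 3, 0, 2, 0, 3, 0, 2, 2], [0, 3, 0, 2, 0, 3, 0, 2, 2, 0, 2],
      [0, 3, 0, 2, 0, 2, 2, 0, 2, 0, 3, 0, 2, 2], [2, 2, 0, 2, 0, 2], [2, 2, 0, 3, 0, 3, 0, 2, 0, 3, 0, 2, 2],
      [0, 3, 0, 3, 0, 2], [0, 3, 0, 3, 0, 2, 2, 0, 2, 0, 2], [3, 0, 3, 0, 2, 0, 2, 0, 2, 2],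
      [0, 3, 0, 2, 2, 0, 3, 0, 3], [3, 0, 2, 0, 3, 0, 2, 0, 2, 0, 3], [2, 0, 2, 0, 2, 0, 3, 0, 2, 0, 2, 0, 2],
      [2, 2, 0, 2, 0, 2, 2, 0, 2, 0, 3, 0, 2, 0, 2], [2, 2, 0, 3, 0, 3, 0, 2, 0, 2, 0, 2, 2],
      [3, 0, 3, 0, 3, 0, 2, 0, 3, 0, 2, 2], [3, 0, 2, 0, 2], [2, 0, 3, 0, 2, 0, 3, 0, 2, 2],
      [3, 0, 2, 0, 3, 0, 3, 0, 3, 0, 2], [0, 3, 0, 2, 0, 2, 0, 3, 0, 2, 0, 2, 2],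
      [2, 2, 0, 2, 0, 3, 0, 3, 0, 2, 2, 0, 2, 0, 2], [2, 2, 0, 3, 0, 2, 0, 2, 0, 2, 2, 0, 3, 0, 3],
      [0, 3, 0, 2, 0, 2, 0, 3, 0, 3, 0, 3], [0, 2, 0, 3, 0, 3, 0, 2, 0, 2, 2, 0, 3, 0, 2, 2],
      [0, 2, 2, 0, 2, 0, 3, 0, 3, 0, 2, 2], [0, 3, 0, 2, 0, 3, 0, 2, 0, 2, 2, 0, 3],
      [3, 0, 2, 0, 2, 0, 3, 0, 3, 0, 3], [0, 3, 0, 2, 0, 2, 0, 3], [3, 0, 3, 0, 2, 0, 3, 0, 2, 0, 2, 2, 0, 2],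
      [0, 3, 0, 3, 0, 3], [2, 0, 2, 0, 3, 0, 2, 2, 0, 3, 0, 3], [2, 0, 3, 0, 3, 0, 2, 0, 3, 0, 3],
      [3, 0, 3, 0, 3, 0, 2, 0, 3, 0, 3, 0, 2], [0, 2, 0, 3, 0, 2, 0, 2, 2, 0, 2, 0, 3, 0, 2, 0, 2],
      [0, 3, 0, 3, 0, 2, 0, 2, 2, 0, 2], [2, 0, 3, 0, 2, 0, 3, 0, 2, 0, 2, 0, 2],
      [2, 0, 2, 2, 0, 3, 0, 2, 0, 2, 0, 3], [0, 3, 0, 3, 0, 3, 0, 2, 0, 2, 0, 3, 0, 3, 0, 2],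
      [0, 3, 0, 3, 0, 2, 2, 0, 3, 0, 3], [0, 2, 0, 2, 0, 2, 2, 0, 3, 0, 3], [2, 0, 2, 0, 2, 2, 0, 2, 0, 2],
      [2, 0, 3, 0, 3, 0, 3, 0, 2, 0, 3, 0, 3], [3, 0, 2, 0, 2, 2, 0, 2, 0, 2],
      [0, 3, 0, 3, 0, 2, 2, 0, 3, 0, 2, 2, 0, 2], [0, 3, 0, 2, 2, 0, 3, 0, 2, 0, 2, 0, 3, 0, 3, 0, 2],
      [0, 2, 2, 0, 3, 0, 2, 2, 0, 3], [2, 0, 3, 0, 3, 0, 3, 0, 2], [2, 2, 0, 2, 0, 2, 2],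
      [0, 2, 2, 0, 2, 0, 2, 2, 0, 2, 0, 2, 2], [3, 0, 2, 0, 2, 2, 0, 2, 0, 3, 0, 2, 2],
      [2, 0, 2, 0, 2, 0, 3, 0, 2, 0, 2], [2, 2, 0, 2, 2, 0, 3, 0, 2, 2, 0, 3], [0, 2, 0, 2, 0, 2, 2],
      [3, 0, 2, 2, 0, 3, 0, 2, 2, 0, 3], [0, 3, 0, 3, 0, 3, 0, 2], [2, 0, 2, 2, 0, 3, 0, 2, 2, 0, 3],
      [3, 0, 2, 0, 2, 0, 2, 2], [2, 0, 2, 2, 0, 3, 0, 2, 0, 3, 0, 3],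
      [2, 0, 2, 2, 0, 2, 0, 3, 0, 3, 0, 2, 0, 2, 0, 2], [0, 2, 2, 0, 2, 0, 3, 0, 3, 0, 2, 0, 2, 0, 2],
      [0, 2, 2, 0, 3, 0, 2, 0, 3, 0, 3], [2, 0, 2, 2, 0, 2, 0, 2, 2, 0, 2], [2, 2, 0, 2, 0, 3, 0, 2, 0, 2, 2],
      [2, 2, 0, 3, 0, 3, 0, 2, 2], [0, 3, 0, 2, 2, 0, 3, 0, 2, 0, 2, 2], [3, 0, 2, 2, 0, 2, 0, 2, 2, 0, 2],
      [2, 2, 0, 3, 0, 2, 2, 0, 3, 0, 2, 0, 2, 2], [0, 3, 0, 3, 0, 2, 2], [0, 2, 0, 3, 0, 2, 0, 2, 2],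
      [2, 0, 2, 0, 3, 0, 2, 0, 2, 0, 3, 0, 3, 0, 2], [0, 3, 0, 2, 0, 3, 0, 3, 0, 2, 0, 3, 0, 3],
      [0, 3, 0, 2, 0, 2, 0, 3, 0, 2, 0, 2, 0, 3], [0, 2, 0, 3, 0, 2, 0, 2, 0, 3, 0, 3, 0, 2],
      [3, 0, 3, 0, 3, 0, 2, 2], [2, 2, 0, 2, 2, 0, 2, 0, 2, 2, 0, 2], [2, 0, 3, 0, 2, 2, 0, 3, 0, 2, 0, 2, 2],
      [3, 0, 2, 0, 3, 0, 2, 0, 2, 2], [2, 0, 3, 0, 3, 0, 2, 2], [0, 2, 2, 0, 2, 0, 2, 2, 0, 2],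
      [2, 0, 2, 0, 3, 0, 2, 0, 2, 2], [3, 0, 3, 0, 2, 2, 0, 3, 0, 2, 0, 2, 2], [2, 0, 3, 0, 2, 2, 0, 3, 0, 3],
      [2, 0, 3, 0, 3, 0, 2, 2, 0, 2, 0, 2], [2, 0, 3, 0, 3, 0, 2], [0, 3, 0, 2, 0, 2, 0, 2, 2],
      [2, 2, 0, 3, 0, 2, 0, 2, 0, 2, 2], [3, 0, 3, 0, 3, 0, 2], [3, 0, 3, 0, 2, 2, 0, 3, 0, 3],
      [3, 0, 3, 0, 3, 0, 2, 2, 0, 2, 0, 2], [0, 2, 0, 2, 2, 0, 2, 0, 2], [3, 0, 2, 0, 2, 0, 2, 2, 0, 3, 0, 3],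
      [2, 2, 0, 2, 0, 2, 2, 0, 2, 0, 2], [0, 3, 0, 3, 0, 3, 0, 2, 0, 3, 0, 3]] }

/-- The data of the cover B. -/
def dat1 : LDat :=
  { k := 6
    base := [0, 1, 3]
    gens := [
      [2, 0, 3, 0, 2, 0, 3, 0, 2], [2, 2, 0, 2, 2, 0, 2, 0, 2, 2, 0, 2, 2],
      [2, 0, 2, 0, 3, 0, 3, 0, 2, 0, 2, 0, 3, 0, 3]]
    gw := [
      [], [0, 1, 1, 2, 1, 2], [0, 0, 0, 2, 1, 2], [0, 0, 1, 1], [1, 1], [0, 2, 1, 2], [0, 0], [0, 1, 2, 0, 0, 2],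
      [0, 0, 1, 1, 1], [0, 1, 1, 1, 2, 1, 2], [1], [0, 2, 0, 0, 2], [0, 1, 1, 1, 2, 0, 1, 2], [1, 2, 0, 2],
      [2, 0, 0, 0, 1, 2], [0, 2, 0, 0, 0, 2], [0, 1, 1, 2, 0, 2], [1, 1, 2, 0, 1, 2], [0, 0, 2, 0, 1, 2],
      [0, 0, 0, 2, 0, 2], [0, 1, 2, 0, 1, 2], [0, 0, 1, 2, 0, 2], [1, 1, 1, 2, 0, 2], [0, 1, 1, 2, 0, 0, 0, 2],
      [0, 2, 0, 2], [0, 0, 0, 1, 1, 2, 0, 2], [1, 2, 0, 0, 0, 2], [2, 0, 1, 2], [0, 0, 1], [1, 1, 1],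
      [0, 1, 2, 1, 2], [0, 1, 1, 2, 0, 0, 2], [0, 1, 2, 0, 0, 0, 2], [0, 0, 2, 0, 2], [0, 2, 0, 1, 2],
      [1, 1, 2, 0, 2], [0, 1, 1, 1, 2, 0, 2], [0, 0, 0, 1, 2, 0, 2], [2, 0, 0, 0, 2], [1, 1, 1, 2, 0, 1, 2],
      [0, 1, 2, 0, 1], [0, 0, 1, 2, 0], [0, 1, 1, 2, 0, 0, 0], [1, 1, 1, 2, 0], [1, 2, 1, 2], [0, 0, 0, 1, 1, 1],
      [0, 1], [1, 1, 2, 0, 0, 2], [0, 1, 1, 1], [1, 1, 1, 2, 1, 2], [2, 0, 0, 2], [0, 0, 0, 1],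
      [0, 0, 0, 2, 0, 1, 2], [0, 1, 1, 2, 0, 1, 2], [0, 0, 1, 1, 2, 0, 2], [2, 0, 2], [0, 1, 2, 0, 2],
      [0, 2, 0, 0, 0, 1, 2], [1, 1, 2, 0, 0, 0, 2], [1, 2, 0, 1, 2], [2, 1, 2], [1, 2, 0, 0, 2], [0],
      [0, 0, 0, 1, 1], [1, 1, 2, 1, 2], [0, 1, 1], [0, 0, 2, 1, 2], [0, 0, 0], [1, 1, 1, 2, 1], [2, 0, 0],
      [0, 1, 1, 1, 2], [0, 0, 0, 1, 2], [0, 0, 2], [1, 1, 2], [0, 2, 1], [0, 1, 2, 0, 0], [0, 1, 1, 1, 2, 0, 1],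
      [2, 0, 0, 0, 1], [0, 2, 0, 0, 0], [1, 2, 0], [0, 2, 0, 0, 0, 1], [1, 1, 2, 0, 0, 0], [0, 1, 2, 0],
      [1, 2, 0, 1], [0, 0, 0, 1, 2, 0], [2, 0, 0, 0], [0, 1, 1, 1, 2, 0], [1, 1, 1, 2, 0, 1], [0, 0, 0, 1, 1, 2, 0],
      [0, 2, 0], [1, 2, 0, 0, 0], [2, 0, 1], [1, 2, 1], [1, 1, 2, 0, 0], [0, 1, 2], [0, 2, 0, 0, 1],
      [0, 0, 1, 1, 2], [2], [0, 1, 1, 2, 1], [0, 0, 0, 2, 1], [0, 0, 0, 2, 0], [0, 1, 1, 2, 0], [0, 0, 2, 0, 1],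
      [1, 1, 2, 0, 1], [0, 0, 1, 2], [0, 1, 2, 1], [0, 1, 1, 2, 0, 0], [1, 1, 1, 2], [1, 2, 0, 0],
      [0, 0, 0, 1, 1, 2], [2, 1], [0, 2], [2, 0, 0, 1], [0, 1, 1, 1, 2, 1], [0, 2, 0, 0], [1, 2], [0, 0, 2, 1],
      [0, 0, 0, 2], [0, 1, 1, 2], [1, 1, 2, 1], [0, 0, 0, 2, 0, 1], [2, 0], [0, 0, 1, 1, 2, 0], [0, 1, 1, 2, 0, 1],
      [0, 1, 2, 0, 0, 0], [0, 0, 2, 0], [1, 1, 2, 0], [0, 2, 0, 1]]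
    right := [
      [
        62, 61, 60, 63, 65, 66, 67, 64, 45, 47, 46, 44, 58, 56, 57, 59, 54, 53, 52, 55, 38, 37, 36, 39, 33, 35, 32,
        34, 51, 48, 50, 49, 17, 19, 18, 16, 14, 13, 15, 12, 117, 119, 118, 116, 30, 29, 28, 31, 8, 9, 11, 10, 27,
        26, 25, 24, 21, 22, 23, 20, 5, 7, 6, 4, 1, 3, 2, 0, 87, 85, 86, 84, 125, 126, 127, 124, 109, 110, 111, 108,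
        74, 73, 75, 72, 98, 97, 99, 96, 113, 114, 115, 112, 83, 81, 82, 80, 122, 121, 123, 120, 105, 106, 107, 104,
        41, 40, 42, 43, 90, 88, 91, 89, 77, 76, 78, 79, 102, 100, 101, 103, 70, 69, 68, 71, 94, 92, 93, 95],
      [
        10, 9, 11, 8, 29, 30, 28, 31, 6, 5, 4, 7, 34, 35, 33, 32, 36, 39, 38, 37, 53, 54, 55, 52, 56, 57, 58, 59, 3,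
        0, 1, 2, 23, 21, 20, 22, 24, 25, 26, 27, 86, 85, 84, 87, 64, 67, 65, 66, 62, 60, 61, 63, 15, 12, 14, 13, 16,
        19, 18, 17, 44, 47, 46, 45, 49, 48, 50, 51, 115, 112, 113, 114, 116, 119, 118, 117, 82, 81, 80, 83, 42, 41,
        40, 43, 78, 77, 76, 79, 124, 127, 125, 126, 107, 104, 105, 106, 108, 110, 111, 109, 120, 123, 122, 121, 69,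
        70, 71, 68, 72, 75, 73, 74, 93, 94, 95, 92, 96, 99, 98, 97, 88, 91, 90, 89, 100, 102, 103, 101],
      [
        97, 98, 99, 96, 73, 74, 72, 75, 112, 113, 115, 114, 76, 79, 77, 78, 101, 103, 102, 100, 40, 41, 43, 42, 89,
        88, 90, 91, 104, 107, 105, 106, 124, 125, 127, 126, 86, 84, 85, 87, 20, 21, 23, 22, 92, 95, 94, 93, 70, 68,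
        69, 71, 120, 123, 122, 121, 82, 80, 81, 83, 110, 108, 111, 109, 119, 118, 116, 117, 49, 50, 48, 51, 6, 4, 5,
        7, 12, 14, 15, 13, 57, 58, 56, 59, 37, 38, 36, 39, 25, 24, 26, 27, 44, 47, 46, 45, 3, 0, 1, 2, 19, 16, 18,
        17, 28, 30, 31, 29, 61, 63, 60, 62, 8, 9, 11, 10, 66, 67, 65, 64, 52, 55, 54, 53, 32, 33, 35, 34]]
    i0 := 0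
    ia := 4
    iz := 12
    sqRoot := 8
    omega := [
      (0, 0, 0, 0), (3, 3, 0, 0), (4, 4, 0, 0), (6, 6, 0, 0), (8, 42, 127, 0), (10, 3, 42, 127), (12, 3, 42, 73),
      (15, 42, 73, 0), (16, 3, 42, 68), (19, 42, 68, 0), (20, 3, 42, 97), (23, 42, 97, 0), (24, 3, 42, 92),
      (25, 42, 92, 0), (28, 42, 123, 0), (29, 3, 42, 123), (32, 3, 42, 112), (34, 42, 112, 0), (36, 42, 116, 0),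
      (37, 3, 42, 116), (40, 3, 42, 0), (42, 42, 0, 0), (44, 44, 0, 0), (47, 47, 0, 0), (49, 49, 0, 0),
      (50, 50, 0, 0), (52, 3, 42, 104), (53, 42, 104, 0), (56, 42, 108, 0), (57, 3, 42, 108), (60, 3, 42, 82),
      (61, 42, 82, 0), (64, 3, 42, 86), (66, 42, 86, 0), (68, 68, 0, 0), (69, 3, 68, 0), (72, 3, 73, 0),
      (73, 73, 0, 0), (76, 3, 78, 0), (78, 78, 0, 0), (80, 3, 82, 0), (82, 82, 0, 0), (84, 3, 86, 0),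
      (86, 86, 0, 0), (88, 88, 0, 0), (89, 3, 88, 0), (92, 92, 0, 0), (93, 3, 92, 0), (96, 3, 97, 0),
      (97, 97, 0, 0), (100, 100, 0, 0), (101, 3, 100, 0), (104, 104, 0, 0), (107, 3, 104, 0), (108, 108, 0, 0),
      (110, 3, 108, 0), (112, 112, 0, 0), (115, 3, 112, 0), (116, 116, 0, 0), (119, 3, 116, 0), (120, 3, 123, 0),
      (123, 123, 0, 0), (124, 3, 127, 0), (127, 127, 0, 0)]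
    conjA := [3, 0, 2, 2, 0, 2, 0, 3, 0, 2, 2, 0, 2]
    conj := [
      [2, 0, 2, 2, 0, 3, 0, 2, 2, 0, 3, 0, 2, 0, 2, 2], [2, 0, 2, 2, 0, 3, 0, 2, 0, 2, 2],
      [3, 0, 3, 0, 2, 0, 3, 0, 3, 0, 3, 0, 2], [3, 0, 2, 0, 2, 0, 3, 0, 2, 2, 0, 2, 0, 2],
      [0, 2, 2, 0, 2, 0, 2, 2, 0, 3, 0, 2, 2], [2, 0, 3, 0, 2, 2, 0, 3, 0, 2, 2], [0, 2, 2, 0, 2, 0, 3, 0, 2, 2],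
      [0, 2, 2, 0, 2, 0, 3, 0, 3, 0, 2, 0, 3, 0, 3], [0, 2, 2, 0, 2, 0, 3, 0, 3, 0, 2],
      [0, 3, 0, 3, 0, 2, 0, 2, 2, 0, 3], [2, 0, 2, 0, 3, 0, 3, 0, 2, 0, 2, 0, 2],
      [0, 3, 0, 2, 0, 3, 0, 3, 0, 3, 0, 2], [0, 3, 0, 2, 0, 2, 2, 0, 2, 0, 3, 0, 2, 2],
      [2, 0, 3, 0, 2, 0, 2, 0, 3, 0, 3, 0, 2], [0, 2, 2, 0, 2, 0, 2, 2, 0, 2, 0, 3, 0, 2, 2], [0, 3, 0, 3, 0, 2, 2],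
      [0, 3, 0, 2, 0, 3, 0, 2, 2, 0, 3, 0, 2, 2, 0, 2], [0, 3, 0, 3, 0, 3, 0, 2, 0, 3, 0, 3],
      [0, 3, 0, 2, 0, 2, 0, 3, 0, 3, 0, 2], [0, 2, 0, 3, 0, 3, 0, 2, 0, 3, 0, 2, 2, 0, 2],
      [3, 0, 2, 0, 2, 0, 2, 2, 0, 2, 0, 3, 0, 2, 2], [0, 2, 2, 0, 3, 0, 2, 2, 0, 2, 0, 2, 2],
      [2, 0, 2, 0, 2, 2, 0, 3, 0, 3], [0, 2, 0, 3, 0, 3, 0, 2, 0, 2, 0, 3, 0, 2, 0, 2],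
      [2, 0, 2, 2, 0, 3, 0, 2, 0, 2, 0, 3], [0, 3, 0, 2, 2, 0, 2, 0, 2], [0, 3, 0, 2, 0, 2, 0, 3, 0, 2, 0, 2, 2],
      [2, 0, 2, 0, 2, 0, 3, 0, 3, 0, 2, 0, 2, 0, 3], [0, 3, 0, 2, 2, 0, 3, 0, 2, 2],
      [0, 2, 0, 2, 2, 0, 3, 0, 3, 0, 2, 0, 2, 0, 3], [2, 2, 0, 3, 0, 3, 0, 2, 0, 2, 0, 2, 2],
      [0, 3, 0, 2, 2, 0, 3, 0, 2, 0, 2, 0, 3, 0, 3, 0, 2], [0, 3, 0, 3, 0, 2, 0, 2, 0, 3, 0, 3, 0, 2],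
      [3, 0, 2, 0, 2, 0, 3, 0, 3, 0, 3, 0, 2], [0, 2, 0, 3, 0, 3, 0, 2, 0, 2, 0, 3],
      [2, 0, 2, 0, 2, 2, 0, 2, 0, 2, 2], [2, 0, 2, 2, 0, 3, 0, 2, 2, 0, 2, 0, 2, 2],
      [0, 2, 0, 3, 0, 3, 0, 2, 2, 0, 3, 0, 2, 0, 2, 2], [0, 3, 0, 3, 0, 2, 2, 0, 2, 0, 2], [0, 3, 0, 3, 0, 3, 0, 2],
      [2, 0, 2, 0, 3, 0, 3, 0, 2, 0, 2, 0, 3], [0, 3, 0, 3, 0, 2, 0, 2, 2, 0, 2, 0, 2, 2, 0, 2],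
      [0, 2, 0, 2, 2, 0, 2, 0, 2, 2], [0, 3, 0, 2, 0, 2, 0, 3, 0, 3, 0, 3], [0, 2, 2, 0, 2, 0, 2, 2, 0, 2, 0, 2],
      [], [2, 2, 0, 2, 0, 3, 0, 2, 2, 0, 3, 0, 2, 2, 0, 2], [2, 2, 0, 2, 0, 2, 2, 0, 3, 0, 2, 2],
      [3, 0, 2, 0, 2, 0, 3, 0, 3, 0, 2, 0, 3, 0, 3], [3, 0, 2, 2, 0, 2, 0, 2, 0, 3, 0, 3, 0, 2],
      [2, 2, 0, 3, 0, 2, 2, 0, 3, 0, 2, 0, 2, 2], [2, 0, 3], [3, 0, 3, 0, 2, 2, 0, 3, 0, 2, 0, 2, 2],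
      [0, 2, 2, 0, 3, 0, 2, 0, 2, 2], [3, 0, 2, 0, 2, 2, 0, 2, 0, 2, 2], [0, 2, 2, 0, 3, 0, 2, 0, 2, 0, 3],
      [0, 2, 2, 0, 3, 0, 2, 0, 2, 0, 3, 0, 2, 0, 2], [2, 2, 0, 3, 0, 2, 0, 2, 2],
      [2, 2, 0, 3, 0, 2, 0, 2, 0, 3, 0, 2, 0, 2], [0, 3, 0, 2, 0, 2, 2, 0, 2, 0, 2, 2],
      [2, 2, 0, 3, 0, 2, 0, 2, 0, 3], [2, 0, 3, 0, 2, 2, 0, 2, 0, 3, 0, 3, 0, 2],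
      [3, 0, 3, 0, 3, 0, 2, 0, 3, 0, 3, 0, 3], [0, 2, 2, 0, 2, 2], [0, 3, 0, 3, 0, 2, 2, 0, 3, 0, 2, 2, 0, 2],
      [3, 0, 2, 0, 2, 2, 0, 2, 0, 3, 0, 2, 2], [0, 3, 0, 2, 2, 0, 3, 0, 2, 0, 3, 0, 3, 0, 2],
      [2, 2, 0, 3, 0, 3, 0, 2, 0, 2, 0, 3, 0, 2, 0, 2], [3, 0, 3, 0, 2, 2, 0, 2, 0, 2, 2], [0, 2, 2, 0, 3],
      [3, 0, 2, 2, 0, 3, 0, 2, 0, 2, 2], [0, 2, 0, 2, 2, 0, 2], [3, 0, 2, 0, 2, 0, 3],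
      [3, 0, 2, 2, 0, 3, 0, 2, 2, 0, 2], [0, 3, 0, 3, 0, 2, 2, 0, 3], [0, 2, 0, 3, 0, 2, 2, 0, 3, 0, 2, 2],
      [2, 2, 0, 2, 0, 3, 0, 3, 0, 2, 0, 3, 0, 3], [2, 2, 0, 2, 0, 3, 0, 2, 2], [2, 2, 0, 2, 0, 3, 0, 3, 0, 2],
      [0, 3, 0, 2, 0, 3, 0, 2, 0, 2, 2, 0, 2], [2, 2, 0, 2, 2, 0, 3, 0, 2, 2], [0, 2, 0, 3],
      [0, 2, 0, 3, 0, 2, 0, 2, 2, 0, 2, 0, 3, 0, 2, 0, 2], [2, 0, 2, 2, 0, 2, 0, 3, 0, 2, 0, 2, 2], [2, 0, 2, 2],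
      [2, 0, 3, 0, 3, 0, 2, 0, 2, 2, 0, 2, 0, 2], [3, 0, 2, 2, 0, 3, 0, 2, 0, 3, 0, 3, 0, 2],
      [0, 2, 0, 2, 2, 0, 3, 0, 2, 0, 3, 0, 3], [2, 2, 0, 3, 0, 3, 0, 2, 2], [3, 0, 2, 0, 2, 0, 2, 2, 0, 3, 0, 3],
      [3, 0, 3, 0, 2, 0, 2, 2], [3, 0, 2, 0, 2, 2, 0, 3, 0, 2, 0, 3, 0, 3], [3, 0, 2, 0, 2, 0, 2, 2],
      [0, 2, 2, 0, 3, 0, 2, 0, 3, 0, 2, 2], [2, 0, 2, 0, 2, 0, 3, 0, 2, 0, 2, 2],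
      [3, 0, 2, 2, 0, 2, 0, 2, 2, 0, 3, 0, 3], [0, 2, 2], [0, 3, 0, 2, 0, 2, 2, 0, 3, 0, 3],
      [0, 3, 0, 3, 0, 2, 0, 3, 0, 2, 2], [3, 0, 3, 0, 2, 0, 2, 0, 3], [3, 0, 3, 0, 3, 0, 2, 2, 0, 3, 0, 2, 2],
      [2, 2, 0, 2, 0, 2, 2, 0, 2, 0, 3, 0, 2, 0, 2], [3, 0, 3, 0, 3, 0, 2, 0, 3, 0, 2, 2],
      [0, 3, 0, 3, 0, 2, 0, 3, 0, 2, 0, 2, 0, 3], [3, 0, 2, 2, 0, 3, 0, 2, 2, 0, 3, 0, 2, 2],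
      [3, 0, 3, 0, 2, 0, 2, 0, 3, 0, 2, 0, 2], [2, 0, 2, 0, 2, 0, 3, 0, 2, 0, 3, 0, 3, 0, 2],
      [2, 0, 2, 0, 2, 0, 3, 0, 2, 0, 2, 2, 0, 2], [3, 0, 2, 2, 0, 2, 0, 2, 2], [0, 3, 0, 2, 0, 3, 0, 2, 0, 2],
      [2, 2, 0, 3, 0, 3, 0, 2, 2, 0, 2, 0, 2], [0, 2, 2, 0, 2, 0, 2, 0, 3, 0, 2, 0, 2],
      [3, 0, 3, 0, 2, 0, 2, 2, 0, 3, 0, 3], [2, 0, 2, 2, 0, 2, 0, 2], [3, 0, 3, 0, 3, 0, 2, 0, 3, 0, 3, 0, 2],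
      [0, 2, 2, 0, 3, 0, 3], [2, 0, 2, 0, 3, 0, 2, 2, 0, 2, 0, 2], [0, 2, 0, 3, 0, 2, 0, 2],
      [2, 0, 2, 0, 2, 2, 0, 2, 0, 3, 0, 2, 0, 2], [2, 0, 3, 0, 2, 0, 3, 0, 3], [2, 2, 0, 2, 2, 0, 3],
      [3, 0, 2, 0, 2, 0, 3, 0, 3, 0, 2, 0, 2, 0, 3], [2, 2, 0, 3, 0, 3, 0, 2, 0, 3, 0, 2, 0, 2, 0, 3],
      [2, 0, 2, 0, 2, 2, 0, 3], [2, 0, 2, 2, 0, 3, 0, 2, 2, 0, 2], [2, 2, 0, 3, 0, 2, 2],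
      [3, 0, 2, 0, 3, 0, 2, 0, 2, 2, 0, 2], [0, 2, 2, 0, 2, 0, 3, 0, 2, 2, 0, 2], [0, 3, 0, 2, 0, 3, 0, 3, 0, 2, 2],
      [0, 2, 0, 2, 0, 3, 0, 3, 0, 2, 2], [2, 0, 3, 0, 2, 0, 3, 0, 3, 0, 3, 0, 2],
      [0, 2, 0, 2, 0, 3, 0, 2, 0, 2, 0, 3, 0, 3, 0, 2], [0, 2, 0, 2, 0, 2, 2, 0, 2], [0, 2, 0, 2, 0, 2], [3, 0, 3],
      [3, 0, 2, 2, 0, 3], [0, 2, 0, 2, 2, 0, 3, 0, 2, 2, 0, 2], [2, 0, 3, 0, 2, 0, 2, 2, 0, 3],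
      [2, 2, 0, 2, 0, 2, 2, 0, 3], [2, 0, 3, 0, 2, 0, 3, 0, 2, 0, 2, 0, 2], [0, 2, 2, 0, 3, 0, 2, 2, 0, 3, 0, 2, 2],
      [0, 3, 0, 2, 0, 2, 0, 3], [2, 2, 0, 2, 0, 2, 0, 3, 0, 2, 0, 3, 0, 3, 0, 2],
      [3, 0, 2, 2, 0, 2, 0, 3, 0, 2, 0, 2, 2], [2, 0, 3, 0, 2, 0, 3, 0, 3, 0, 2], [0, 3, 0, 2, 0, 3, 0, 2, 2, 0, 2],
      [2, 0, 2, 2, 0, 3, 0, 2, 0, 2, 0, 3, 0, 3, 0, 2], [2, 0, 3, 0, 2, 0, 2, 2, 0, 2],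
      [3, 0, 2, 2, 0, 2, 0, 3, 0, 2, 2, 0, 2], [2, 2, 0, 2, 0, 3, 0, 2, 0, 2, 2, 0, 2],
      [2, 0, 2, 0, 3, 0, 2, 0, 2, 2], [3, 0, 3, 0, 2, 2, 0, 2, 0, 3, 0, 3, 0, 2],
      [0, 2, 0, 3, 0, 3, 0, 2, 2, 0, 2, 0, 2], [0, 3, 0, 3, 0, 2, 0, 3, 0, 2, 0, 2, 2, 0, 2],
      [3, 0, 2, 0, 2, 0, 3, 0, 3, 0, 2], [2, 0, 3, 0, 2, 2, 0, 3, 0, 2, 0, 2, 2], [2, 0, 2, 0, 2, 0, 3, 0, 2, 0, 2],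
      [2, 0, 3, 0, 3, 0, 2, 0, 2, 2, 0, 3, 0, 2, 2], [3, 0, 2, 2, 0, 2, 0, 3, 0, 2, 2],
      [0, 3, 0, 2, 0, 2, 0, 3, 0, 3, 0, 2, 0, 3, 0, 3], [2, 0, 3, 0, 2, 2, 0, 3, 0, 3, 0, 2, 2],
      [3, 0, 2, 0, 3, 0, 3, 0, 2, 0, 2, 0, 3], [3, 0, 2, 0, 3, 0, 3, 0, 2, 0, 3, 0, 2, 2, 0, 2],
      [0, 2, 0, 2, 0, 3, 0, 2, 2, 0, 2], [0, 2, 0, 2, 2, 0, 3, 0, 3, 0, 2, 2], [2, 0, 3, 0, 3, 0, 2, 0, 2, 0, 2, 2],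
      [3, 0, 2, 0, 3, 0, 2, 2, 0, 3, 0, 2, 2, 0, 2], [2], [2, 0, 2, 2, 0, 2, 0, 3, 0, 2, 2, 0, 2],
      [2, 2, 0, 3, 0, 2, 0, 3, 0, 2, 2, 0, 2], [2, 0, 2, 0, 3, 0, 2, 2, 0, 2],
      [3, 0, 2, 0, 2, 0, 3, 0, 2, 0, 2, 2, 0, 3], [0, 2, 0, 2, 0, 2, 2, 0, 3, 0, 3],
      [3, 0, 3, 0, 3, 0, 2, 2, 0, 2, 0, 2], [3, 0, 3, 0, 3, 0, 2, 2], [0, 2, 0, 2, 0, 2, 2],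
      [2, 0, 3, 0, 3, 0, 2, 2], [2, 0, 3, 0, 3, 0, 3, 0, 2, 0, 3, 0, 3], [2, 0, 3, 0, 3, 0, 2, 2, 0, 2, 0, 2],
      [2, 0, 3, 0, 3, 0, 3, 0, 2], [0, 2, 2, 0, 3, 0, 2, 0, 2], [2, 2, 0, 2, 2, 0, 2, 0, 2, 2, 0, 3],
      [2, 0, 3, 0, 2, 2, 0, 3], [2, 2, 0, 3, 0, 3, 0, 2], [3, 0, 2, 0, 2, 0, 3, 0, 2, 0, 3, 0, 3, 0, 2],
      [0, 3, 0, 2, 2, 0, 2], [3, 0, 2, 2, 0, 2], [2, 2, 0, 3, 0, 3, 0, 2, 0, 2, 0, 3, 0, 3, 0, 2],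
      [2, 0, 2, 0, 2, 0, 3, 0, 3, 0, 3], [2, 2, 0, 3, 0, 2, 2, 0, 2, 0, 2], [2, 2, 0, 3], [3],
      [2, 2, 0, 3, 0, 2, 0, 2], [3, 0, 3, 0, 3], [0, 3, 0, 2, 0, 2, 2, 0, 3], [0, 2, 2, 0, 3, 0, 2, 0, 2, 2, 0, 3],
      [3, 0, 2, 0, 3, 0, 2, 0, 2, 2, 0, 3], [0, 2, 0, 2, 0, 2, 2, 0, 3, 0, 2, 2, 0, 2],
      [0, 3, 0, 2, 2, 0, 3, 0, 2, 2, 0, 2], [2, 0, 2, 0, 2], [2, 2, 0, 2, 0, 2, 0, 3, 0, 3, 0, 2],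
      [3, 0, 3, 0, 2, 0, 2, 2, 0, 3, 0, 2, 2], [3, 0, 2, 2, 0, 2, 0, 2],
      [2, 2, 0, 3, 0, 2, 0, 2, 0, 2, 2, 0, 3, 0, 3], [2, 0, 2, 0, 2, 0, 3, 0, 3, 0, 2, 2],
      [2, 0, 3, 0, 3, 0, 2, 0, 3, 0, 3], [2, 0, 2, 2, 0, 3, 0, 2, 0, 2, 0, 3, 0, 3, 0, 3],
      [2, 0, 2, 2, 0, 2, 0, 2, 2, 0, 2], [3, 0, 3, 0, 2, 0, 3, 0, 3], [3, 0, 2, 2, 0, 3, 0, 2, 0, 2, 0, 3],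
      [0, 3, 0, 3, 0, 3, 0, 2, 0, 3, 0, 2, 2], [2, 2, 0, 2, 2, 0, 2, 0, 2, 0, 3, 0, 3, 0, 2],
      [2, 2, 0, 2, 0, 3, 0, 2, 0, 2, 2], [0, 2, 0, 2, 0, 3, 0, 3, 0, 2, 0, 3, 0, 3],
      [2, 2, 0, 2, 0, 2, 0, 3, 0, 3, 0, 3, 0, 2], [3, 0, 2, 2, 0, 2, 0, 2, 2, 0, 2, 0, 2],
      [3, 0, 2, 2, 0, 3, 0, 2, 2, 0, 2, 0, 2, 2], [0, 2, 0, 2, 2, 0, 3, 0, 3], [2, 2, 0, 2, 2, 0, 2, 0, 2, 2],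
      [0, 2, 0, 2, 0, 3, 0, 2, 0, 2, 2], [0, 2, 2, 0, 2, 0, 2], [0, 3, 0, 3, 0, 3, 0, 2, 0, 2, 0, 2, 2],
      [2, 2, 0, 2, 0, 3, 0, 2, 2, 0, 3, 0, 3], [0, 2, 0, 2, 2, 0, 3, 0, 2, 2, 0, 3],
      [2, 0, 3, 0, 3, 0, 3, 0, 2, 0, 3, 0, 2, 2], [3, 0, 2, 0, 2, 0, 3, 0, 2, 0, 2],
      [2, 0, 3, 0, 3, 0, 2, 0, 3, 0, 2, 2, 0, 2], [0, 3, 0, 2, 0, 2, 0, 2, 2], [2, 0, 3, 0, 2, 0, 2, 2, 0, 2, 0, 2],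
      [2, 0, 2, 2, 0, 3], [2, 2, 0, 2, 0, 3, 0, 2, 2, 0, 2], [2, 2, 0, 3, 0, 2, 0, 3, 0, 2, 2],
      [2, 0, 2, 2, 0, 2, 0, 3, 0, 3, 0, 2], [2, 2, 0, 3, 0, 2, 2, 0, 3, 0, 2, 2], [2, 0, 2, 2, 0, 2, 0, 3, 0, 2, 2],
      [2, 0, 2, 2, 0, 2, 0, 3, 0, 3, 0, 2, 0, 3, 0, 3], [3, 0, 2, 0, 3, 0, 3, 0, 2], [3, 0, 2, 0, 3, 0, 2, 2],
      [3, 0, 2, 0, 3, 0, 2, 2, 0, 2, 0, 2], [3, 0, 2, 0, 3, 0, 3, 0, 2, 0, 3, 0, 3], [2, 2, 0, 2, 2],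
      [2, 0, 2, 0, 3], [2, 2, 0, 2, 2, 0, 2, 0, 2], [2, 2, 0, 3, 0, 2, 0, 3, 0, 3], [3, 0, 3, 0, 2, 2],
      [2, 2, 0, 2, 2, 0, 3, 0, 2, 2, 0, 2], [0, 2, 2, 0, 3, 0, 3, 0, 2, 2], [2, 2, 0, 2, 0, 2, 2, 0, 2],
      [3, 0, 3, 0, 2, 0, 2, 2, 0, 3], [3, 0, 2, 0, 3, 0, 2, 0, 2, 2], [0, 3, 0, 3, 0, 2, 0, 2, 0, 3, 0, 2, 0, 2],
      [3, 0, 3, 0, 2, 0, 2, 0, 2], [2, 0, 2, 2, 0, 3, 0, 3, 0, 2, 0, 2, 0, 3], [2, 2, 0, 2, 0, 3, 0, 2, 0, 2, 0, 2],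
      [3, 0, 2, 0, 2, 2, 0, 3, 0, 2, 0, 2, 0, 3], [0, 2, 0, 3, 0, 2, 0, 2, 2, 0, 3],
      [0, 3, 0, 2, 2, 0, 2, 0, 2, 2, 0, 2], [3, 0, 3, 0, 2, 0, 2, 2, 0, 2], [2, 2, 0, 3, 0, 2, 0, 2, 0, 2, 2],
      [2, 2, 0, 2, 0, 2, 2, 0, 3, 0, 2, 2, 0, 3], [0, 2, 0, 3, 0, 2, 0, 3, 0, 3, 0, 2],
      [2, 0, 3, 0, 2, 0, 2, 2, 0, 3, 0, 3], [3, 0, 2, 0, 2, 0, 3, 0, 2, 0, 2, 0, 3],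
      [2, 0, 3, 0, 2, 0, 3, 0, 2, 0, 2], [2, 2, 0, 2, 0, 3, 0, 3, 0, 2, 0, 2, 0, 2],
      [0, 2, 0, 2, 0, 2, 2, 0, 2, 0, 3, 0, 3, 0, 2], [2, 2, 0, 2, 0, 2, 2, 0, 2, 0, 2, 2],
      [0, 2, 0, 2, 0, 2, 2, 0, 2, 0, 3, 0, 2, 2], [2, 2, 0, 2, 0, 2, 2, 0, 3, 0, 2, 0, 3, 0, 3],
      [0, 3, 0, 3, 0, 2, 0, 2, 2, 0, 2, 0, 2], [0, 3, 0, 2, 0, 3, 0, 3], [2, 0, 2, 0, 3, 0, 3, 0, 2, 0, 3, 0, 3],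
      [3, 0, 3, 0, 2, 0, 2, 0, 3, 0, 3, 0, 2], [0, 3, 0, 2, 0, 2, 0, 3, 0, 2, 0, 2, 2, 0, 3],
      [0, 3, 0, 2, 2, 0, 2, 0, 2, 0, 3, 0, 3, 0, 2], [0, 2, 0, 3, 0, 3, 0, 2, 0, 2, 0, 2],
      [2, 0, 3, 0, 2, 0, 2, 2, 0, 2, 0, 3, 0, 2, 0, 2], [0, 2, 0, 2, 2, 0, 3, 0, 2, 2], [0, 2, 0, 3, 0, 3, 0, 2, 2],
      [2, 0, 2, 0, 3, 0, 2, 0, 2, 2, 0, 2], [2, 0, 2, 0, 2, 0, 3, 0, 3, 0, 2], [2, 0, 2, 2, 0, 3, 0, 2, 0, 2],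
      [0, 2, 0, 2, 2, 0, 2, 0, 3, 0, 3, 0, 2], [3, 0, 2, 0, 2], [0, 3, 0, 2, 0, 3, 0, 3, 0, 2],
      [3, 0, 3, 0, 2, 0, 3, 0, 2, 2, 0, 2], [2, 0, 2, 0, 3, 0, 3, 0, 2, 2], [0, 2, 2, 0, 2],
      [0, 2, 0, 3, 0, 2, 2, 0, 3, 0, 3], [0, 2, 0, 2, 0, 3, 0, 2, 0, 2, 2, 0, 3],
      [2, 0, 2, 2, 0, 2, 0, 2, 0, 3, 0, 3, 0, 2], [0, 3, 0, 2, 0, 3, 0, 3, 0, 3],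
      [3, 0, 3, 0, 2, 2, 0, 2, 0, 2, 2, 0, 2], [3, 0, 2, 0, 3, 0, 3, 0, 2, 2],
      [2, 2, 0, 2, 0, 2, 2, 0, 2, 0, 3, 0, 2, 2], [0, 2], [3, 0, 3, 0, 2, 2, 0, 3],
      [2, 0, 2, 0, 3, 0, 3, 0, 3, 0, 2], [3, 0, 2, 2, 0, 2, 0, 2, 2, 0, 3], [2, 2, 0, 2, 0, 2, 2],
      [3, 0, 2, 0, 3, 0, 2, 0, 2], [0, 3, 0, 2], [3, 0, 2, 2, 0, 3, 0, 3], [3, 0, 2, 2], [0, 2, 0, 3, 0, 2, 2],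
      [2, 2, 0, 3, 0, 2, 2, 0, 2], [2, 0, 2, 2, 0, 2], [2, 2, 0, 2, 2, 0, 2, 0, 3, 0, 2, 2],
      [0, 3, 0, 3, 0, 2, 0, 2, 2, 0, 2], [0, 2, 0, 3, 0, 2, 0, 3, 0, 3, 0, 3, 0, 2], [0, 2, 0, 2, 0, 3, 0, 2, 0, 2],
      [0, 3, 0, 3, 0, 2, 0, 2, 0, 2, 2], [3, 0, 2, 0, 3, 0, 3, 0, 2, 2, 0, 2, 0, 2], [0, 2, 2, 0, 3, 0, 3, 0, 2],
      [2, 0, 3, 0, 3, 0, 2, 0, 2, 0, 3, 0, 2, 0, 2], [3, 0, 3, 0, 2, 0, 3, 0, 2, 2],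
      [0, 3, 0, 3, 0, 2, 2, 0, 2, 0, 2, 2], [3, 0, 2, 2, 0, 3, 0, 3, 0, 2, 0, 2, 0, 3],
      [2, 0, 3, 0, 2, 0, 2, 2, 0, 3, 0, 2, 2], [0, 2, 0, 2, 2], [2, 0, 2, 0, 2, 0, 3, 0, 2, 0, 2, 2, 0, 3],
      [2, 0, 3, 0, 2, 0, 2, 0, 2], [3, 0, 2, 0, 3, 0, 3, 0, 3, 0, 2], [3, 0, 2, 0, 2, 2, 0, 3, 0, 2, 2, 0, 3],
      [0, 2, 0, 3, 0, 2, 0, 2, 0, 2], [2, 0, 2, 0, 3, 0, 3], [3, 0, 2, 0, 2, 2, 0, 3, 0, 3],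
      [0, 3, 0, 3, 0, 2, 0, 2, 0, 2], [0, 2, 2, 0, 3, 0, 2, 2, 0, 2, 0, 2], [3, 0, 2, 0, 3, 0, 2, 2, 0, 3, 0, 3],
      [3, 0, 2, 0, 2, 2, 0, 3], [2, 0, 3, 0, 2, 0, 2, 2], [2, 0, 2, 0, 3, 0, 3, 0, 2, 2, 0, 2, 0, 2],
      [0, 2, 0, 2, 0, 3, 0, 2, 0, 2, 0, 3], [2, 2, 0, 2, 0, 2, 0, 3, 0, 2, 0, 2],
      [3, 0, 2, 0, 3, 0, 3, 0, 2, 0, 2, 0, 2], [0, 3, 0, 2, 0, 3, 0, 2, 2],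
      [0, 3, 0, 3, 0, 2, 2, 0, 2, 0, 2, 2, 0, 2], [2, 0, 3, 0, 2, 0, 2, 0, 2, 2, 0, 3, 0, 3],
      [2, 2, 0, 2, 0, 2, 2, 0, 3, 0, 2, 0, 2, 0, 3], [0, 2, 2, 0, 3, 0, 2, 2, 0, 2],
      [2, 2, 0, 2, 0, 3, 0, 3, 0, 2, 2], [0, 3, 0, 2, 2, 0, 2, 0, 2, 2, 0, 3], [3, 0, 2, 0, 2, 2, 0, 2],
      [0, 2, 0, 3, 0, 2, 0, 2, 0, 3, 0, 3, 0, 2], [2, 2, 0, 2, 2, 0, 2, 0, 2, 2, 0, 2],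
      [2, 0, 2, 2, 0, 3, 0, 2, 0, 3, 0, 3], [0, 2, 2, 0, 2, 0, 2, 2, 0, 2],
      [0, 3, 0, 2, 0, 3, 0, 3, 0, 2, 0, 3, 0, 3], [2, 0, 3, 0, 2, 2, 0, 3, 0, 3],
      [0, 2, 2, 0, 2, 0, 3, 0, 3, 0, 2, 0, 2, 0, 2], [2, 2, 0, 2, 0, 3, 0, 2, 0, 2],
      [0, 2, 2, 0, 3, 0, 2, 0, 2, 0, 2, 2], [0, 2, 2, 0, 3, 0, 2, 2, 0, 3], [0, 3, 0, 2, 2, 0, 3, 0, 2, 0, 2, 2],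
      [2, 0, 3, 0, 2, 0, 3, 0, 2, 2], [3, 0, 2, 0, 2, 2, 0, 2, 0, 3, 0, 3, 0, 2],
      [2, 2, 0, 2, 0, 3, 0, 2, 0, 2, 0, 3], [2, 0, 2, 0, 2, 2, 0, 2], [3, 0, 2, 2, 0, 3, 0, 3, 0, 2, 2],
      [3, 0, 3, 0, 3, 0, 2, 0, 3, 0, 2, 2, 0, 2], [0, 2, 0, 2, 0, 2, 2, 0, 3, 0, 2, 2], [2, 0, 3, 0, 3, 0, 2],
      [0, 3, 0, 2, 0, 2, 2, 0, 3, 0, 2, 2], [2, 0, 2, 0, 2, 2, 0, 3, 0, 2, 2], [3, 0, 3, 0, 2, 0, 2],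
      [2, 2, 0, 2, 2, 0, 3, 0, 2, 0, 2, 2], [0, 2, 0, 2, 0, 3, 0, 3, 0, 3, 0, 2],
      [0, 2, 2, 0, 2, 0, 2, 2, 0, 2, 0, 3, 0, 3, 0, 2], [2, 2, 0, 3, 0, 2, 0, 2, 0, 3, 0, 3, 0, 2],
      [0, 2, 0, 3, 0, 2, 0, 2, 2, 0, 3, 0, 3], [0, 3, 0, 2, 0, 3, 0, 2, 0, 2, 0, 2],
      [2, 0, 2, 0, 3, 0, 2, 0, 2, 0, 2], [0, 2, 2, 0, 3, 0, 3, 0, 2, 0, 2, 0, 3], [2, 2, 0, 2, 2, 0, 2],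
      [2, 2, 0, 2], [2, 0, 3, 0, 3, 0, 2, 2, 0, 3], [2, 0, 3, 0, 3, 0, 3], [3, 0, 3, 0, 2, 2, 0, 2],
      [0, 2, 0, 3, 0, 2, 0, 3, 0, 3, 0, 3], [0, 2, 0, 2, 0, 3, 0, 2, 0, 2, 0, 2], [0, 2, 0, 3, 0, 2, 2, 0, 2],
      [0, 3, 0, 2, 0, 3, 0, 2, 2, 0, 2, 0, 2], [2, 0, 3, 0, 3, 0, 2, 0, 2, 0, 3, 0, 3, 0, 2],
      [3, 0, 2, 2, 0, 3, 0, 2, 2, 0, 3, 0, 2, 0, 2, 2], [0, 2, 2, 0, 2, 0, 3, 0, 3, 0, 2, 2],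
      [3, 0, 3, 0, 3, 0, 2, 0, 3, 0, 3], [2, 2, 0, 3, 0, 2, 0, 2, 0, 3, 0, 3, 0, 3],
      [0, 3, 0, 2, 0, 2, 0, 2, 2, 0, 3, 0, 3], [2, 0, 3, 0, 3, 0, 2, 0, 3, 0, 3, 0, 2],
      [0, 2, 0, 2, 2, 0, 2, 0, 2, 2, 0, 2], [3, 0, 3, 0, 2, 2, 0, 3, 0, 2, 2, 0, 2], [0, 3, 0, 3],
      [3, 0, 3, 0, 3, 0, 2, 0, 2, 0, 3], [3, 0, 2, 0, 3, 0, 2, 2, 0, 2], [0, 3], [3, 0, 2, 0, 3, 0, 2, 0, 2, 0, 2],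
      [2, 0, 2, 0, 3, 0, 3, 0, 3], [3, 0, 3, 0, 2, 2, 0, 2, 0, 2], [0, 2, 0, 3, 0, 3, 0, 2, 0, 2, 2, 0, 3, 0, 2, 2],
      [3, 0, 2, 2, 0, 2, 0, 2, 2, 0, 3, 0, 2, 2], [3, 0, 3, 0, 3, 0, 2, 0, 2, 0, 3, 0, 3, 0, 2],
      [0, 2, 0, 2, 0, 3, 0, 3, 0, 3], [2, 2, 0, 2, 0, 3, 0, 3, 0, 2, 2, 0, 2, 0, 2],
      [3, 0, 2, 0, 2, 2, 0, 3, 0, 2, 2], [0, 3, 0, 2, 2, 0, 3, 0, 2, 2, 0, 3],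
      [2, 2, 0, 2, 0, 3, 0, 2, 0, 2, 2, 0, 3], [2, 0, 2, 0, 3, 0, 2, 0, 2, 0, 3],
      [2, 0, 2, 0, 2, 2, 0, 2, 0, 3, 0, 3, 0, 2], [0, 2, 0, 2], [2, 2, 0, 2, 0, 3, 0, 3, 0, 2, 0, 2, 0, 3],
      [0, 2, 2, 0, 2, 0, 3, 0, 3, 0, 2, 2, 0, 2, 0, 2], [0, 3, 0, 2, 0, 3, 0, 3, 0, 2, 2, 0, 2, 0, 2],
      [2, 0, 3, 0, 2, 0, 2, 0, 3, 0, 3, 0, 3], [0, 3, 0, 2, 2, 0, 2, 0, 3, 0, 2, 0, 2, 2],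
      [2, 0, 3, 0, 2, 2, 0, 3, 0, 2, 2, 0, 2], [2, 0, 3, 0, 2, 0, 2, 0, 3, 0, 2, 0, 2],
      [0, 3, 0, 2, 0, 2, 2, 0, 2, 0, 2], [3, 0, 2, 2, 0, 3, 0, 2, 0, 2, 0, 3, 0, 2, 0, 2],
      [0, 2, 0, 2, 0, 2, 2, 0, 2, 0, 2], [3, 0, 3, 0, 2, 0, 2, 2, 0, 2, 0, 2, 2, 0, 2],
      [0, 3, 0, 2, 0, 3, 0, 2, 0, 2, 2], [0, 3, 0, 2, 0, 3, 0, 2, 0, 2, 2, 0, 3],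
      [0, 2, 0, 3, 0, 2, 0, 3, 0, 3, 0, 2, 0, 2, 0, 2], [2, 0, 2, 0, 2, 0, 3, 0, 3, 0, 3, 0, 2],
      [2, 0, 2, 2, 0, 2, 0, 3, 0, 2, 0, 2], [0, 3, 0, 2, 2, 0, 3, 0, 3], [2, 0, 2, 0, 3, 0, 2, 0, 3, 0, 3, 0, 2],
      [2, 0, 2, 2, 0, 3, 0, 2, 2], [2, 0, 2, 0, 3, 0, 2, 2], [2, 0, 2, 2, 0, 2, 0, 3, 0, 2, 0, 2, 0, 3],
      [0, 2, 0, 2, 2, 0, 2, 0, 3, 0, 2, 0, 2], [0, 3, 0, 2, 2, 0, 2, 0, 2, 2], [2, 2, 0, 2, 0, 3, 0, 3],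
      [3, 0, 2, 0, 2, 0, 3, 0, 2, 0, 2, 2], [3, 0, 3, 0, 2, 0, 3, 0, 2, 0, 2, 0, 3],
      [2, 0, 3, 0, 3, 0, 2, 0, 3, 0, 2, 0, 2, 0, 3], [0, 2, 2, 0, 2, 0, 2, 2, 0, 3, 0, 3],
      [2, 0, 3, 0, 3, 0, 2, 2, 0, 2, 0, 2, 2], [0, 3, 0, 3, 0, 2, 2, 0, 2, 0, 2, 2, 0, 3],
      [3, 0, 3, 0, 3, 0, 2, 2, 0, 3, 0, 2, 0, 2, 0, 3], [2, 2, 0, 2, 2, 0, 3, 0, 2, 2, 0, 2, 0, 2, 2],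
      [2, 2, 0, 2, 0, 2, 2, 0, 3, 0, 3], [2, 2, 0, 2, 0, 2, 0, 3, 0, 3, 0, 2, 0, 2, 0, 3],
      [3, 0, 3, 0, 3, 0, 2, 0, 2, 0, 2, 2], [0, 2, 0, 2, 0, 3, 0, 2, 2, 0, 2, 0, 2],
      [0, 2, 0, 2, 2, 0, 2, 0, 2, 2, 0, 2, 0, 2, 2], [2, 0, 3, 0, 2, 2, 0, 2, 0, 2],
      [2, 0, 2, 0, 3, 0, 2, 0, 2, 2, 0, 3], [0, 2, 0, 3, 0, 2, 0, 2, 0, 3], [3, 0, 3, 0, 3, 0, 2, 2, 0, 2, 0, 2, 2],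
      [3, 0, 3, 0, 2, 0, 2, 2, 0, 2, 0, 2], [2, 2, 0, 3, 0, 3, 0, 2, 0, 3, 0, 3],
      [2, 0, 3, 0, 2, 2, 0, 2, 0, 2, 2, 0, 2], [2, 2, 0, 3, 0, 2, 2, 0, 2, 0, 2, 2],
      [2, 0, 3, 0, 3, 0, 2, 0, 2, 0, 2], [2, 0, 2, 0, 2, 2, 0, 2, 0, 2, 2, 0, 2],
      [3, 0, 3, 0, 2, 0, 2, 0, 2, 2, 0, 3, 0, 3], [0, 2, 0, 2, 0, 3], [3, 0, 2, 0, 2, 2, 0, 2, 0, 2, 2, 0, 2],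
      [2, 2, 0, 2, 0, 2], [2, 2], [3, 0, 2, 0, 3, 0, 3], [3, 0, 2], [2, 0, 2, 0, 2, 2, 0, 3, 0, 2, 2, 0, 2],
      [2, 2, 0, 3, 0, 2, 2, 0, 3], [2, 0, 2, 2, 0, 2, 0, 2, 2, 0, 3], [3, 0, 3, 0, 2, 0, 2, 0, 2, 2],
      [2, 0, 3, 0, 3, 0, 2, 2, 0, 3, 0, 2, 0, 2, 2], [3, 0, 3, 0, 2, 0, 2, 0, 3, 0, 3, 0, 3],
      [3, 0, 3, 0, 2, 2, 0, 3, 0, 2, 2], [0, 2, 0, 2, 0, 3, 0, 2, 2, 0, 3, 0, 2, 2, 0, 2],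
      [0, 2, 2, 0, 2, 0, 2, 2, 0, 3], [3, 0, 2, 0, 2, 2], [0, 3, 0, 2, 0, 2], [2, 2, 0, 2, 2, 0, 3, 0, 3, 0, 2, 2],
      [2, 0, 3, 0, 2, 0, 3, 0, 3, 0, 3], [2, 2, 0, 3, 0, 2, 2, 0, 2, 0, 2, 2, 0, 2],
      [0, 3, 0, 3, 0, 2, 0, 3, 0, 2, 2, 0, 2], [2, 0, 3, 0, 2, 2], [0, 2, 0, 3, 0, 3, 0, 3],
      [0, 2, 0, 3, 0, 2, 2, 0, 2, 0, 2, 2], [0, 2, 0, 2, 0, 2, 2, 0, 2, 0, 2, 2],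
      [0, 2, 2, 0, 2, 0, 3, 0, 2, 0, 2, 0, 2], [2, 0, 3, 0, 2, 0, 3, 0, 2, 2, 0, 2],
      [2, 2, 0, 3, 0, 2, 2, 0, 2, 0, 3, 0, 3, 0, 2], [2, 0, 2, 0, 2, 2, 0, 3, 0, 2, 2, 0, 3],
      [0, 3, 0, 2, 0, 2, 2, 0, 2], [0, 3, 0, 3, 0, 2, 0, 2, 0, 3], [0, 2, 2, 0, 2, 0, 3, 0, 3],
      [0, 2, 0, 2, 2, 0, 3, 0, 2, 0, 2, 0, 3], [3, 0, 3, 0, 2, 2, 0, 2, 0, 2, 2, 0, 3],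
      [0, 3, 0, 2, 0, 2, 0, 3, 0, 2, 0, 2], [3, 0, 2, 0, 2, 2, 0, 2, 0, 3, 0, 2, 0, 2], [2, 0, 2, 0, 3, 0, 2, 0, 2],
      [0, 3, 0, 3, 0, 2, 0, 3, 0, 3, 0, 2], [2, 0, 2, 0, 2, 0, 3, 0, 3, 0, 2, 0, 3, 0, 3],
      [2, 2, 0, 2, 0, 3, 0, 3, 0, 3], [3, 0, 2, 2, 0, 2, 0, 2, 2, 0, 2],
      [0, 2, 0, 3, 0, 2, 0, 2, 0, 2, 2, 0, 3, 0, 3], [0, 2, 0, 3, 0, 2, 0, 2, 0, 3, 0, 2, 0, 2],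
      [2, 0, 3, 0, 2, 0, 2, 0, 3], [2, 0, 2, 2, 0, 2, 0, 2, 2], [0, 3, 0, 2, 0, 3, 0, 3, 0, 2, 0, 2, 0, 3],
      [2, 2, 0, 3, 0, 2, 2, 0, 3, 0, 3], [0, 3, 0, 3, 0, 3, 0, 2, 0, 2, 0, 3, 0, 3, 0, 2],
      [0, 2, 2, 0, 2, 0, 3, 0, 2, 0, 2], [2, 0, 2, 2, 0, 3, 0, 2, 2, 0, 3], [0, 3, 0, 3, 0, 3],
      [0, 2, 2, 0, 2, 0, 3, 0, 2, 0, 2, 0, 3], [2, 0, 3, 0, 2, 0, 3, 0, 3, 0, 2, 0, 2, 0, 3],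
      [3, 0, 2, 2, 0, 3, 0, 2, 2, 0, 3], [3, 0, 3, 0, 3, 0, 2, 0, 3, 0, 2, 0, 2, 0, 3],
      [0, 2, 2, 0, 2, 0, 3, 0, 2, 0, 2, 2], [2, 0, 2, 2, 0, 2, 0, 2, 2, 0, 2, 0, 2, 2], [2, 0, 2, 0, 3, 0, 3, 0, 2],
      [0, 2, 0, 2, 2, 0, 2, 0, 2], [0, 2, 0, 3, 0, 3, 0, 2, 0, 3, 0, 3, 0, 2], [3, 0, 2, 0, 2, 0, 3, 0, 3, 0, 3],
      [3, 0, 3, 0, 2, 2, 0, 2, 0, 2, 0, 3, 0, 3, 0, 2], [3, 0, 3, 0, 3, 0, 2], [2, 0, 3, 0, 2, 0, 2],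
      [0, 2, 0, 2, 2, 0, 3], [3, 0, 3, 0, 3, 0, 2, 0, 2, 0, 2], [2, 2, 0, 3, 0, 3],
      [0, 3, 0, 2, 0, 3, 0, 3, 0, 2, 0, 2, 0, 2], [2, 2, 0, 3, 0, 2, 0, 2, 2, 0, 3], [2, 0, 2],
      [2, 2, 0, 3, 0, 2, 0, 3, 0, 3, 0, 3], [0, 3, 0, 2, 0, 2, 0, 2], [2, 0, 2, 2, 0, 3, 0, 2, 2, 0, 2, 0, 2],
      [3, 0, 3, 0, 2, 0, 3, 0, 2, 0, 2, 2, 0, 2], [2, 2, 0, 3, 0, 3, 0, 2, 0, 3, 0, 2, 2],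
      [0, 2, 0, 2, 0, 3, 0, 2, 0, 3, 0, 3, 0, 2], [0, 2, 0, 2, 0, 2, 2, 0, 3, 0, 2, 2, 0, 3],
      [0, 2, 0, 3, 0, 2, 0, 2, 0, 2, 2], [3, 0, 2, 2, 0, 3, 0, 2, 2], [2, 0, 2, 2, 0, 3, 0, 3],
      [0, 3, 0, 3, 0, 2, 2, 0, 3, 0, 2, 2], [2, 0, 3, 0, 3, 0, 2, 0, 3, 0, 2, 2],
      [0, 3, 0, 2, 0, 2, 0, 3, 0, 2, 0, 2, 0, 3], [0, 2, 0, 3, 0, 3, 0, 2], [2, 2, 0, 2, 2, 0, 3, 0, 2, 2, 0, 3],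
      [2, 0, 3, 0, 2, 0, 3, 0, 3, 0, 2, 2, 0, 2, 0, 2], [2, 0, 2, 0, 2, 2, 0, 3, 0, 2, 0, 2, 0, 3],
      [0, 2, 0, 3, 0, 3, 0, 3, 0, 2], [0, 2, 0, 2, 0, 3, 0, 3, 0, 2], [0, 3, 0, 2, 2],
      [0, 2, 2, 0, 2, 0, 2, 2, 0, 2, 0, 2, 2], [3, 0, 2, 0, 2, 0, 2], [3, 0, 3, 0, 3, 0, 2, 0, 2, 0, 3, 0, 2, 0, 2],
      [2, 2, 0, 3, 0, 2, 0, 2, 0, 2], [0, 3, 0, 2, 2, 0, 3], [2, 2, 0, 2, 0, 3, 0, 3, 0, 3, 0, 2],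
      [3, 0, 2, 0, 3, 0, 3, 0, 3], [2, 2, 0, 2, 0, 2, 0, 3, 0, 3, 0, 2, 0, 3, 0, 3], [2, 2, 0, 2, 0, 2, 0, 3],
      [2, 0, 3, 0, 2, 2, 0, 2], [0, 2, 0, 3, 0, 3], [0, 3, 0, 3, 0, 2, 2, 0, 3, 0, 3], [0, 2, 2, 0, 2, 0, 2, 2],
      [0, 3, 0, 2, 0, 2, 2], [0, 2, 2, 0, 3, 0, 2, 0, 3, 0, 3, 0, 2], [2, 0, 2, 0, 2, 2, 0, 3, 0, 2, 0, 3, 0, 3],
      [0, 3, 0, 2, 0, 2, 2, 0, 2, 0, 3, 0, 2, 0, 2], [0, 2, 0, 2, 2, 0, 2, 0, 2, 2, 0, 3],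
      [0, 2, 2, 0, 2, 0, 3, 0, 3, 0, 2, 0, 2, 0, 3], [0, 2, 0, 3, 0, 2, 2, 0, 3], [0, 3, 0, 3, 0, 2, 0, 3, 0, 3],
      [0, 2, 0, 2, 2, 0, 2, 0, 3, 0, 2, 2], [0, 3, 0, 2, 0, 2, 2, 0, 2, 0, 2, 2, 0, 2],
      [2, 2, 0, 3, 0, 3, 0, 2, 0, 2, 0, 3], [3, 0, 2, 2, 0, 3, 0, 2, 0, 2, 0, 3, 0, 3, 0, 2],
      [3, 0, 2, 0, 2, 0, 2, 2, 0, 3, 0, 2, 2], [2, 0, 2, 0, 2, 0, 3], [2, 0, 2, 0, 3, 0, 2, 2, 0, 3, 0, 2, 2, 0, 2],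
      [2, 2, 0, 2, 0, 2, 2, 0, 2, 0, 3, 0, 3, 0, 2], [3, 0, 2, 2, 0, 2, 0, 3, 0, 3],
      [0, 3, 0, 3, 0, 2, 0, 3, 0, 3, 0, 3], [3, 0, 2, 0, 3, 0, 2, 0, 2, 0, 3],
      [2, 0, 2, 0, 2, 0, 3, 0, 2, 0, 2, 0, 2], [3, 0, 2, 0, 2, 0, 2, 2, 0, 2], [2, 2, 0, 3, 0, 2, 0, 3, 0, 3, 0, 2],
      [3, 0, 3, 0, 2, 2, 0, 3, 0, 2, 0, 2, 0, 3], [2, 0, 2, 0, 2, 2, 0, 2, 0, 3, 0, 2, 2],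
      [0, 2, 0, 3, 0, 2, 0, 2, 2], [3, 0, 3, 0, 2, 0, 3, 0, 3, 0, 2], [2, 0, 3, 0, 2, 0, 3, 0, 3, 0, 2, 0, 2, 0, 2],
      [2, 0, 2, 2, 0, 2, 0, 3, 0, 3, 0, 2, 0, 2, 0, 2], [3, 0, 3, 0, 2, 2, 0, 3, 0, 3],
      [0, 3, 0, 3, 0, 2, 2, 0, 3, 0, 2, 0, 2, 2], [3, 0, 3, 0, 3, 0, 2, 2, 0, 2, 0, 2, 2, 0, 2],
      [0, 2, 0, 3, 0, 2, 0, 2, 2, 0, 2], [2, 0, 3, 0, 2, 0, 2, 0, 2, 2], [2, 0, 3, 0, 2, 2, 0, 2, 0, 2, 2],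
      [3, 0, 3, 0, 2, 2, 0, 2, 0, 3, 0, 2, 0, 2, 2], [0, 2, 2, 0, 3, 0, 2, 2],
      [2, 0, 2, 0, 3, 0, 2, 0, 2, 0, 3, 0, 3, 0, 2], [3, 0, 2, 0, 2, 2, 0, 2, 0, 2],
      [0, 3, 0, 3, 0, 2, 2, 0, 3, 0, 2, 0, 2, 0, 3], [2, 0, 3, 0, 3, 0, 2, 0, 2, 0, 3],
      [2, 0, 2, 2, 0, 3, 0, 3, 0, 2, 2], [2, 0, 2, 0, 2, 2], [0, 3, 0, 2, 2, 0, 2, 0, 3, 0, 3, 0, 2],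
      [0, 2, 0, 2, 0, 3, 0, 2, 0, 2, 2, 0, 2], [0, 2, 0, 3, 0, 2, 0, 3, 0, 3],
      [0, 2, 0, 3, 0, 2, 2, 0, 2, 0, 2, 2, 0, 2], [0, 2, 0, 3, 0, 2, 2, 0, 2, 0, 2],
      [0, 3, 0, 2, 2, 0, 3, 0, 2, 0, 2, 0, 3], [2, 0, 3, 0, 3], [0, 2, 0, 2, 0, 3, 0, 3, 0, 2, 0, 2, 0, 3],
      [0, 2, 2, 0, 3, 0, 2, 2, 0, 3, 0, 2, 0, 2, 2], [0, 2, 0, 3, 0, 3, 0, 2, 0, 3, 0, 2, 2],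
      [3, 0, 2, 2, 0, 2, 0, 3, 0, 3, 0, 2], [0, 2, 2, 0, 2, 0, 2, 0, 3, 0, 3, 0, 2],
      [3, 0, 3, 0, 2, 0, 3, 0, 3, 0, 3], [0, 2, 2, 0, 3, 0, 2, 0, 3, 0, 3], [0, 3, 0, 2, 2, 0, 3, 0, 3, 0, 2, 2],
      [2, 0, 2, 0, 2, 2, 0, 2, 0, 2], [0, 3, 0, 2, 0, 3, 0, 2, 0, 2, 0, 3],
      [0, 2, 2, 0, 3, 0, 2, 0, 2, 0, 3, 0, 3, 0, 2], [2, 2, 0, 3, 0, 3, 0, 2, 2, 0, 2, 0, 2, 2],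
      [0, 2, 0, 3, 0, 2, 2, 0, 3, 0, 2, 2, 0, 2], [0, 3, 0, 3, 0, 2], [2, 0, 2, 0, 3, 0, 2, 2, 0, 3, 0, 3],
      [0, 2, 0, 3, 0, 3, 0, 2, 0, 3, 0, 3], [2, 2, 0, 2, 0, 2, 2, 0, 2, 0, 2],
      [0, 2, 2, 0, 3, 0, 2, 0, 2, 0, 3, 0, 3, 0, 3], [0, 3, 0, 3, 0, 2, 0, 2, 2, 0, 3, 0, 2, 2], [3, 0, 3, 0, 2]] }

/-- The data of a cover. -/
def dat (h : Fin 2) : LDat := if h.val = 0 then dat0 else dat1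

end CfsgLib.StdON
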