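import Cfsg.Agent.Lib.StdON.Basic
import Cfsg.Agent.Lib.ONanRec.Cand.Model

/-!
# The centraliser of an involution in 4.L3(4), computed in a permutation model

An element is coded by the images of a few points. The 128 elements of the centraliser have different codes, so
inside the centraliser equal codes mean equal elements, and the multiplication is a table on 128 indices.
-/

set_option autoImplicit false
set_option maxRecDepth 100000

namespace CfsgLib.StdON

open ONanRec.Cand CfsgLib.PresCert

/-- The data of the centraliser of the first generator in a model. -/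
structure LDat where
  /-- the candidate whose table is used -/
  k : Fin 12
  /-- the coding points -/
  base : List ℕ
  /-- three words generating the centraliser -/
  gens : List (List ℕ)
  /-- the elements as words in the generators -/
  gw : List (List ℕ)
  /-- right multiplication by the generators -/
  right : List (List ℕ)
  /-- the identity -/
  i0 : ℕ
  /-- the involution -/
  ia : ℕ
  /-- the generator of the centre -/
  iz : ℕ
  /-- a square root of the involution -/
  sqRoot : ℕ
  /-- the subgroup generated by the involutions, with witnesses -/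
  omega : List (ℕ × ℕ × ℕ × ℕ)
  /-- conjugates the involution to its product with the central one -/
  conjA : List ℕ
  /-- conjugators to 630 different involutions, in the order of their codes -/
  conj : List (List ℕ)

/-- The strictly increasing lists. -/
def incr : List ℕ → Bool
  | a :: b :: l => Nat.blt a b && incr (b :: l)
  | _ => true

theorem incr_sound : ∀ {l : List ℕ}, incr l = true → l.Pairwise (· < ·)
  | [], _ => List.Pairwise.nil
  | [a], _ => List.pairwise_singleton _ a
  | a :: b :: l, h => by
    simp only [incr, Bool.and_eq_true, Nat.blt_eq] at h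
    have h2 := incr_sound h.2
    refine List.pairwise_cons.2 ⟨fun c hc => ?_, h2⟩
    rcases List.mem_cons.1 hc with rfl | hc
    · exact h.1
    · exact h.1.trans ((List.pairwise_cons.1 h2).1 c hc)

namespace LDat

variable (D : LDat)

/-- The code of a word. -/
def code (w : List ℕ) : ℕ := D.base.foldl (fun c p => c * 256 + (modelTab D.k.val).walk p w) 0

/-- Two words act in the same way. -/
def same (u v : List ℕ) : Bool :=
  (List.range (modelTab D.k.val).n).all fun i =>
    Nat.beq ((modelTab D.k.val).walk i u) ((modelTab D.k.val).walk i v)

/-- The word of a generator. -/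
def gword (g : ℕ) : List ℕ := D.gens.getD g []

/-- The word of an element. -/
def word (i : ℕ) : List ℕ := (D.gw.getD i []).flatMap D.gword

/-- Right multiplication by a generator. -/
def rmul (g i : ℕ) : ℕ := (D.right.getD g []).getD i 0

/-- Right multiplication by a word in the generators. -/
def rmulW (i : ℕ) (l : List ℕ) : ℕ := l.foldl (fun i g => D.rmul g i) i

/-- The product of two elements. -/
def mul (i j : ℕ) : ℕ := D.rmulW i (D.gw.getD j [])

/-- The central elements. -/
def zs : List ℕ := [D.i0, D.iz, D.mul D.iz D.iz, D.mul (D.mul D.iz D.iz) D.iz]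

/-- The conjugate of the involution by a word. -/
def conjWord (u : List ℕ) : List ℕ := u ++ 0 :: invC u

/-- Letters of the words. -/
def lettersOk (w : List ℕ) : Bool := w.all fun l => Nat.blt l 6

/-- The words are words in the first three generators and act as stated. -/
def okWords : Bool :=
  Nat.beq D.gens.length 3 && D.gens.all lettersOk && lettersOk D.conjA && D.conj.all lettersOk &&
    (D.gens.all fun w => D.same (0 :: w) (w ++ [0])) && D.same (conjWord D.conjA) [0, 4, 4] &&
    (D.base.all fun p => Nat.blt p (modelTab D.k.val).n) && !(Nat.beq (D.code [0, 2]) (D.code [2, 0]))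

/-- The multiplication table is right. -/
def okTable : Bool :=
  Nat.blt D.i0 128 && Nat.blt D.ia 128 && Nat.blt D.iz 128 && (D.gw.getD D.i0 []).isEmpty &&
    ((List.range 128).all fun i => ((D.gw.getD i []).all fun g => Nat.blt g 3) &&
      (List.range 3).all fun g =>
        Nat.blt (D.rmul g i) 128 && Nat.beq (D.code (D.word i ++ D.gword g)) (D.code (D.word (D.rmul g i)))) &&
    Nat.beq (D.code [0]) (D.code (D.word D.ia)) && Nat.beq (D.code [4]) (D.code (D.word D.iz))

/-- The codes are different. -/
def okDistinct : Bool :=
  incr ((List.range 128).map fun i => D.code (D.word i)) && Nat.beq D.conj.length 630 &&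
    incr (D.conj.map fun u => D.code (conjWord u))

/-- The indices of the subgroup generated by the involutions. -/
def omIdx : List ℕ := D.omega.map fun e => e.1

/-- The number of elements satisfying a condition. -/
def cnt (p : ℕ → Bool) : ℕ := ((List.range 128).filter p).length

/-- The fourth power. -/
def four (i : ℕ) : ℕ := D.mul (D.mul i i) (D.mul i i)

/-- The facts about the table. -/
def okFacts : Bool :=
  Nat.blt D.sqRoot 128 && Nat.beq (D.mul D.sqRoot D.sqRoot) D.ia &&
    ((List.range 128).all fun i => D.zs.contains i || D.zs.contains (D.mul i D.ia) ||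
      (List.range 3).any fun g => !(Nat.beq (D.rmul g i) (D.mul (D.rmul g D.i0) i))) &&
    ((List.range 128).all fun i => D.zs.contains (D.four i)) &&
    ((List.range 128).all fun i =>
      (!(Nat.beq (D.mul i i) (D.mul D.iz D.ia)) &&
        !(Nat.beq (D.mul i i) (D.mul (D.mul (D.mul D.iz D.iz) D.iz) D.ia))) ||
      (List.range 3).any fun g => !(Nat.beq (D.rmul g i) (D.mul (D.rmul g D.i0) i)) &&
        !(Nat.beq (D.rmul g i) (D.mul (D.mul (D.rmul g D.i0) i) D.ia))) &&
    Nat.beq (cnt fun i => Nat.beq (D.mul i i) (D.mul D.iz D.iz)) 24 &&
    Nat.beq (cnt fun i => Nat.beq (D.mul i i) D.ia) 8 &&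
    Nat.beq (cnt fun i => Nat.beq (D.four i) (D.mul D.iz D.iz)) 32 &&
    Nat.beq (cnt fun i => Nat.beq (D.four i) D.ia) 0 &&
    D.omIdx.contains D.i0 &&
    (D.omega.all fun e => Nat.blt e.1 128 && [e.2.1, e.2.2.1, e.2.2.2].all (fun p => Nat.blt p 128 &&
        Nat.beq (D.mul p p) D.i0) && Nat.beq (D.mul (D.mul e.2.1 e.2.2.1) e.2.2.2) e.1) &&
    ((List.range 128).all fun j => !(Nat.beq (D.mul j j) D.i0) ||
      D.omIdx.all fun i => D.omIdx.contains (D.mul i j)) &&
    Nat.beq (cnt fun i => D.omIdx.contains i && Nat.beq (D.mul i i) (D.mul D.iz D.iz)) 24 &&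
    Nat.beq (cnt fun i => D.omIdx.contains i && Nat.beq (D.mul i i) D.ia) 8

end LDat

end CfsgLib.StdON
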