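import Cfsg.Agent.Lib.StdON.LModel

/-!
# What the checked tables say about a group represented by a model
-/

set_option autoImplicit false
set_option maxRecDepth 100000

namespace CfsgLib.StdON

open ONanRec.Cand CfsgLib.PresCert

set_option linter.unusedSectionVars false

attribute [local irreducible] modelTab

variable {L : Type*} [Group L]

/-- A group of order 80640 represented faithfully by the table, with the centre and the involutions as in 4.L3(4). -/
structure Rep (D : LDat) (g : Fin 4 → L) : Prop where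
  card : Nat.card L = 80640
  walk_eq : ∀ u v : List ℕ, (∀ l ∈ u, l < 6) → (∀ l ∈ v, l < 6) → ev g u = ev g v →
    ∀ i < (modelTab D.k.val).n, (modelTab D.k.val).walk i u = (modelTab D.k.val).walk i v
  eq_of_walk : ∀ u v : List ℕ, (∀ l ∈ u, l < 6) → (∀ l ∈ v, l < 6) →
    (∀ i < (modelTab D.k.val).n, (modelTab D.k.val).walk i u = (modelTab D.k.val).walk i v) → ev g u = ev g v
  centre : Subgroup.center L = Subgroup.zpowers (g 2)
  ord : orderOf (g 2) = 4
  sq_a : g 0 * g 0 = 1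
  classes : ∀ l : L, l * l ∈ Subgroup.center L → l ∈ Subgroup.center L ∨
    ∃ m c : L, c ∈ Subgroup.center L ∧ l * c = m * g 0 * m⁻¹
  ok : D.okWords = true ∧ D.okTable = true ∧ D.okDistinct = true ∧ D.okFacts = true

/-- A word in letters below 6. -/
theorem flatMap_lt {D : LDat} (hg : ∀ w ∈ D.gens, ∀ l ∈ w, l < 6) (s : List ℕ) :
    ∀ l ∈ s.flatMap D.gword, l < 6 := by
  intro l hl
  obtain ⟨x, -, hx⟩ := List.mem_flatMap.1 hl
  by_cases h : x < D.gens.length
  · rw [LDat.gword, List.getD_eq_getElem _ _ h] at hx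
    exact hg _ (List.getElem_mem h) l hx
  · rw [LDat.gword, List.getD_eq_default _ _ (Nat.le_of_not_lt h)] at hx
    exact absurd hx List.not_mem_nil

theorem invC_lt {u : List ℕ} (h : ∀ l ∈ u, l < 6) : ∀ l ∈ invC u, l < 6 := by
  intro l hl
  simp only [invC, List.mem_reverse, List.mem_map] at hl
  obtain ⟨a, ha, rfl⟩ := hl
  have := h a ha
  omega

theorem ev_invC (g : Fin 4 → L) : ∀ {u : List ℕ}, (∀ l ∈ u, l < 8) → ev g (invC u) = (ev g u)⁻¹
  | [], _ => by simp [invC, ev]
  | a :: u, h => by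
    have hl : lev g (a + 1 - 2 * (a % 2)) = (lev g a)⁻¹ := by
      have := h a List.mem_cons_self
      interval_cases a <;> simp [lev]
    rw [show invC (a :: u) = invC u ++ [a + 1 - 2 * (a % 2)] by simp [invC], ev_append,
      ev_invC g (fun l hl => h l (List.mem_cons_of_mem _ hl)), ev_cons, ev_cons, ev_nil, mul_one, hl, mul_inv_rev]

theorem zs_four {z c : L} (h4 : z ^ 4 = 1) (hc : c ∈ Subgroup.zpowers z) :
    c = 1 ∨ c = z ∨ c = z * z ∨ c = z * z * z := by
  obtain ⟨j, rfl⟩ := Subgroup.mem_zpowers_iff.1 hc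
  have h : z ^ j = z ^ (j % 4) := by
    conv_lhs => rw [← Int.emod_add_ediv_mul j 4, zpow_add, mul_comm (j / 4), zpow_mul]
    rw [show z ^ (4 : ℤ) = 1 by exact_mod_cast h4, one_zpow, mul_one]
  rw [h]
  rcases (by omega : j % 4 = 0 ∨ j % 4 = 1 ∨ j % 4 = 2 ∨ j % 4 = 3) with e | e | e | e <;> rw [e]
  · exact .inl (zpow_zero z)
  · exact .inr (.inl (zpow_one z))
  · exact .inr (.inr (.inl (zpow_two z)))
  · refine .inr (.inr (.inr ?_))
    rw [show (3 : ℤ) = 1 + 1 + 1 from rfl, zpow_add, zpow_add, zpow_one]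

namespace Rep

variable {D : LDat} {g : Fin 4 → L} (R : Rep D g)
include R

/-- The element of an index. -/
theorem words_spec : D.gens.length = 3 ∧ (∀ w ∈ D.gens, ∀ l ∈ w, l < 6) ∧ (∀ l ∈ D.conjA, l < 6) ∧
    (∀ w ∈ D.conj, ∀ l ∈ w, l < 6) ∧ (∀ w ∈ D.gens, D.same (0 :: w) (w ++ [0]) = true) ∧
    D.same (LDat.conjWord D.conjA) [0, 4, 4] = true ∧ (∀ p ∈ D.base, p < (modelTab D.k.val).n) ∧
    D.code [0, 2] ≠ D.code [2, 0] := by
  have h := R.ok.1
  simp only [LDat.okWords, LDat.lettersOk, Bool.and_eq_true, List.all_eq_true, Nat.blt_eq, Nat.beq_eq,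
    Bool.not_eq_true', ← Bool.not_eq_true] at h
  obtain ⟨⟨⟨⟨⟨⟨⟨h1, h2⟩, h3⟩, h4⟩, h5⟩, h6⟩, h7⟩, h8⟩ := h
  exact ⟨h1, h2, h3, h4, h5, h6, h7, h8⟩

theorem code_eq {u v : List ℕ} (hu : ∀ l ∈ u, l < 6) (hv : ∀ l ∈ v, l < 6) (h : ev g u = ev g v) :
    D.code u = D.code v :=
  List.foldl_ext _ _ _ fun c p hp => by rw [R.walk_eq u v hu hv h p (R.words_spec.2.2.2.2.2.2.1 p hp)]

theorem same_sound {u v : List ℕ} (hu : ∀ l ∈ u, l < 6) (hv : ∀ l ∈ v, l < 6) (h : D.same u v = true) :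
    ev g u = ev g v := R.eq_of_walk u v hu hv fun i hi => by
  simp only [LDat.same, List.all_eq_true, List.mem_range, Nat.beq_eq] at h
  exact h i hi

theorem word_lt (i : ℕ) : ∀ l ∈ D.word i, l < 6 := flatMap_lt R.words_spec.2.1 _

theorem gword_lt (x : ℕ) : ∀ l ∈ D.gword x, l < 6 := by
  have h := flatMap_lt R.words_spec.2.1 [x]
  simpa using h

theorem gword_mem (x : ℕ) : ev g (D.gword x) ∈ cent (g 0) := by
  by_cases h : x < D.gens.length
  · have hm : D.gword x ∈ D.gens := by rw [LDat.gword, List.getD_eq_getElem _ _ h]; exact List.getElem_mem h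
    have hl := R.words_spec.2.1 _ hm
    have := R.same_sound (u := 0 :: D.gword x) (v := D.gword x ++ [0])
      (fun l hl' => (List.mem_cons.1 hl').elim (fun e => e ▸ by norm_num) (hl l))
      (fun l hl' => (List.mem_append.1 hl').elim (hl l) (fun e => List.mem_singleton.1 e ▸ by norm_num))
      (R.words_spec.2.2.2.2.1 _ hm)
    rw [ev_cons, ev_append] at this
    refine Subgroup.mem_centralizer_singleton_iff.2 ?_
    simpa [ev] using this.symm
  · rw [LDat.gword, List.getD_eq_default _ _ (Nat.le_of_not_lt h), ev_nil]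
    exact one_mem _

theorem prod_mem : ∀ s : List ℕ, ev g (s.flatMap D.gword) ∈ cent (g 0)
  | [] => by rw [List.flatMap_nil, ev_nil]; exact one_mem _
  | x :: s => by rw [List.flatMap_cons, ev_append]; exact mul_mem (R.gword_mem x) (prod_mem s)

theorem finite : Finite L := Nat.finite_of_card_ne_zero (by rw [R.card]; norm_num)

/-- The centraliser has at most 128 elements: the involution has 630 conjugates. -/
theorem card_le : Nat.card (cent (g 0)) ≤ 128 := by
  haveI := R.finite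
  have hd := R.ok.2.2.1
  simp only [LDat.okDistinct, Bool.and_eq_true, Nat.beq_eq] at hd
  obtain ⟨⟨-, hlen⟩, hinc⟩ := hd
  have hp := List.pairwise_iff_getElem.1 (incr_sound hinc)
  let f : Fin D.conj.length × cent (g 0) → L := fun p => ev g D.conj[p.1.val] * p.2
  have hf : Function.Injective f := by
    rintro ⟨i, c⟩ ⟨j, d⟩ e
    have hij : i = j := by
      have hc : g 0 * (c : L) = c * g 0 := (Subgroup.mem_centralizer_singleton_iff.1 c.2).symm
      have hd : g 0 * (d : L) = d * g 0 := (Subgroup.mem_centralizer_singleton_iff.1 d.2).symm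
      have hl := fun k : Fin D.conj.length => R.words_spec.2.2.2.1 _ (List.getElem_mem k.isLt)
      have hcw : ∀ k : Fin D.conj.length, (∀ l ∈ LDat.conjWord D.conj[k.val], l < 6) ∧
          ev g (LDat.conjWord D.conj[k.val]) = ev g D.conj[k.val] * g 0 * (ev g D.conj[k.val])⁻¹ := by
        intro k
        refine ⟨fun l hl' => ?_, ?_⟩
        · rcases List.mem_append.1 hl' with h | h
          · exact hl k l h
          rcases List.mem_cons.1 h with rfl | h
          exacts [by norm_num, invC_lt (hl k) l h]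
        · rw [LDat.conjWord, ev_append, ev_cons, ev_invC g fun l hl' => (hl k l hl').trans (by norm_num), lev0,
            mul_assoc]
      have e1 : ev g (LDat.conjWord D.conj[i.val]) = ev g (LDat.conjWord D.conj[j.val]) := by
        rw [(hcw i).2, (hcw j).2]
        change ev g D.conj[i.val] * c = ev g D.conj[j.val] * d at e
        calc ev g D.conj[i.val] * g 0 * (ev g D.conj[i.val])⁻¹
            = ev g D.conj[i.val] * (g 0 * c) * (ev g D.conj[i.val] * c)⁻¹ := by group
          _ = ev g D.conj[i.val] * c * g 0 * (ev g D.conj[i.val] * c)⁻¹ := by rw [hc]; group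
          _ = ev g D.conj[j.val] * d * g 0 * (ev g D.conj[j.val] * d)⁻¹ := by rw [e]
          _ = ev g D.conj[j.val] * (g 0 * d) * (ev g D.conj[j.val] * d)⁻¹ := by rw [hd]; group
          _ = _ := by group
      have e2 := R.code_eq (hcw i).1 (hcw j).1 e1
      rcases lt_trichotomy i.val j.val with h | h | h
      · have := hp i.val j.val (by simp) (by simp) h
        simp only [List.getElem_map] at this
        omega
      · exact Fin.ext h
      · have := hp j.val i.val (by simp) (by simp) h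
        simp only [List.getElem_map] at this
        omega
    subst hij
    exact Prod.ext rfl (Subtype.ext (mul_left_cancel e))
  have h := Nat.card_le_card_of_injective f hf
  rw [Nat.card_prod, Nat.card_fin, hlen, R.card] at h
  omega

theorem code_inj {i j : Fin 128} (h : D.code (D.word i.val) = D.code (D.word j.val)) : i = j := by
  have hd := R.ok.2.2.1
  simp only [LDat.okDistinct, Bool.and_eq_true] at hd
  have hp := List.pairwise_iff_getElem.1 (incr_sound hd.1.1)
  rcases lt_trichotomy i.val j.val with hlt | hlt | hlt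
  · have := hp i.val j.val (by simp) (by simp) hlt
    simp only [List.getElem_map, List.getElem_range] at this
    omega
  · exact Fin.ext hlt
  · have := hp j.val i.val (by simp) (by simp) hlt
    simp only [List.getElem_map, List.getElem_range] at this
    omega

theorem inj : Function.Injective fun i : Fin 128 => ev g (D.word i.val) := fun i j h =>
  R.code_inj (R.code_eq (R.word_lt _) (R.word_lt _) h)

theorem card_cent : Nat.card (cent (g 0)) = 128 := by
  haveI := R.finite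
  refine le_antisymm R.card_le ?_
  have h := Nat.card_le_card_of_injective (fun i : Fin 128 => (⟨_, R.prod_mem (D.gw.getD i.val [])⟩ : cent (g 0)))
    (fun i j e => R.inj (congrArg Subtype.val e))
  rwa [Nat.card_fin] at h

theorem exists_index {c : L} (hc : c ∈ cent (g 0)) : ∃ i < 128, ev g (D.word i) = c := by
  haveI := R.finite
  have hb := (Nat.bijective_iff_injective_and_card (fun i : Fin 128 =>
    (⟨_, R.prod_mem (D.gw.getD i.val [])⟩ : cent (g 0)))).2
    ⟨fun i j e => R.inj (congrArg Subtype.val e), by rw [Nat.card_fin, R.card_cent]⟩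
  obtain ⟨i, hi⟩ := hb.2 ⟨c, hc⟩
  exact ⟨i.val, i.isLt, congrArg Subtype.val hi⟩

theorem eq_word {i : ℕ} (hi : i < 128) {w : List ℕ} (hw : ∀ l ∈ w, l < 6) (hm : ev g w ∈ cent (g 0))
    (h : D.code w = D.code (D.word i)) : ev g w = ev g (D.word i) := by
  obtain ⟨j, hj, e⟩ := R.exists_index hm
  have := R.code_inj (i := ⟨i, hi⟩) (j := ⟨j, hj⟩) (h.symm.trans (R.code_eq hw (R.word_lt j) e.symm))
  rw [← e, show i = j from congrArg Fin.val this]

theorem table_spec : D.i0 < 128 ∧ D.ia < 128 ∧ D.iz < 128 ∧ D.gw.getD D.i0 [] = [] ∧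
    (∀ i < 128, (∀ x ∈ D.gw.getD i [], x < 3) ∧ ∀ x < 3, D.rmul x i < 128 ∧
      D.code (D.word i ++ D.gword x) = D.code (D.word (D.rmul x i))) ∧
    D.code [0] = D.code (D.word D.ia) ∧ D.code [4] = D.code (D.word D.iz) := by
  have h := R.ok.2.1
  simp only [LDat.okTable, Bool.and_eq_true, List.all_eq_true, List.mem_range, Nat.blt_eq, Nat.beq_eq,
    List.isEmpty_iff] at h
  obtain ⟨⟨⟨⟨⟨⟨h1, h2⟩, h3⟩, h4⟩, h5⟩, h6⟩, h7⟩ := h
  exact ⟨h1, h2, h3, h4, h5, h6, h7⟩

theorem word_i0 : ev g (D.word D.i0) = 1 := by rw [LDat.word, R.table_spec.2.2.2.1, List.flatMap_nil, ev_nil]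

theorem word_ia : ev g (D.word D.ia) = g 0 := by
  have hm : ev g [0] ∈ cent (g 0) := by
    have : g 0 ∈ cent (g 0) := Subgroup.mem_centralizer_singleton_iff.2 rfl
    simpa [ev] using this
  rw [← R.eq_word R.table_spec.2.1 (by simp) hm R.table_spec.2.2.2.2.2.1]
  simp [ev]

theorem z_central : g 2 ∈ Subgroup.center L := R.centre ▸ Subgroup.mem_zpowers _

theorem centre_le : Subgroup.center L ≤ cent (g 0) := fun c hc =>
  Subgroup.mem_centralizer_singleton_iff.2 (Subgroup.mem_center_iff.1 hc (g 0)).symm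

theorem word_iz : ev g (D.word D.iz) = g 2 := by
  have hm : ev g [4] ∈ cent (g 0) := by simpa [ev] using R.centre_le R.z_central
  rw [← R.eq_word R.table_spec.2.2.1 (by simp) hm R.table_spec.2.2.2.2.2.2]
  simp [ev]

theorem word_rmulW : ∀ (s : List ℕ), (∀ x ∈ s, x < 3) → ∀ {i : ℕ}, i < 128 →
    D.rmulW i s < 128 ∧ ev g (D.word (D.rmulW i s)) = ev g (D.word i) * ev g (s.flatMap D.gword)
  | [], _, i, hi => ⟨hi, by rw [List.flatMap_nil, ev_nil, mul_one]; rfl⟩
  | x :: s, hs, i, hi => by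
    obtain ⟨hx1, hx2⟩ := (R.table_spec.2.2.2.2.1 i hi).2 x (hs x List.mem_cons_self)
    obtain ⟨h1, h2⟩ := word_rmulW s (fun y hy => hs y (List.mem_cons_of_mem _ hy)) hx1
    refine ⟨h1, ?_⟩
    have e : ev g (D.word i ++ D.gword x) = ev g (D.word (D.rmul x i)) := by
      refine R.eq_word hx1 (fun l hl => (List.mem_append.1 hl).elim (R.word_lt i l) (R.gword_lt x l)) ?_ hx2
      rw [ev_append]
      exact mul_mem (R.prod_mem _) (R.gword_mem x)
    show ev g (D.word (D.rmulW (D.rmul x i) s)) = _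
    rw [h2, ← e, ev_append, List.flatMap_cons, ev_append, mul_assoc]

/-- The table is the product. -/
theorem word_mul {i j : ℕ} (hi : i < 128) (hj : j < 128) :
    D.mul i j < 128 ∧ ev g (D.word (D.mul i j)) = ev g (D.word i) * ev g (D.word j) :=
  R.word_rmulW _ (R.table_spec.2.2.2.2.1 j hj).1 hi

theorem index_eq {i j : ℕ} (hi : i < 128) (hj : j < 128) (h : ev g (D.word i) = ev g (D.word j)) : i = j :=
  congrArg Fin.val (R.inj (a₁ := ⟨i, hi⟩) (a₂ := ⟨j, hj⟩) h)

theorem zs_lt : ∀ i ∈ D.zs, i < 128 := by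
  obtain ⟨h0, -, hz, -⟩ := R.table_spec
  intro i hi
  simp only [LDat.zs, List.mem_cons, List.not_mem_nil, or_false] at hi
  rcases hi with rfl | rfl | rfl | rfl
  exacts [h0, hz, (R.word_mul hz hz).1, (R.word_mul (R.word_mul hz hz).1 hz).1]

theorem word_z2 : ev g (D.word (D.mul D.iz D.iz)) = g 2 * g 2 := by
  rw [(R.word_mul R.table_spec.2.2.1 R.table_spec.2.2.1).2, R.word_iz]

theorem word_z3 : ev g (D.word (D.mul (D.mul D.iz D.iz) D.iz)) = g 2 * g 2 * g 2 := by
  obtain ⟨-, -, hz, -⟩ := R.table_spec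
  rw [(R.word_mul (R.word_mul hz hz).1 hz).2, R.word_z2, R.word_iz]

theorem centre_iff {i : ℕ} (hi : i < 128) : ev g (D.word i) ∈ Subgroup.center L ↔ i ∈ D.zs := by
  have hz := R.z_central
  simp only [LDat.zs, List.mem_cons, List.not_mem_nil, or_false]
  constructor
  · intro h
    rcases zs_four (R.ord ▸ pow_orderOf_eq_one (g 2)) (R.centre ▸ h) with e | e | e | e
    · exact .inl (R.index_eq hi (R.zs_lt _ (by simp [LDat.zs])) (e.trans R.word_i0.symm))
    · exact .inr (.inl (R.index_eq hi (R.zs_lt _ (by simp [LDat.zs])) (e.trans R.word_iz.symm)))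
    · exact .inr (.inr (.inl (R.index_eq hi (R.zs_lt _ (by simp [LDat.zs])) (e.trans R.word_z2.symm))))
    · exact .inr (.inr (.inr (R.index_eq hi (R.zs_lt _ (by simp [LDat.zs])) (e.trans R.word_z3.symm))))
  · rintro (rfl | rfl | rfl | rfl)
    · rw [R.word_i0]; exact one_mem _
    · rw [R.word_iz]; exact hz
    · rw [R.word_z2]; exact mul_mem hz hz
    · rw [R.word_z3]; exact mul_mem (mul_mem hz hz) hz

theorem zsq_ne : g 2 * g 2 ≠ 1 := fun h => by
  have := orderOf_le_of_pow_eq_one (x := g 2) (n := 2) (by norm_num) (by rw [pow_two]; exact h)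
  rw [R.ord] at this
  omega

theorem four_z : g 2 * g 2 * (g 2 * g 2) = 1 := by
  have := pow_orderOf_eq_one (g 2)
  rw [R.ord] at this
  simpa [pow_succ, mul_assoc] using this

theorem central_invol {z : L} (hz : z ∈ Subgroup.center L) (h1 : z ≠ 1) (h2 : z * z = 1) : z = g 2 * g 2 := by
  rcases zs_four (R.ord ▸ pow_orderOf_eq_one (g 2)) (R.centre ▸ hz) with e | e | e | e
  · exact absurd e h1
  · exact absurd (e ▸ h2) R.zsq_ne
  · exact e
  · refine absurd ?_ R.zsq_ne
    calc g 2 * g 2 = g 2 * g 2 * (g 2 * g 2 * (g 2 * g 2)) := by rw [R.four_z, mul_one]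
      _ = z * z := by rw [e]; group
      _ = 1 := h2

theorem inner_a : Inner (g 0) := by
  refine ⟨R.sq_a, fun h => R.words_spec.2.2.2.2.2.2.2 (R.code_eq (by simp) (by simp) ?_)⟩
  simpa [ev] using (Subgroup.mem_center_iff.1 h (g 1)).symm

theorem facts_spec : (D.sqRoot < 128 ∧ D.mul D.sqRoot D.sqRoot = D.ia) ∧
    (∀ i < 128, i ∈ D.zs ∨ D.mul i D.ia ∈ D.zs ∨ ∃ x < 3, D.rmul x i ≠ D.mul (D.rmul x D.i0) i) ∧
    (∀ i < 128, D.four i ∈ D.zs) ∧
    (∀ i < 128, D.mul i i = D.mul D.iz D.ia ∨ D.mul i i = D.mul (D.mul (D.mul D.iz D.iz) D.iz) D.ia →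
      ∃ x < 3, D.rmul x i ≠ D.mul (D.rmul x D.i0) i ∧
        D.rmul x i ≠ D.mul (D.mul (D.rmul x D.i0) i) D.ia) ∧
    (LDat.cnt (fun i => Nat.beq (D.mul i i) (D.mul D.iz D.iz)) = 24 ∧
      LDat.cnt (fun i => Nat.beq (D.mul i i) D.ia) = 8 ∧
      LDat.cnt (fun i => Nat.beq (D.four i) (D.mul D.iz D.iz)) = 32 ∧
      LDat.cnt (fun i => Nat.beq (D.four i) D.ia) = 0) ∧
    (D.i0 ∈ D.omIdx ∧ (∀ e ∈ D.omega, e.1 < 128 ∧ (∀ p ∈ [e.2.1, e.2.2.1, e.2.2.2], p < 128 ∧
        D.mul p p = D.i0) ∧ D.mul (D.mul e.2.1 e.2.2.1) e.2.2.2 = e.1) ∧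
      (∀ j < 128, D.mul j j = D.i0 → ∀ i ∈ D.omIdx, D.mul i j ∈ D.omIdx)) ∧
    LDat.cnt (fun i => D.omIdx.contains i && Nat.beq (D.mul i i) (D.mul D.iz D.iz)) = 24 ∧
      LDat.cnt (fun i => D.omIdx.contains i && Nat.beq (D.mul i i) D.ia) = 8 := by
  have h := R.ok.2.2.2
  simp only [LDat.okFacts, Bool.and_eq_true, Bool.or_eq_true, List.all_eq_true, List.any_eq_true, List.mem_range,
    List.contains_iff_mem, Nat.blt_eq, Nat.beq_eq, Bool.not_eq_true', ← Bool.not_eq_true] at h
  obtain ⟨⟨⟨⟨⟨⟨⟨⟨⟨⟨⟨⟨⟨h1, h2⟩, h3⟩, h4⟩, h5⟩, h6⟩, h7⟩, h8⟩, h9⟩, h10⟩, h11⟩, h12⟩, h13⟩, h14⟩ := h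
  refine ⟨⟨h1, h2⟩, fun i hi => or_assoc.1 (h3 i hi), h4, fun i hi hor => ?_, ⟨h6, h7, h8, h9⟩,
    ⟨h10, fun e he => ⟨(h11 e he).1.1, (h11 e he).1.2, (h11 e he).2⟩, fun j hj hjj => (h12 j hj).resolve_left (· hjj)⟩,
    h13, h14⟩
  rcases h5 i hi with h' | h'
  · exact absurd hor (not_or.2 h')
  · exact h'

/-- The subgroup generated by the involutions of the centraliser. -/
theorem omega_iff {i : ℕ} (hi : i < 128) : ev g (D.word i) ∈ centOmega (g 0) ↔ i ∈ D.omIdx := by
  obtain ⟨-, -, -, -, -, ⟨h0, hw, hcl⟩, -⟩ := R.facts_spec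
  have hi0 := R.table_spec.1
  constructor
  · suffices ∀ c ∈ centOmega (g 0), ∃ j, j < 128 ∧ j ∈ D.omIdx ∧ ev g (D.word j) = c by
      intro h
      obtain ⟨j, hj, hjm, e⟩ := this _ h
      rwa [R.index_eq hi hj e.symm]
    intro c hc
    have step : ∀ x : L, x ∈ cent (g 0) → x * x = 1 → ∀ j, j < 128 → j ∈ D.omIdx →
        ∃ k, k < 128 ∧ k ∈ D.omIdx ∧ ev g (D.word k) = ev g (D.word j) * x := by
      intro x hx hxx j hj hjm
      obtain ⟨k, hk, rfl⟩ := R.exists_index hx
      refine ⟨D.mul j k, (R.word_mul hj hk).1, hcl k hk ?_ j hjm, (R.word_mul hj hk).2⟩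
      exact R.index_eq (R.word_mul hk hk).1 hi0 (by rw [(R.word_mul hk hk).2, hxx, R.word_i0])
    induction hc using Subgroup.closure_induction_right with
    | one => exact ⟨D.i0, hi0, h0, R.word_i0⟩
    | mul_right x _ y hy ih =>
      obtain ⟨j, hj, hjm, rfl⟩ := ih
      exact step y hy.1 hy.2 j hj hjm
    | mul_inv_cancel x _ y hy ih =>
      obtain ⟨j, hj, hjm, rfl⟩ := ih
      rw [inv_eq_of_mul_eq_one_right hy.2]
      exact step y hy.1 hy.2 j hj hjm
  · intro h
    obtain ⟨e, he, rfl⟩ := List.mem_map.1 h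
    obtain ⟨-, hp, heq⟩ := hw e he
    obtain ⟨hp1, hq1⟩ := hp e.2.1 (by simp)
    obtain ⟨hp2, hq2⟩ := hp e.2.2.1 (by simp)
    obtain ⟨hp3, hq3⟩ := hp e.2.2.2 (by simp)
    have hinv : ∀ p, p < 128 → D.mul p p = D.i0 → ev g (D.word p) ∈ centOmega (g 0) := fun p hp hpp =>
      Subgroup.subset_closure ⟨R.prod_mem _, by rw [← (R.word_mul hp hp).2, hpp, R.word_i0]⟩
    rw [← heq, (R.word_mul (R.word_mul hp1 hp2).1 hp3).2, (R.word_mul hp1 hp2).2]
    exact mul_mem (mul_mem (hinv _ hp1 hq1) (hinv _ hp2 hq2)) (hinv _ hp3 hq3)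

/-- Counting in the centraliser by indices. -/
theorem ncard_eq (P : L → Prop) (p : ℕ → Bool) (h : ∀ i < 128, (P (ev g (D.word i)) ↔ p i = true)) :
    {v : L | v ∈ cent (g 0) ∧ P v}.ncard = LDat.cnt p := by
  classical
  have e : {v : L | v ∈ cent (g 0) ∧ P v} =
      (fun i => ev g (D.word i)) '' {i | i ∈ (List.range 128).filter p} := by
    ext v
    simp only [Set.mem_setOf_eq, Set.mem_image, List.mem_filter, List.mem_range]
    constructor
    · rintro ⟨hv, hP⟩
      obtain ⟨i, hi, rfl⟩ := R.exists_index hv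
      exact ⟨i, ⟨hi, (h i hi).1 hP⟩, rfl⟩
    · rintro ⟨i, ⟨hi, hpi⟩, rfl⟩
      exact ⟨R.prod_mem _, (h i hi).2 hpi⟩
  rw [e, Set.InjOn.ncard_image, ← List.coe_toFinset, Set.ncard_coe_finset,
    List.toFinset_card_of_nodup (List.nodup_range.filter _)]
  · rfl
  · intro i hi j hj hij
    simp only [Set.mem_setOf_eq, List.mem_filter, List.mem_range] at hi hj
    exact R.index_eq hi.1 hj.1 hij

end Rep

end CfsgLib.StdON
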