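import Cfsg.Agent.Lib.StdON.OddIso
import Cfsg.Agent.Lib.Invol.Embedded
import Cfsg.Prelude.Def_Involutions

/-!
# The odd part of the centraliser of `L` is trivial when `L` has index two over it

If `D` were not trivial its normaliser `M` would be O'Nan modulo `D`; then all its involutions are conjugate in it
to `z`, so it is strongly embedded and a subgroup of odd order is transitive on them: O'Nan has no such subgroup.
-/

set_option autoImplicit false

namespace CfsgLib.StdON

open Subgroup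

/-- Moving the condition on one class along an isomorphism. -/
theorem one_class_congr {X Y : Type*} [Group X] [Group Y] (e : X ≃* Y)
    (h : ∀ s s' : X, Inner s → Inner s' → ∃ g : X, g * s * g⁻¹ = s') :
    ∀ s s' : Y, Inner s → Inner s' → ∃ g : Y, g * s * g⁻¹ = s' := by
  have hin : ∀ s : Y, Inner s → Inner (e.symm s) := fun s hs =>
    ⟨by rw [← map_mul, hs.1, map_one], fun hc => hs.2 (mem_center_iff.2 fun g =>
      e.symm.injective (by rw [map_mul, map_mul]; exact mem_center_iff.1 hc (e.symm g)))⟩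
  intro s s' hs hs'
  obtain ⟨g, hg⟩ := h _ _ (hin s hs) (hin s' hs')
  exact ⟨e g, e.symm.injective (by simp [hg])⟩

/-- Moving the condition on roots along an isomorphism. -/
theorem roots_congr {X Y : Type*} [Group X] [Group Y] (e : X ≃* Y)
    (h : ∀ s : X, Inner s → ∀ c ∈ center X, c ≠ 1 → c * c = 1 →
      {v : X | v ∈ cent s ∧ v * v = c}.ncard ≠ {v : X | v ∈ cent s ∧ v * v = s}.ncard) :
    ∀ s : Y, Inner s → ∀ c ∈ center Y, c ≠ 1 → c * c = 1 →
      {v : Y | v ∈ cent s ∧ v * v = c}.ncard ≠ {v : Y | v ∈ cent s ∧ v * v = s}.ncard := by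
  have hc : ∀ u : Y, u ∈ center Y → e.symm u ∈ center X := fun u hu => mem_center_iff.2 fun g =>
    e.injective (by simpa using mem_center_iff.1 hu (e g))
  have himg : ∀ s a : Y, {v : Y | v ∈ cent s ∧ v * v = a} =
      e '' {v : X | v ∈ cent (e.symm s) ∧ v * v = e.symm a} := fun s a => by
    ext v
    constructor
    · rintro ⟨hv, hva⟩
      exact ⟨e.symm v, ⟨mem_centralizer_singleton_iff.2 (by rw [← map_mul, mem_centralizer_singleton_iff.1 hv, map_mul]),
        by rw [← map_mul, hva]⟩, e.apply_symm_apply v⟩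
    · rintro ⟨w, ⟨hw, hwa⟩, rfl⟩
      refine ⟨mem_centralizer_singleton_iff.2 (e.symm.injective ?_), e.symm.injective ?_⟩
      · simpa using mem_centralizer_singleton_iff.1 hw
      · simpa using hwa
  intro s hs c hcc hc1 hc2
  rw [himg, himg, Set.ncard_image_of_injective _ e.injective, Set.ncard_image_of_injective _ e.injective]
  exact h _ ⟨by rw [← map_mul, hs.1, map_one], fun hh => hs.2 (mem_center_iff.2 fun g =>
    e.symm.injective (by simpa using mem_center_iff.1 hh (e.symm g)))⟩ _ (hc c hcc)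
    (by simpa using hc1) (by rw [← map_mul, hc2, map_one])

/-- The odd part of the centraliser of `L` is trivial if the centraliser of `z` has index two over `L * D`. -/
theorem odd_part_false {G : Type*} [Group G] [Finite G] [IsSimpleGroup G] {z : G} (hz : orderOf z = 2)
    (L D : Subgroup G) (hLC : L ≤ centralizer ({z} : Set G)) (hDC : D ≤ centralizer ({z} : Set G))
    (hzL : z ∈ L) (hL : IsFour L) (hF : LFacts L) (hodd : Odd (Nat.card D)) (hne : D ≠ ⊥)
    (hcomm : ∀ d ∈ D, ∀ l ∈ L, Commute d l)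
    (hLn : ∀ c : G, Commute c z → ∀ l ∈ L, c * l * c⁻¹ ∈ L)
    (hDn : ∀ c : G, Commute c z → c ∈ normalizer (D : Set G))
    (hcard : Nat.card (centralizer ({z} : Set G)) = 2 * (Nat.card L * Nat.card D))
    (hout : ∀ c : G, Commute c z → (∀ l ∈ L, Commute c l) → ∃ l ∈ L, ∃ d ∈ D, c = l * d)
    (hfus : ∃ g ∈ normalizer (D : Set G), g * z * g⁻¹ ∈ L ∧ g * z * g⁻¹ ≠ z) : False := by
  haveI : Fact (Nat.Prime 2) := ⟨Nat.prime_two⟩
  set M := normalizer (D : Set G) with hM
  set C := centralizer ({z} : Set G) with hC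
  have hzz : z * z = 1 := by rw [← pow_two, ← hz, pow_orderOf_eq_one]
  have hzne : z ≠ 1 := fun h => by rw [h, orderOf_one] at hz; omega
  have hCM : C ≤ M := fun c hc => hDn c (mem_centralizer_singleton_iff.1 hc)
  have hDM : D ≤ M := le_normalizer
  have hzM : z ∈ M := hCM (hLC hzL)
  have hDz : ∀ d ∈ D, Commute z d := fun d hd => (mem_centralizer_singleton_iff.1 (hDC hd)).symm
  have hDinv : ∀ d ∈ D, z * d * (z * d) = 1 → d = 1 := by
    intro d hd h
    have h2 : d * d = 1 := by
      rw [show z * d * (z * d) = z * (d * z) * d by group, ← (hDz d hd).eq,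
        show z * (z * d) * d = z * z * (d * d) by group, hzz, one_mul] at h
      exact h
    obtain ⟨i, hi⟩ := hodd
    have h3 := pow_card_eq_one' (x := (⟨d, hd⟩ : D))
    rw [hi, pow_succ, pow_mul, pow_two, show (⟨d, hd⟩ : D) * ⟨d, hd⟩ = 1 from Subtype.ext h2, one_pow, one_mul] at h3
    exact congrArg Subtype.val h3
  have hLD : ∀ x ∈ L, x ∈ D → x = 1 := by
    intro x hx hxD
    have hxc : (⟨x, hx⟩ : L) ∈ center L := mem_center_iff.2 fun l => Subtype.ext (hcomm x hxD l l.2).symm.eq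
    have h4 := pow_card_eq_one' (x := (⟨⟨x, hx⟩, hxc⟩ : center L))
    rw [hL.2.2.1] at h4
    have h4' : x ^ 4 = 1 := by simpa using congrArg (fun y : center L => ((y : L) : G)) h4
    have hD' : x ^ Nat.card D = 1 := by
      have := congrArg Subtype.val (pow_card_eq_one' (x := (⟨x, hxD⟩ : D)))
      rwa [SubmonoidClass.coe_pow] at this
    have hg := pow_gcd_eq_one.2 ⟨h4', hD'⟩
    have hcop : Nat.Coprime (2 * 2) (Nat.card D) :=
      (Nat.coprime_two_left.2 hodd).mul_left (Nat.coprime_two_left.2 hodd)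
    rwa [hcop.gcd_eq_one, pow_one] at hg
  haveI : (D.subgroupOf M).Normal := normal_in_normalizer
  set q := QuotientGroup.mk' (D.subgroupOf M) with hq
  have hqker : ∀ m : M, q m = 1 ↔ (m : G) ∈ D := fun m => QuotientGroup.eq_one_iff m
  set zb := q ⟨z, hzM⟩ with hzb
  -- an element centralising `z` modulo `D` centralises it
  have hcz : ∀ m : M, Commute (q m) zb → (m : G) ∈ C := fun m h => by
    have h1 : ((⟨z, hzM⟩ : M) : G)⁻¹ * ((m : G) * z * (m : G)⁻¹) ∈ D := by
      have : q ((⟨z, hzM⟩ : M)⁻¹ * (m * ⟨z, hzM⟩ * m⁻¹)) = 1 := by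
        rw [map_mul, map_inv, map_mul, map_mul, map_inv, ← hzb, h.eq, mul_inv_cancel_right, inv_mul_cancel]
      exact (hqker _).1 this
    have h2 := hDinv _ h1 (by
      rw [mul_inv_cancel_left, show (m : G) * z * (m : G)⁻¹ * ((m : G) * z * (m : G)⁻¹) = m * (z * z) * (m : G)⁻¹ by
        group, hzz, mul_one, mul_inv_cancel])
    exact mem_centralizer_singleton_iff.2 (mul_inv_eq_iff_eq_mul.1 (inv_mul_eq_one.1 h2).symm)
  set Cb := centralizer ({zb} : Set (M ⧸ D.subgroupOf M)) with hCb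
  set Lb := (L.subgroupOf M).map q with hLb
  let f : L →* M ⧸ D.subgroupOf M := q.comp (inclusion (hLC.trans hCM))
  have hfinj : Function.Injective f := (injective_iff_map_eq_one f).2 fun l hl =>
    Subtype.ext (hLD l l.2 ((hqker _).1 hl))
  have hfr : f.range = Lb := by
    ext x
    constructor
    · rintro ⟨l, rfl⟩; exact ⟨_, l.2, rfl⟩
    · rintro ⟨m, hm, rfl⟩; exact ⟨⟨m, hm⟩, rfl⟩
  let eL : L ≃* Lb := (MonoidHom.ofInjective hfinj).trans (MulEquiv.subgroupCongr hfr)
  have hLCb : Lb ≤ Cb := by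
    rintro _ ⟨m, hm, rfl⟩
    refine mem_centralizer_singleton_iff.2 ?_
    rw [hzb, ← map_mul, ← map_mul]
    exact congrArg q (Subtype.ext (mem_centralizer_singleton_iff.1 (hLC hm)))
  -- the order of the centraliser
  let g : C →* M ⧸ D.subgroupOf M := q.comp (inclusion hCM)
  have hgr : g.range = Cb := by
    ext x
    constructor
    · rintro ⟨c, rfl⟩
      refine mem_centralizer_singleton_iff.2 ?_
      show q _ * q _ = q _ * q _
      rw [← map_mul, ← map_mul]
      exact congrArg q (Subtype.ext (mem_centralizer_singleton_iff.1 c.2))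
    · intro hx
      obtain ⟨m, rfl⟩ := QuotientGroup.mk'_surjective (D.subgroupOf M) x
      exact ⟨⟨m, hcz m (mem_centralizer_singleton_iff.1 hx)⟩, rfl⟩
  have hgker : g.ker = D.subgroupOf C := by
    ext c; exact hqker _
  have hCbcard : Nat.card Cb = 2 * Nat.card L := by
    have h := g.ker.index_mul_card
    rw [Subgroup.index_ker, hgr, hgker, Nat.card_congr (subgroupOfEquivOfLe hDC).toEquiv, hcard, ← mul_assoc] at h
    exact Nat.eq_of_mul_eq_mul_right Nat.card_pos h
  have H : Local zb Lb := by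
    refine
      { ord := ?_
        mem := ⟨_, hzL, rfl⟩
        le := hLCb
        four := hL.congr eL
        norm := ?_
        card := by rw [hCbcard, Nat.card_congr eL.toEquiv]
        out := ?_
        one_class := one_class_congr eL hF.one_class
        roots := roots_congr eL hF.roots_cent
        fused := ?_ }
    · refine orderOf_eq_prime (by rw [hzb, ← map_pow]; exact (congrArg q (Subtype.ext (by simpa [pow_two] using hzz))).trans q.map_one) ?_
      intro h
      exact hzne (hLD z hzL ((hqker _).1 h))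
    · rintro x hx _ ⟨l, hl, rfl⟩
      obtain ⟨m, rfl⟩ := QuotientGroup.mk'_surjective (D.subgroupOf M) x
      exact ⟨m * l * m⁻¹, hLn _ (mem_centralizer_singleton_iff.1 (hcz m hx)) _ hl, by simp [hq]⟩
    · intro x hx
      obtain ⟨m, rfl⟩ := QuotientGroup.mk'_surjective (D.subgroupOf M) x
      have hmC : Commute (m : G) z := mem_centralizer_singleton_iff.1 (hcz m (hx zb ⟨_, hzL, rfl⟩))
      obtain ⟨l, hl, d, hd, e⟩ := hout m hmC fun l hl => by
        by_contra hne'
        have h1 : ((m : G) * l * (m : G)⁻¹) * l⁻¹ ∈ L := mul_mem (hLn _ hmC l hl) (inv_mem hl)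
        have h2 : ((m : G) * l * (m : G)⁻¹) * l⁻¹ ∈ D := by
          refine (hqker (m * ⟨l, hCM (hLC hl)⟩ * m⁻¹ * (⟨l, hCM (hLC hl)⟩ : M)⁻¹)).1 ?_
          rw [map_mul, map_mul, map_mul, map_inv, map_inv, (hx _ ⟨⟨l, hCM (hLC hl)⟩, hl, rfl⟩).eq,
            mul_inv_cancel_right, mul_inv_cancel]
        exact hne' (mul_inv_eq_iff_eq_mul.1 (mul_inv_eq_one.1 (hLD _ h1 h2)))
      refine ⟨⟨l, hCM (hLC hl)⟩, hl, ?_⟩
      have em : m = (⟨l, hCM (hLC hl)⟩ : M) * ⟨d, hDM hd⟩ := Subtype.ext e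
      rw [em, map_mul, (hqker ⟨d, hDM hd⟩).2 hd, mul_one]
    · obtain ⟨a, ha, haL, hane⟩ := hfus
      refine ⟨q ⟨a, ha⟩, ⟨⟨a, ha⟩ * ⟨z, hzM⟩ * (⟨a, ha⟩ : M)⁻¹, haL, by rw [hzb, map_mul, map_mul, map_inv]⟩, fun h => hane ?_⟩
      exact mul_inv_eq_iff_eq_mul.2 (mem_centralizer_singleton_iff.1 (hcz ⟨a, ha⟩ (mul_inv_eq_iff_eq_mul.1 h)))
  obtain ⟨⟨φ⟩, hone⟩ := H.iso_on
  -- the involutions of `M` are conjugate in it to `z`
  have hconj : ∀ u : G, u ∈ M → orderOf u = 2 → ∃ m ∈ M, u = m * z * m⁻¹ := by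
    intro u hu h2
    have huu : u * u = 1 := by rw [← pow_two, ← h2, pow_orderOf_eq_one]
    have hub : orderOf (q ⟨u, hu⟩) = 2 := by
      refine orderOf_eq_prime (by rw [← map_pow]; exact (congrArg q (Subtype.ext (by simpa [pow_two] using huu))).trans q.map_one) fun h => ?_
      have hu' : u ∈ D := (hqker _).1 h
      exact Nat.not_even_iff_odd.2 hodd (even_iff_two_dvd.2 (h2 ▸ Subgroup.orderOf_dvd_natCard D hu'))
    obtain ⟨c, hc⟩ := isConj_iff.1 (hone _ hub)
    obtain ⟨m, rfl⟩ := QuotientGroup.mk'_surjective (D.subgroupOf M) c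
    have h1 : z⁻¹ * ((m : G)⁻¹ * u * m) ∈ D := by
      refine (hqker ((⟨z, hzM⟩ : M)⁻¹ * (m⁻¹ * ⟨u, hu⟩ * m))).1 ?_
      rw [map_mul, map_mul, map_mul, map_inv, map_inv, ← hc, hzb, ← hq]
      group
    have h3 := hDinv _ h1 (by
      rw [mul_inv_cancel_left, show (m : G)⁻¹ * u * m * ((m : G)⁻¹ * u * m) = (m : G)⁻¹ * (u * u) * m by group,
        huu, mul_one, inv_mul_cancel])
    refine ⟨m, m.2, ?_⟩
    rw [inv_mul_eq_one.1 h3]
    group
  have hMne : M ≠ ⊤ := by
    intro h
    haveI : D.Normal := normalizer_eq_top_iff.1 h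
    rcases (inferInstance : IsSimpleGroup G).eq_bot_or_eq_top_of_normal D inferInstance with e | e
    · exact hne e
    · rw [e, card_top] at hodd
      exact Nat.not_even_iff_odd.2 hodd (even_iff_two_dvd.2 (hz ▸ orderOf_dvd_natCard z))
  have hSE : Cfsg.IsStronglyEmbedded M := by
    refine ⟨hMne, even_iff_two_dvd.2 (hz ▸ Subgroup.orderOf_dvd_natCard M hzM), fun a ha => ?_⟩
    rw [← Nat.not_even_iff_odd, even_iff_two_dvd]
    intro h
    obtain ⟨w, hw⟩ := exists_prime_orderOf_dvd_card' 2 h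
    have hu : orderOf (w : G) = 2 := (orderOf_coe w).trans hw
    obtain ⟨huM, v, hvM, hvu⟩ := mem_inf.1 w.2
    generalize (w : G) = u at hu huM hvu
    have hvu' : a * v * a⁻¹ = u := hvu
    obtain ⟨m, hm, hum⟩ := hconj u huM hu
    obtain ⟨m', hm', hvm⟩ := hconj v hvM (by rw [← hu, ← hvu', Invol.orderOf_conj_eq])
    have hc : m⁻¹ * a * m' ∈ C := mem_centralizer_singleton_iff.2 (mul_inv_eq_iff_eq_mul.1 (by
      calc m⁻¹ * a * m' * z * (m⁻¹ * a * m')⁻¹ = m⁻¹ * (a * (m' * z * m'⁻¹) * a⁻¹) * m := by group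
        _ = _ := by rw [← hvm, hvu', hum]; group))
    refine ha ?_
    rw [show a = m * (m⁻¹ * a * m') * m'⁻¹ by group]
    exact M.mul_mem (M.mul_mem hm (hCM hc)) (M.inv_mem hm')
  obtain ⟨u, hu, huM⟩ : ∃ u : G, orderOf u = 2 ∧ u ∉ M := by
    by_contra hall
    push Not at hall
    have hle : normalClosure ({z} : Set G) ≤ M := by
      refine (closure_le _).2 fun w hw => ?_
      obtain ⟨y, hy, hyw⟩ := Group.mem_conjugatesOfSet_iff.1 hw
      rw [Set.mem_singleton_iff] at hy
      subst hy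
      obtain ⟨c, rfl⟩ := isConj_iff.1 hyw
      exact hall _ ((Invol.orderOf_conj_eq c y).trans hz)
    rcases (inferInstance : IsSimpleGroup G).eq_bot_or_eq_top_of_normal _ (normalClosure_normal (s := ({z} : Set G)))
      with h | h
    · have : z ∈ normalClosure ({z} : Set G) := subset_normalClosure rfl
      rw [h, mem_bot] at this
      exact hzne this
    · exact hMne (top_le_iff.1 (h ▸ hle))
  set K := M ⊓ M.map (MulAut.conj u).toMonoidHom with hK
  let p : K →* Cfsg.Spor.ON := φ.toMonoidHom.comp (q.comp (inclusion inf_le_left))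
  have hpodd : Odd (Nat.card p.range) := (hSE.2.2 u huM).of_dvd_nat (card_range_dvd p)
  set C' := centralizer ({φ zb} : Set Cfsg.Spor.ON) with hC'
  haveI : MulAction.IsPretransitive p.range (Cfsg.Spor.ON ⧸ C') := by
    refine (MulAction.isPretransitive_iff_base (QuotientGroup.mk 1 : Cfsg.Spor.ON ⧸ C')).2 fun x => ?_
    obtain ⟨a, rfl⟩ := QuotientGroup.mk_surjective x
    obtain ⟨m, hm⟩ := QuotientGroup.mk'_surjective (D.subgroupOf M) (φ.symm a)
    obtain ⟨d, hd, hdt⟩ := Invol.stronglyEmbedded_transitive hSE hu huM hz hzM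
      ((Invol.orderOf_conj_eq (m : G) z).trans hz) (M.mul_mem (M.mul_mem m.2 hzM) (M.inv_mem m.2))
    refine ⟨⟨p ⟨d, hd⟩, ⟨_, rfl⟩⟩, ?_⟩
    show QuotientGroup.mk (p ⟨d, hd⟩ * 1) = QuotientGroup.mk a
    rw [mul_one, QuotientGroup.eq, mem_centralizer_singleton_iff]
    have hrel : (inclusion inf_le_left (⟨d, hd⟩ : K))⁻¹ * m * ⟨z, hzM⟩ =
        ⟨z, hzM⟩ * ((inclusion inf_le_left (⟨d, hd⟩ : K))⁻¹ * m) := Subtype.ext (by
      show d⁻¹ * (m : G) * z = z * (d⁻¹ * m)
      calc d⁻¹ * (m : G) * z = d⁻¹ * ((m : G) * z * (m : G)⁻¹) * m := by group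
        _ = d⁻¹ * (d * z * d⁻¹) * m := by rw [hdt]
        _ = _ := by group)
    have h1 := congrArg (fun y => φ (q y)) hrel
    simp only [map_mul, map_inv, hq, hm, φ.apply_symm_apply] at h1
    exact h1
  have hidx : 2857239 ∣ Nat.card p.range := by
    have h1 := MulAction.index_stabilizer_of_transitive (G := p.range) (QuotientGroup.mk 1 : Cfsg.Spor.ON ⧸ C')
    have h2 := C'.index_mul_card
    have h3 : Nat.card C' = 161280 := by
      have e : C' = Cb.map φ.toMonoidHom := by
        ext x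
        rw [mem_map_equiv, hC', hCb, mem_centralizer_singleton_iff, mem_centralizer_singleton_iff,
          ← φ.injective.eq_iff, map_mul, map_mul, φ.apply_symm_apply]
      rw [e, card_map_of_injective φ.injective, hCbcard, hL.card]
    rw [h3, ONanP.card_ON] at h2
    rw [← Subgroup.index_eq_card, show C'.index = 2857239 by omega] at h1
    exact h1 ▸ Subgroup.index_dvd_card _
  exact ONanRec.no_odd_subgroup p.range hpodd ((show 19 ∣ 2857239 by norm_num).trans hidx)
    ((show 31 ∣ 2857239 by norm_num).trans hidx)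

end CfsgLib.StdON
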