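import Cfsg.Agent.Lib.StdON.Fusion
import Cfsg.Agent.Lib.StdON.OddPart
import Cfsg.Agent.Lib.StdON.FactsAut
import Mathlib.FieldTheory.Finite.GaloisField
import Cfsg.Prelude.Def_Local

/-!
# A standard subgroup 4.L3(4) gives O'Nan

The standard subgroup gives a `Setting`; there `C(z)` is `comp` times the odd part `D` with `comp` of index two
over `L`, the odd part is trivial, and the recognition of O'Nan applies.
-/

set_option autoImplicit false

universe u w

namespace CfsgLib.StdON

open Subgroup Matrix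

/-- Special projective linear groups over isomorphic rings. -/
theorem exists_psl_congr {R : Type*} [CommRing R] {S : Type*} [CommRing S] (e : R ≃+* S) :
    Nonempty (ProjectiveSpecialLinearGroup (Fin 3) R ≃* ProjectiveSpecialLinearGroup (Fin 3) S) := by
  let f : SpecialLinearGroup (Fin 3) R ≃* SpecialLinearGroup (Fin 3) S :=
    { toFun := SpecialLinearGroup.map e.toRingHom
      invFun := SpecialLinearGroup.map e.symm.toRingHom
      left_inv := fun A => Subtype.ext (Matrix.ext fun i j => e.symm_apply_apply _)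
      right_inv := fun A => Subtype.ext (Matrix.ext fun i j => e.apply_symm_apply _)
      map_mul' := map_mul _ }
  refine ⟨QuotientGroup.congr _ _ f ?_⟩
  ext x
  constructor
  · rintro ⟨y, hy, rfl⟩
    exact mem_center_iff.2 fun g => f.symm.injective (by simpa using mem_center_iff.1 hy (f.symm g))
  · intro hx
    exact ⟨f.symm x, mem_center_iff.2 fun g => f.injective (by simpa using mem_center_iff.1 hx (f g)),
      f.apply_symm_apply x⟩

/-- The shape in the lowest universe. -/
theorem isFour_of_iso {X : Type u} [Group X] (hp : commutator X = ⊤) (hc : IsCyclic (center X))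
    (h4 : Nat.card (center X) = 4) {F : Type w} [Field F] [Fintype F] (hF : Fintype.card F = 4)
    (e : X ⧸ center X ≃* ProjectiveSpecialLinearGroup (Fin 3) F) : IsFour X := by
  haveI : Fact (Nat.Prime 2) := ⟨Nat.prime_two⟩
  letI : Fintype (GaloisField 2 2) := Fintype.ofFinite _
  have hF0 : Fintype.card (GaloisField 2 2) = 4 := by
    rw [← Nat.card_eq_fintype_card, GaloisField.card 2 2 (by norm_num)]; norm_num
  obtain ⟨p⟩ := exists_psl_congr (FiniteField.ringEquivOfCardEq (K := F) (K' := GaloisField 2 2)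
    (by rw [hF, hF0]))
  exact ⟨hp, hc, h4, GaloisField 2 2, inferInstance, inferInstance, hF0, ⟨e.trans p⟩⟩

variable {G : Type u} [Group G] [Finite G] {L : Subgroup G}

/-- The standard subgroup gives the setting. -/
theorem exists_setting (hL : Cfsg.IsStandardSubgroup L) (hnc : ¬ IsMulCommutative G) (h4 : IsFour L)
    (hl : LFacts L) (he : ∀ (H : Type u) [Group H] [Finite H] (N : Subgroup H) [N.Normal], IsExt N → ExtFacts N) :
    ∃ ζ : L, Setting L ζ := by
  obtain ⟨-, ⟨-, hodd⟩, -, hnorm⟩ := hL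
  haveI := h4.2.1
  obtain ⟨⟨ζ, hζc⟩, hζ⟩ := IsCyclic.exists_generator (α := center L)
  have hgen : zpowers ζ = center L := by
    refine le_antisymm (zpowers_le.2 hζc) fun y hy => ?_
    obtain ⟨j, hj⟩ := mem_zpowers_iff.1 (hζ ⟨y, hy⟩)
    exact mem_zpowers_iff.2 ⟨j, by simpa using congrArg Subtype.val hj⟩
  have hord : orderOf ζ = 4 := by rw [← Nat.card_zpowers, hgen, h4.2.2.1]
  have h4' : ζ * ζ * (ζ * ζ) = 1 := by
    rw [← pow_orderOf_eq_one ζ, hord]; simp [pow_succ, mul_assoc]
  have hzL : ζ * ζ ∈ center L := mul_mem hζc hζc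
  have hzne : zc ζ ≠ 1 := fun h => by
    have h2 : orderOf ζ ∣ 2 := orderOf_dvd_of_pow_eq_one (by rw [pow_two]; exact Subtype.ext h)
    rw [hord] at h2
    norm_num at h2
  have hzK : zc ζ ∈ centralizer (L : Set G) := center_mem_cent hzL
  -- an element with an involution in `C(L)` and the meet with its conjugate normalises `L`
  have hmove : ∀ g k : G, k ∈ centralizer (L : Set G) → g * k * g⁻¹ ∈ centralizer (L : Set G) →
      k * k = 1 → k ≠ 1 → g ∈ normalizer (L : Set G) := by
    intro g k hk hgk hk2 hk1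
    rw [hnorm]
    by_contra hgn
    have h := hodd g hgn
    have hmem : g * k * g⁻¹ ∈ centralizer (L : Set G) ⊓
        (centralizer (L : Set G)).map (MulAut.conj g).toMonoidHom := ⟨hgk, k, hk, rfl⟩
    have h2 : orderOf (⟨g * k * g⁻¹, hmem⟩ : ↥(centralizer (L : Set G) ⊓
        (centralizer (L : Set G)).map (MulAut.conj g).toMonoidHom)) = 2 :=
      orderOf_eq_prime (hp := ⟨Nat.prime_two⟩) (by
        rw [pow_two]
        exact Subtype.ext (show g * k * g⁻¹ * (g * k * g⁻¹) = 1 by
          rw [show g * k * g⁻¹ * (g * k * g⁻¹) = g * (k * k) * g⁻¹ by group, hk2, mul_one, mul_inv_cancel]))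
        fun h' => hk1 (conj_eq_one_iff.1 (congrArg Subtype.val h'))
    exact (Nat.not_even_iff_odd.2 h) (even_iff_two_dvd.2 (h2 ▸ orderOf_dvd_natCard _))
  have hzz : zc ζ * zc ζ = 1 := congrArg Subtype.val h4'
  refine ⟨ζ,
    { four := h4
      gen := hgen
      ord := hord
      cnorm := fun x hx => hmove x _ hzK (by rw [hx.eq, mul_inv_cancel_right]; exact hzK) hzz hzne
      tight := fun g k hk hgk hk2 hk1 => ?_
      ncomm := hnc
      lfacts := hl
      afacts := autFacts h4
      efacts := he }⟩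
  have hg := hmove g k hk hgk hk2 hk1
  refine mul_inv_eq_iff_eq_mul.1 ?_
  have hmem : g * zc ζ * g⁻¹ ∈ L := (mem_normalizer_iff.1 hg _).1 (ζ * ζ).2
  have hc : (⟨g * zc ζ * g⁻¹, hmem⟩ : L) ∈ center L := by
    refine mem_center_iff.2 fun l => Subtype.ext ?_
    have hl' : g⁻¹ * l * g ∈ L := (mem_normalizer_iff.1 hg _).2 (by simp [mul_assoc])
    have e : g⁻¹ * l * g * zc ζ = zc ζ * (g⁻¹ * l * g) :=
      congrArg Subtype.val (mem_center_iff.1 hzL ⟨_, hl'⟩)
    show (l : G) * (g * zc ζ * g⁻¹) = g * zc ζ * g⁻¹ * l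
    calc (l : G) * (g * zc ζ * g⁻¹) = g * (g⁻¹ * l * g * zc ζ) * g⁻¹ := by group
      _ = _ := by rw [e]; group
  rcases unique_invol (A := center L) (a := ⟨ζ * ζ, hzL⟩) (b := ⟨_, hc⟩)
    (orderOf_eq_prime (hp := ⟨Nat.prime_two⟩) (by rw [pow_two]; exact Subtype.ext h4') fun h =>
      hzne (congrArg (fun x : center L => ((x : L) : G)) h))
    (Subtype.ext (Subtype.ext (show g * zc ζ * g⁻¹ * (g * zc ζ * g⁻¹) = 1 by
      rw [show g * zc ζ * g⁻¹ * (g * zc ζ * g⁻¹) = g * (zc ζ * zc ζ) * g⁻¹ by group, hzz, mul_one, mul_inv_cancel])))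
    with e | e
  · exact absurd (conj_eq_one_iff.1 (congrArg (fun x : center L => ((x : L) : G)) e)) hzne
  · exact congrArg (fun x : center L => ((x : L) : G)) e

namespace Setting

variable [IsSimpleGroup G] {ζ : L}

/-- With `comp` of index two over `L` the group is O'Nan. -/
theorem isoON_of_index_two (S : Setting L ζ)
    (h : ∃ e ∈ S.comp, e ∉ L ∧ ∀ t ∈ S.comp, t ∈ L ∨ t * e⁻¹ ∈ L) : Cfsg.Spor.IsoON G := by
  obtain ⟨e, he, heL, hcases⟩ := h
  set z := zc ζ with hz
  set C := centralizer ({z} : Set G) with hC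
  set D := S.oddPart with hD
  have hLC : L ≤ C := fun l hl => mem_centralizer_singleton_iff.2 (S.z_commute_L ⟨l, hl⟩).eq
  have hzo : orderOf z = 2 := orderOf_eq_prime (hp := ⟨Nat.prime_two⟩) (by rw [pow_two]; exact S.zsq) S.zne
  have hcompC : S.comp ≤ C := fun x hx => mem_centralizer_singleton_iff.2 (S.comp_commute hx).eq
  have hDC : D ≤ C := fun x hx => mem_centralizer_singleton_iff.2 (S.z_commute_cent (S.oddPart_le hx)).eq
  have hLn : ∀ c : G, Commute c z → ∀ l ∈ L, c * l * c⁻¹ ∈ L := fun c hc l hl =>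
    (mem_normalizer_iff.1 (S.cnorm c hc) l).1 hl
  have hidx : (L.subgroupOf S.comp).index = 2 := by
    rw [index_eq_two_iff']
    refine ⟨⟨e⁻¹, inv_mem he⟩, fun b => ?_⟩
    have hb : ((b : S.comp) : G) ∈ S.comp := b.2
    by_cases hbL : ((b : S.comp) : G) ∈ L
    · refine Or.inr ⟨hbL, fun h' => heL ?_⟩
      have h'' : e⁻¹ * (b : G) ∈ L := h'
      exact inv_mem_iff.1 (by simpa [mul_assoc] using mul_mem h'' (inv_mem hbL))
    · refine Or.inl ⟨?_, hbL⟩
      show e⁻¹ * (b : G) ∈ L
      have h1 := (hcases _ b.2).resolve_left hbL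
      have h2 := hLn e⁻¹ (S.comp_commute (inv_mem he)) _ h1
      simpa [mul_assoc] using h2
  have hLcomp : L ≤ S.comp := fun l hl => S.le_comp ⟨l, hl⟩
  have hcompcard : Nat.card S.comp = 2 * Nat.card L := by
    have h2 := (L.subgroupOf S.comp).index_mul_card
    rw [hidx, Nat.card_congr (subgroupOfEquivOfLe hLcomp).toEquiv] at h2
    exact h2.symm
  have hcard : Nat.card C = 2 * (Nat.card L * Nat.card D) := by
    rw [← mul_assoc, ← hcompcard, ← Nat.card_prod]
    refine (Nat.card_eq_of_bijective (fun p : S.comp × D => (⟨(p.1 : G) * p.2,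
      C.mul_mem (hcompC p.1.2) (hDC p.2.2)⟩ : C)) ⟨?_, ?_⟩).symm
    · rintro ⟨⟨t, ht⟩, ⟨d, hd⟩⟩ ⟨⟨t', ht'⟩, ⟨d', hd'⟩⟩ e'
      have e1 : t * d = t' * d' := congrArg Subtype.val e'
      have e2 : t'⁻¹ * t = d' * d⁻¹ := by
        rw [eq_mul_inv_iff_mul_eq, mul_assoc, e1, inv_mul_cancel_left]
      obtain rfl : t' = t :=
        inv_mul_eq_one.1 (S.comp_oddPart (mul_mem (inv_mem ht') ht) (e2 ▸ mul_mem hd' (inv_mem hd)))
      obtain rfl : d = d' := mul_left_cancel e1
      rfl
    · rintro ⟨c, hc⟩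
      obtain ⟨t, ht, d, hd, rfl⟩ := S.comp_decomp (mem_centralizer_singleton_iff.1 hc)
      exact ⟨⟨⟨t, ht⟩, ⟨d, hd⟩⟩, rfl⟩
  have hout : ∀ c : G, Commute c z → (∀ l ∈ L, Commute c l) → ∃ l ∈ L, ∃ d ∈ D, c = l * d := by
    intro c _ hcl
    obtain ⟨l, d, hd, hc⟩ := S.decomp (cent_le_LK (mem_centralizer_iff.2 fun l hl => (hcl l hl).eq.symm))
    exact ⟨l, l.2, d, hd, hc⟩
  by_cases hDbot : D = ⊥
  · -- recognition by the centraliser
    let M : Subgroup C := L.subgroupOf C
    haveI : M.Normal := ⟨fun a ha g => hLn _ (mem_centralizer_singleton_iff.1 g.2) _ ha⟩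
    let eM : L ≃* M := (subgroupOfEquivOfLe hLC).symm
    obtain ⟨hp, hc, h4, F, _, _, hF, ⟨f⟩⟩ := S.four.of_equiv eM
    refine ONanRec.isoON z hzo M ?_ ?_ hc h4 hp F hF f
    · refine Nat.eq_of_mul_eq_mul_right (Nat.card_pos (α := L)) ?_
      have h2 := (L.subgroupOf C).index_mul_card
      rwa [Nat.card_congr (subgroupOfEquivOfLe hLC).toEquiv, hcard, hDbot, card_bot, mul_one] at h2
    · intro c hc'
      obtain ⟨l, hl, d, hd, e'⟩ := hout (c : G) (mem_centralizer_singleton_iff.1 c.2) fun l hl =>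
        (congrArg Subtype.val (mem_centralizer_iff.1 hc' ⟨l, hLC hl⟩ hl)).symm
      rw [hDbot, mem_bot] at hd
      show (c : G) ∈ L
      rw [e', hd, mul_one]
      exact hl
  · exfalso
    obtain ⟨s, hs⟩ := S.exists_inner
    obtain ⟨g, h1, h3⟩ := S.exists_swap hs
    refine odd_part_false hzo L D hLC hDC (ζ * ζ).2 S.four S.lfacts S.odd_oddPart hDbot
      (fun d hd l hl => (commute_L (S.oddPart_le hd) ⟨l, hl⟩).symm) hLn (fun c hc => S.cent_mem hc) hcard hout
      ⟨g, S.swap_mem hs h1 h3, h1 ▸ s.2, fun e' => hs.2 ?_⟩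
    rw [h1] at e'
    rw [show s = ζ * ζ from Subtype.ext e']
    exact S.zL_center

end Setting

/-- A standard subgroup 4.L3(4) in a simple group makes it O'Nan. -/
theorem isoON_of_standard [IsSimpleGroup G] (hL : Cfsg.IsStandardSubgroup L) (hnc : ¬ IsMulCommutative G)
    (h4 : IsFour L) (hl : LFacts L)
    (he : ∀ (H : Type u) [Group H] [Finite H] (N : Subgroup H) [N.Normal], IsExt N → ExtFacts N) :
    Cfsg.Spor.IsoON G := by
  obtain ⟨ζ, S⟩ := exists_setting hL hnc h4 hl he
  exact S.isoON_of_index_two S.index_two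

/-- The statement shape: a standard subgroup with centre of order four over PSL(3,4). -/
theorem isoON_of_hyps [IsSimpleGroup G] (hnc : ¬ IsMulCommutative G) (hL : Cfsg.IsStandardSubgroup L)
    {F : Type w} [Field F] [Fintype F] (hF : Fintype.card F = 4)
    (hLX : IsCyclic ↥(center ↥L) ∧ Nat.card ↥(center ↥L) = 4 ∧
      Nonempty (↥L ⧸ center ↥L ≃* ProjectiveSpecialLinearGroup (Fin 3) F))
    (hl : ∀ (X : Type u) [Group X] [Finite X], IsFour X → LFacts X)
    (he : ∀ (H : Type u) [Group H] [Finite H] (N : Subgroup H) [N.Normal], IsExt N → ExtFacts N) :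
    Cfsg.Spor.IsoON G := by
  obtain ⟨hc, h4, ⟨e⟩⟩ := hLX
  have hfour : IsFour L := isFour_of_iso hL.1.1.commutator_eq_top hc h4 hF e
  exact isoON_of_standard hL hnc hfour (hl L hfour) he

end CfsgLib.StdON
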