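import Cfsg.Agent.Lib.StdON.Basic
import Cfsg.Agent.Lib.StdON.ModelCheck
import Cfsg.Agent.Lib.ONanRec.Cand.Model
import Cfsg.Agent.Lib.ONanRec.PinSound

/-!
A group `L` mapped onto the even part of a candidate: its inner involutions are conjugate to `a`, and the
centraliser of `a` consists of the listed words.
-/

set_option autoImplicit false

universe u v

namespace CfsgLib.StdON

open ONanRec ONanRec.Cand

/-- `f` maps `L` onto the even part of candidate `k`. -/
structure Model {L : Type v} [Group L] {H : Type u} [Group H] (k : Fin 12) (c : Cert) (d : Dat)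
    (f : L →* H) (z : H) (g : Fin 4 → H) : Prop where
  hC : Centralizer k z g
  hc : c.Ok k
  hd : d.Ok k c
  top : Subgroup.centralizer ({z} : Set H) = ⊤
  inj : Function.Injective f
  range_iff : ∀ w : List ℕ, (∀ l ∈ w, l < 8) → (ONanRec.Cand.ev g w ∈ f.range ↔ xPar w = 0)
  center : ∀ x : L, x ∈ Subgroup.center L ↔ ∃ i : ℕ, i < 4 ∧ f x = g 2 ^ i

namespace Model

variable {L : Type v} [Group L] {H : Type u} [Group H] [Finite H] {k : Fin 12} {c : Cert} {d : Dat}
  {f : L →* H} {z : H} {g : Fin 4 → H} (M : Model k c d f z g)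

include M

theorem mem_top (x : H) : x ∈ Subgroup.centralizer ({z} : Set H) := M.top ▸ Subgroup.mem_top x

theorem comm_z (x : H) : Commute x z := Subgroup.mem_centralizer_singleton_iff.1 (M.mem_top x)

theorem word (x : H) : ∃ w : List ℕ, (∀ l ∈ w, l < 8) ∧ ev g w = x := M.hC.surj x (M.mem_top x)

theorem eq_iff {u w : List ℕ} (hu : ∀ l ∈ u, l < 8) (hw : ∀ l ∈ w, l < 8) :
    ev g u = ev g w ↔ c.eqB k u w = true := Cert.ev_eq_iff M.hC M.hc hu hw

theorem ev44 : ev g [4, 4] = z := (Cert.E_spec M.hC M.hc).2.2.2.1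

theorem z_ne : z ≠ 1 := by
  intro h
  have hc' := M.hC.eq_one_iff [4, 4] (by simp)
  rw [M.ev44] at hc'
  have h' := tab_ok k
  simp only [ONanRec.Cand.tabOk, Bool.and_eq_true, List.any_eq_true, List.mem_range, Bool.not_eq_true',
    ← Bool.not_eq_true, Nat.beq_eq] at h'
  obtain ⟨i, hi, hne⟩ := h'.1.2
  exact hne (hc'.1 h i hi)

theorem g2_four : g 2 ^ 4 = 1 := by
  have h : ev g [4, 4, 4, 4] = 1 := M.hC.rels _ (by fin_cases k <;> simp [candRels, candRels0, candRels1,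
    candRels2, candRels3, candRels4, candRels5, candRels6, candRels7, candRels8, candRels9, candRels10, candRels11])
  simpa [ev, lev, pow_succ, mul_assoc] using h

theorem z_sq : z * z = 1 := by
  rw [← M.hC.z_sq, ← mul_assoc, ← M.g2_four]
  simp [pow_succ]

theorem range_conj {x : H} (hx : x ∈ f.range) (y : H) : y * x * y⁻¹ ∈ f.range := by
  obtain ⟨u, hu, rfl⟩ := M.word x
  obtain ⟨w, hw, rfl⟩ := M.word y
  have hl : ∀ l ∈ w ++ u ++ iw w, l < 8 := fun l hl => by
    simp only [List.mem_append] at hl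
    rcases hl with (hl | hl) | hl
    exacts [hw l hl, hu l hl, iw_lt hw l hl]
  rw [← ev_iw, ← ONanRec.ev_append, ← ONanRec.ev_append, M.range_iff _ hl]
  have h0 := (M.range_iff u hu).1 hx
  rw [xPar_append, xPar_append, h0]
  simp only [xPar, sum_iw]
  omega

/-- The element `a` of `L`. -/
theorem exists_a : ∃ s : L, f s = ev g [0] ∧ Inner s := by
  obtain ⟨s, hs⟩ := (M.range_iff [0] (by simp)).2 rfl
  obtain ⟨-, -, hst, h44, hne⟩ := Cert.E_spec M.hC M.hc
  have hs2 : ev g [0] * ev g [0] = 1 := by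
    have h : ev g [0, 0] = 1 := M.hC.rels _ (by fin_cases k <;> simp [candRels, candRels0, candRels1,
      candRels2, candRels3, candRels4, candRels5, candRels6, candRels7, candRels8, candRels9, candRels10,
      candRels11])
    rw [← ONanRec.ev_append]
    exact h
  refine ⟨s, hs, M.inj (by rw [map_mul, hs, hs2, map_one]), fun hsc => ?_⟩
  obtain ⟨i, hi, hfi⟩ := (M.center s).1 hsc
  rw [hs] at hfi
  have hg0 : ev g [0] ≠ 1 := fun h => by
    obtain ⟨-, hE, -, -, -⟩ := Cert.E_spec M.hC M.hc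
    rw [h, mul_one, inv_mul_cancel, one_mul] at hE
    exact M.z_ne hE.symm
  have h4 := M.g2_four
  have hz := M.hC.z_sq
  have hzn := M.z_ne
  rcases (by omega : i = 0 ∨ i = 1 ∨ i = 2 ∨ i = 3) with rfl | rfl | rfl | rfl
  · exact hg0 (hfi.trans (pow_zero _))
  · rw [pow_one] at hfi
    rw [← hfi, hs2] at hz
    exact hzn hz.symm
  · rw [pow_two, hz] at hfi
    exact hne hfi
  · have e : g 2 ^ 3 * g 2 ^ 3 = z := by
      rw [← pow_add, show 3 + 3 = 4 + 2 from rfl, pow_add, h4, one_mul, pow_two, hz]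
    rw [← hfi, hs2] at e
    exact hzn e.symm

theorem center_invol {x : L} (hx : x ∈ Subgroup.center L) (h1 : x ≠ 1) (h2 : x * x = 1) : f x = z := by
  obtain ⟨i, hi, hfi⟩ := (M.center x).1 hx
  have h4 := M.g2_four
  have hz := M.hC.z_sq
  have e : g 2 ^ i * g 2 ^ i = 1 := by rw [← hfi, ← map_mul, h2, map_one]
  rcases (by omega : i = 0 ∨ i = 1 ∨ i = 2 ∨ i = 3) with rfl | rfl | rfl | rfl
  · exact absurd (M.inj (hfi.trans (by rw [pow_zero, map_one]))) h1
  · rw [pow_one, hz] at e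
    exact absurd e M.z_ne
  · rw [hfi, pow_two, hz]
  · rw [← pow_add, show 3 + 3 = 4 + 2 from rfl, pow_add, h4, one_mul, pow_two, hz] at e
    exact absurd e M.z_ne

theorem exists_zeta : ∃ x : L, f x = g 2 ∧ x ∈ Subgroup.center L := by
  obtain ⟨x, hx⟩ := (M.range_iff [4] (by simp)).2 rfl
  have hx' : f x = g 2 := hx.trans (by simp [ev, lev])
  exact ⟨x, hx', (M.center x).2 ⟨1, by norm_num, by rw [hx', pow_one]⟩⟩

/-! ### The centraliser of `a` -/

omit M in
theorem part_spec {p : ℕ} {D : List (List ℕ)} (h : Dat.partOk k c p D = true) :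
    D.length = 128 ∧ (∀ w ∈ D, (∀ l ∈ w, l < 8) ∧ xPar w = p ∧ c.eqB k ([0] ++ w) (w ++ [0]) = true) ∧
      (D.map (c.fp k)).Nodup := by
  simp only [Dat.partOk, Bool.and_eq_true, Nat.beq_eq, List.all_eq_true] at h
  exact ⟨h.1.1, fun w hw => ⟨Cert.wordOk_iff.1 (h.1.2 w hw).1.1, (h.1.2 w hw).1.2, (h.1.2 w hw).2⟩,
    Cert.pairwise_of_incr h.2 |>.imp fun hab => Nat.ne_of_lt hab⟩

/-- The list of a parity. -/
theorem lists : (∀ w ∈ d.De, (∀ l ∈ w, l < 8) ∧ ev g w ∈ f.range ∧ Commute (ev g [0]) (ev g w)) ∧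
    (∀ w ∈ d.Do, (∀ l ∈ w, l < 8) ∧ ev g w ∉ f.range ∧ Commute (ev g [0]) (ev g w)) ∧
    d.De.length = 128 ∧ d.Do.length = 128 ∧ (d.De.map (ev g)).Nodup ∧ (d.Do.map (ev g)).Nodup := by
  have h := M.hd.lists
  simp only [Dat.listsOk, Bool.and_eq_true] at h
  obtain ⟨e1, e2, e3⟩ := part_spec h.1
  obtain ⟨o1, o2, o3⟩ := part_spec h.2
  have key : ∀ {p : ℕ} {D : List (List ℕ)}, (∀ w ∈ D, (∀ l ∈ w, l < 8) ∧ xPar w = p ∧
      c.eqB k ([0] ++ w) (w ++ [0]) = true) → (D.map (c.fp k)).Nodup →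
      (∀ w ∈ D, (∀ l ∈ w, l < 8) ∧ (ev g w ∈ f.range ↔ p = 0) ∧ Commute (ev g [0]) (ev g w)) ∧
        (D.map (ev g)).Nodup := by
    intro p D hD hn
    refine ⟨fun w hw => ?_, ?_⟩
    · obtain ⟨h1, h2, h3⟩ := hD w hw
      refine ⟨h1, by rw [M.range_iff w h1, h2], ?_⟩
      have l1 : ∀ l ∈ [0] ++ w, l < 8 := fun l hl => (List.mem_append.1 hl).elim (by simp_all) (h1 l)
      have l2 : ∀ l ∈ w ++ [0], l < 8 := fun l hl => (List.mem_append.1 hl).elim (h1 l) (by simp_all)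
      have := (M.eq_iff l1 l2).2 h3
      rwa [ONanRec.ev_append, ONanRec.ev_append] at this
    · refine (List.Nodup.of_map _ hn).map_on fun a ha b hb e => ?_
      exact List.inj_on_of_nodup_map hn ha hb (Cert.fp_congr M.hC M.hc (hD a ha).1 (hD b hb).1 e)
  obtain ⟨k1, k2⟩ := key e2 e3
  obtain ⟨k3, k4⟩ := key o2 o3
  refine ⟨fun w hw => ⟨(k1 w hw).1, (k1 w hw).2.1.2 rfl, (k1 w hw).2.2⟩,
    fun w hw => ⟨(k3 w hw).1, fun h => absurd ((k3 w hw).2.1.1 h) (by norm_num), (k3 w hw).2.2⟩, e1, o1, k2, k4⟩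

/-- An element commuting with `a` is listed. -/
theorem mem_list {x : H} (hx : Commute (ev g [0]) x) :
    (x ∈ f.range ∧ ∃ w ∈ d.De, ev g w = x) ∨ (x ∉ f.range ∧ ∃ w ∈ d.Do, ev g w = x) := by
  classical
  obtain ⟨hE, hO, hEl, hOl, hEn, hOn⟩ := M.lists
  have hnd : (d.De.map (ev g) ++ d.Do.map (ev g)).Nodup := by
    refine List.nodup_append'.2 ⟨hEn, hOn, fun x hx hx' => ?_⟩
    obtain ⟨u, hu, rfl⟩ := List.mem_map.1 hx
    obtain ⟨w, hw, e⟩ := List.mem_map.1 hx'
    exact (hO w hw).2.1 (e ▸ (hE u hu).2.1)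
  have hsub : ((d.De.map (ev g) ++ d.Do.map (ev g)).toFinset : Set H) ⊆ Cert.DSet z g c := by
    intro y hy
    simp only [List.coe_toFinset, Set.mem_setOf_eq, List.mem_append, List.mem_map] at hy
    rcases hy with ⟨w, hw, rfl⟩ | ⟨w, hw, rfl⟩
    exacts [⟨M.mem_top _, (hE w hw).2.2⟩, ⟨M.mem_top _, (hO w hw).2.2⟩]
  have heq := Set.eq_of_subset_of_ncard_le hsub (by
    refine (Cert.DSet_ncard_le M.hC M.hc).trans (le_of_eq ?_)
    rw [Set.ncard_coe_finset, List.toFinset_card_of_nodup hnd, List.length_append, List.length_map,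
      List.length_map, hEl, hOl]) (Set.toFinite _)
  have hm : x ∈ Cert.DSet z g c := ⟨M.mem_top x, hx⟩
  rw [← heq] at hm
  simp only [List.coe_toFinset, Set.mem_setOf_eq, List.mem_append, List.mem_map] at hm
  rcases hm with ⟨w, hw, rfl⟩ | ⟨w, hw, rfl⟩
  exacts [.inl ⟨(hE w hw).2.1, w, hw, rfl⟩, .inr ⟨(hO w hw).2.1, w, hw, rfl⟩]

theorem mem_De {x : H} (hx : Commute (ev g [0]) x) (hr : x ∈ f.range) : ∃ w ∈ d.De, ev g w = x := by
  rcases M.mem_list hx with ⟨-, h⟩ | ⟨h, -⟩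
  exacts [h, absurd hr h]

theorem mem_Do {x : H} (hx : Commute (ev g [0]) x) (hr : x ∉ f.range) : ∃ w ∈ d.Do, ev g w = x := by
  rcases M.mem_list hx with ⟨h, -⟩ | ⟨-, h⟩
  exacts [absurd h hr, h]

omit [Finite H] M in
/-- Counting along a list without repetition. -/
theorem ncard_list {D : List (List ℕ)} (hn : (D.map (ev g)).Nodup) (P : H → Prop) (q : List ℕ → Bool)
    (hq : ∀ w ∈ D, P (ev g w) ↔ q w = true) :
    {x : H | (∃ w ∈ D, ev g w = x) ∧ P x}.ncard = D.countP q := by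
  classical
  have e : {x : H | (∃ w ∈ D, ev g w = x) ∧ P x} = (((D.filter q).map (ev g)).toFinset : Set H) := by
    ext x
    simp only [List.coe_toFinset, Set.mem_setOf_eq, List.mem_map, List.mem_filter]
    constructor
    · rintro ⟨⟨w, hw, rfl⟩, hp⟩
      exact ⟨w, ⟨hw, (hq w hw).1 hp⟩, rfl⟩
    · rintro ⟨w, ⟨hw, hqw⟩, rfl⟩
      exact ⟨⟨w, hw, rfl⟩, (hq w hw).2 hqw⟩
  rw [e, Set.ncard_coe_finset, List.toFinset_card_of_nodup (hn.sublist (List.filter_sublist.map _)),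
    List.length_map, ← List.countP_eq_length_filter]

/-- Counting in the even part of the centraliser of `a`. -/
theorem ncard_even (P : H → Prop) (q : List ℕ → Bool) (hq : ∀ w ∈ d.De, P (ev g w) ↔ q w = true) :
    {x : H | x ∈ f.range ∧ Commute x (ev g [0]) ∧ P x}.ncard = d.De.countP q := by
  obtain ⟨hE, -, -, -, hEn, -⟩ := M.lists
  rw [← ncard_list hEn P q hq]
  congr 1
  ext x
  constructor
  · rintro ⟨hr, hc, hp⟩
    exact ⟨M.mem_De hc.symm hr, hp⟩
  · rintro ⟨⟨w, hw, rfl⟩, hp⟩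
    exact ⟨(hE w hw).2.1, (hE w hw).2.2.symm, hp⟩

/-- Counting in the odd part of the centraliser of `a`. -/
theorem ncard_odd (P : H → Prop) (q : List ℕ → Bool) (hq : ∀ w ∈ d.Do, P (ev g w) ↔ q w = true) :
    {x : H | x ∉ f.range ∧ Commute x (ev g [0]) ∧ P x}.ncard = d.Do.countP q := by
  obtain ⟨-, hO, -, -, -, hOn⟩ := M.lists
  rw [← ncard_list hOn P q hq]
  congr 1
  ext x
  constructor
  · rintro ⟨hr, hc, hp⟩
    exact ⟨M.mem_Do hc.symm hr, hp⟩
  · rintro ⟨⟨w, hw, rfl⟩, hp⟩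
    exact ⟨(hO w hw).2.1, (hO w hw).2.2.symm, hp⟩

/-! ### Conjugation -/

/-- An inner involution is carried to `a` by an element of `L`. -/
theorem exists_conj {s : L} (hs : Inner s) : ∃ n : L, f n * f s * (f n)⁻¹ = ev g [0] := by
  have hne : s ≠ 1 := fun h => hs.2 (h ▸ one_mem _)
  have ho : orderOf (f s) = 2 := by
    rw [orderOf_injective f M.inj]
    exact orderOf_eq_prime (hp := ⟨Nat.prime_two⟩) (by rw [pow_two]; exact hs.1) hne
  obtain ⟨y, -, e, he, hye⟩ := Cert.exists_conj_pw M.hC M.hc (M.mem_top _) ho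
  have hpw := Cert.pw_spec M.hC M.hc e
  have hr : ev g (c.pw e) ∈ f.range := hye ▸ M.range_conj ⟨s, rfl⟩ y
  have hpar := (M.range_iff _ hpw).1 hr
  have hsq : ev g (c.pw e) * ev g (c.pw e) = 1 := by
    rw [← hye, show y * f s * y⁻¹ * (y * f s * y⁻¹) = y * (f s * f s) * y⁻¹ by group, ← map_mul, hs.1, map_one]
    group
  obtain ⟨hE8, -, -, -, -⟩ := Cert.E_spec M.hC M.hc
  have hinv := M.hc.inv
  simp only [Cert.invOk, List.all_eq_true] at hinv
  have hck := hinv e he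
  have hl := M.hc.list
  simp only [Cert.listOk, Bool.and_eq_true, List.all_eq_true] at hl
  have hy2 : ∀ l ∈ e.2.2.1, l < 8 := Cert.wordOk_iff.1 (hl.1.2 e he).1
  simp only [Cert.entryOk, hpar, Bool.or_eq_true, Bool.not_eq_true', Bool.eq_false_iff, ne_eq, Nat.beq_eq] at hck
  have hP := (Cert.mem_PSet M.hC M.hc e).1
  have h1P : ev g [] ∈ Cert.PSet z g := ⟨one_mem _, Or.inl (by simp [ONanRec.ev_nil])⟩
  rcases hck with (hck | hck) | hck
  · exact absurd (Cert.fp_congr M.hC M.hc (fun l hl => (List.mem_append.1 hl).elim (hpw l) (hpw l)) (by simp)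
      (by rw [ONanRec.ev_append, hsq, ONanRec.ev_nil])) hck
  · have h1 := (Cert.fp_iff_P M.hC M.hc hpw (by simp) hP h1P).1 hck
    rw [ONanRec.ev_nil, ← hye, mul_inv_eq_one, mul_eq_left] at h1
    exact absurd (M.inj (h1.trans (map_one f).symm)) hne
  simp only [if_true, Bool.or_eq_true, Nat.beq_eq] at hck
  rcases hck with hck | hck
  · obtain ⟨hC4, hst, h44⟩ : (∀ l ∈ [4, 4], l < 8) ∧ Commute (ev g [0]) z ∧ ev g [4, 4] = z :=
      ⟨by simp, (M.comm_z _), M.ev44⟩
    have hzP : ev g [4, 4] ∈ Cert.PSet z g :=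
      ⟨M.mem_top _, Or.inl (by rw [h44, ← hst.eq, mul_inv_cancel_right])⟩
    have h1 := (Cert.fp_iff_P M.hC M.hc hpw hC4 hP hzP).1 hck
    rw [h44, ← hye] at h1
    have h2 : f s = z := by
      calc f s = y⁻¹ * (y * f s * y⁻¹) * y := by group
        _ = y⁻¹ * (z * y) := by rw [h1, mul_assoc]
        _ = z := by rw [← (M.comm_z y).eq, inv_mul_cancel_left]
    obtain ⟨x, hx, hxc⟩ := M.exists_zeta
    have : s = x * x := M.inj (by rw [map_mul, hx, M.hC.z_sq, h2])
    exact absurd (this ▸ mul_mem hxc hxc) hs.2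
  · have hl8 : ∀ l ∈ iw e.2.2.1 ++ c.pw e ++ e.2.2.1, l < 8 := fun l hl => by
      simp only [List.mem_append] at hl
      rcases hl with (hl | hl) | hl
      exacts [iw_lt hy2 l hl, hpw l hl, hy2 l hl]
    have h1 := (M.eq_iff hl8 (by simp)).2 hck
    rw [ONanRec.ev_append, ONanRec.ev_append, ev_iw, ← hye] at h1
    set q := (ev g e.2.2.1)⁻¹ * y with hq
    have h2 : q * f s * q⁻¹ = ev g [0] := by rw [← h1, hq]; group
    by_cases hqr : q ∈ f.range
    · obtain ⟨n, hn⟩ := hqr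
      exact ⟨n, hn ▸ h2⟩
    · obtain ⟨-, hO, -, hOl, -, -⟩ := M.lists
      obtain ⟨w, hw⟩ : ∃ w, w ∈ d.Do := List.exists_mem_of_length_pos (by omega)
      obtain ⟨hw8, hwr, hwc⟩ := hO w hw
      obtain ⟨u, hu, hqu⟩ := M.word q
      have hwu : ∀ l ∈ w ++ u, l < 8 := fun l hl => (List.mem_append.1 hl).elim (hw8 l) (hu l)
      have hp : xPar (w ++ u) = 0 := by
        have a1 : ¬ xPar w = 0 := fun h => hwr ((M.range_iff w hw8).2 h)
        have a2 : ¬ xPar u = 0 := fun h => hqr (hqu ▸ (M.range_iff u hu).2 h)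
        rw [xPar_append]
        simp only [xPar] at a1 a2 ⊢
        omega
      obtain ⟨n, hn⟩ := (M.range_iff _ hwu).2 hp
      refine ⟨n, ?_⟩
      rw [hn, ONanRec.ev_append, hqu, show ev g w * q * f s * (ev g w * q)⁻¹ =
        ev g w * (q * f s * q⁻¹) * (ev g w)⁻¹ by group, h2, ← hwc.eq, mul_inv_cancel_right]

theorem one_class {s s' : L} (hs : Inner s) (hs' : Inner s') : ∃ n : L, n * s * n⁻¹ = s' := by
  obtain ⟨n, hn⟩ := M.exists_conj hs
  obtain ⟨m, hm⟩ := M.exists_conj hs'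
  refine ⟨m⁻¹ * n, M.inj ?_⟩
  simp only [map_mul, map_inv, mul_inv_rev, inv_inv]
  rw [show (f m)⁻¹ * f n * f s * ((f n)⁻¹ * f m) = (f m)⁻¹ * (f n * f s * (f n)⁻¹) * f m by group, hn, ← hm]
  group

/-- A two-element is carried into the listed Sylow subgroup. -/
theorem conj_list {x : H} (hx : ∃ m, x ^ 2 ^ m = 1) :
    ∃ y : H, ∃ e ∈ c.pl, y * x * y⁻¹ = ev g (c.pw e) := by
  haveI : Fact (Nat.Prime 2) := ⟨Nat.prime_two⟩
  obtain ⟨hP, hP512, -⟩ := Cert.lists_eq M.hC M.hc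
  set a := ev g [0]
  set S : Set H := {a, a * z}
  have hcarrier : (Subgroup.normalizer S : Set H) = Cert.PSet z g := by
    ext v
    constructor
    · intro hv
      exact ⟨M.mem_top v, by simpa [S] using (Subgroup.mem_set_normalizer_iff.1 hv a).1 (by simp [S])⟩
    · rintro ⟨-, hv⟩
      have haz : v * (a * z) * v⁻¹ = v * a * v⁻¹ * z := by
        have : z * v⁻¹ = v⁻¹ * z := (M.comm_z v⁻¹).symm.eq
        rw [mul_assoc _ v⁻¹ z, ← this]
        simp only [mul_assoc]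
      have h1 : ∀ w ∈ S, v * w * v⁻¹ ∈ S := by
        rintro w (rfl | rfl)
        · exact hv
        · rw [haz]
          rcases hv with h | h <;> rw [h]
          · exact .inr rfl
          · exact .inl (by rw [mul_assoc, M.z_sq, mul_one])
      have h2 : (fun w => v * w * v⁻¹) '' S = S :=
        Set.eq_of_subset_of_ncard_le (by rintro _ ⟨w, hw, rfl⟩; exact h1 w hw)
          (by rw [Set.ncard_image_of_injective _ fun a b e => mul_left_cancel (mul_right_cancel e)]) (Set.toFinite _)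
      refine Subgroup.mem_set_normalizer_iff.2 fun w => ⟨h1 w, fun hw => ?_⟩
      rw [← h2] at hw
      obtain ⟨w', hw', e⟩ := hw
      rwa [← mul_left_cancel (mul_right_cancel e)]
  have hcard : Nat.card ↥(Subgroup.normalizer S) = 512 := by
    rw [← hP512, ← hcarrier, ← Nat.card_coe_set_eq]
    rfl
  have hH : Nat.card H = 161280 := by
    rw [← M.hC.card, M.top, Subgroup.card_top]
  let Q : Sylow 2 H := Sylow.ofCard (Subgroup.normalizer S) (by
    rw [hcard, hH, show (161280 : ℕ) = 2 ^ 9 * 315 by norm_num,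
      Nat.factorization_mul (by norm_num) (by norm_num), Nat.Prime.factorization_pow Nat.prime_two]
    simp [Nat.factorization_eq_zero_of_not_dvd])
  obtain ⟨m, hm⟩ := hx
  have hxo : IsPGroup 2 (Subgroup.zpowers x) := by
    obtain ⟨j, -, hj⟩ := (Nat.dvd_prime_pow Nat.prime_two).1 (orderOf_dvd_of_pow_eq_one hm)
    exact IsPGroup.of_card (n := j) (by rw [Nat.card_zpowers, hj])
  obtain ⟨R, hR⟩ := hxo.exists_le_sylow
  obtain ⟨y, hy⟩ := MulAction.exists_smul_eq H R Q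
  have hmem : y * x * y⁻¹ ∈ (Q : Subgroup H) := by
    rw [← hy]
    exact ⟨x, hR (Subgroup.mem_zpowers x), by simp⟩
  have hm' : y * x * y⁻¹ ∈ Cert.PSet z g := by rw [← hcarrier]; exact hmem
  rw [hP] at hm'
  obtain ⟨e, he, he'⟩ := hm'
  exact ⟨y, e, he, he'.symm⟩

end Model

end CfsgLib.StdON
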