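import Cfsg.Agent.Lib.StdON.OddLocal
import Cfsg.Agent.Lib.ONanRec.Main
import Cfsg.Agent.Lib.Invol.ZStarFinal
import Cfsg.Agent.Lib.Cores.Basic

/-!
# The group with such a centraliser of an involution is O'Nan

The simple normal closure of `z` contains the whole centraliser, for otherwise its centraliser of `z` would be `L`
and the roots of `z` and of an inner involution exchanged with it would differ; so it is O'Nan and, O'Nan having one
class of involutions, it is everything.
-/

set_option autoImplicit false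

namespace CfsgLib.StdON

open Subgroup

/-- The shape is preserved by isomorphisms. -/
theorem IsFour.congr {X Y : Type*} [Group X] [Group Y] (e : X ≃* Y) (h : IsFour X) : IsFour Y := by
  obtain ⟨hp, hc, h4, F, iF, iF', hF, ⟨f⟩⟩ := h
  haveI := hc
  refine ⟨?_, isCyclic_of_surjective (centerCongr e).toMonoidHom (centerCongr e).surjective,
    (Nat.card_congr (centerCongr e).toEquiv).symm.trans h4, F, iF, iF', hF, ⟨?_⟩⟩
  · have h1 := congrArg (Subgroup.map e.toMonoidHom) hp
    rwa [_root_.commutator_def, map_commutator, map_top_of_surjective _ e.surjective, ← _root_.commutator_def] at h1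
  · refine (QuotientGroup.congr (center Y) (center X) e.symm ?_).trans f
    ext x
    constructor
    · rintro ⟨y, hy, rfl⟩
      exact mem_center_iff.2 fun g => e.injective (by simpa using mem_center_iff.1 hy (e g))
    · intro hx
      exact ⟨e x, mem_center_iff.2 fun g => e.symm.injective (by simpa using mem_center_iff.1 hx (e.symm g)),
        e.symm_apply_apply x⟩

namespace Local

variable {Q : Type*} [Group Q] [Finite Q] {z : Q} {L : Subgroup Q} (H : Local z L)
include H

/-- The normal closure of `z` contains the centraliser of `z`. -/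
theorem cent_le_closure : centralizer ({z} : Set Q) ≤ normalClosure ({z} : Set Q) := by
  set C := centralizer ({z} : Set Q) with hC
  set N := normalClosure ({z} : Set Q) with hN
  haveI : N.Normal := normalClosure_normal
  by_contra hle
  have hzN : z ∈ N := subset_normalClosure rfl
  have hLCN : L ≤ C ⊓ N := le_inf H.le H.le_closure
  have heq : C ⊓ N = L := by
    have hcd : Nat.card (C ⊓ N : Subgroup Q) ∣ 2 * Nat.card L := H.card ▸ card_dvd_of_le inf_le_left
    obtain ⟨i, hi⟩ := card_dvd_of_le hLCN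
    rw [hi, mul_comm (Nat.card L) i] at hcd
    have hi2 : i ∣ 2 := (Nat.mul_dvd_mul_iff_right Nat.card_pos).1 hcd
    rcases (Nat.dvd_prime Nat.prime_two).1 hi2 with e | e
    · rw [e, mul_one] at hi
      exact (eq_of_le_of_card_ge hLCN (by rw [hi])).symm
    · exfalso
      have e' : C ⊓ N = C := eq_of_le_of_card_ge inf_le_left (by rw [H.card, hi, e, mul_comm])
      exact hle (e' ▸ inf_le_right)
  haveI := H.simple_closure
  have hncomm : ∀ n : N, (∀ m : N, Commute n m) → n = 1 := by
    intro n hn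
    by_contra h1
    rcases (inferInstance : IsSimpleGroup N).eq_bot_or_eq_top_of_normal (center N) inferInstance with h | h
    · exact h1 ((eq_bot_iff_forall _).1 h n (mem_center_iff.2 fun m => (hn m).eq.symm))
    · obtain ⟨g, hgL, hgne⟩ := H.fused
      have hs := H.inner_of hgL
        (by rw [show g * z * g⁻¹ * (g * z * g⁻¹) = g * (z * z) * g⁻¹ by group, H.zz, mul_one, mul_inv_cancel])
        (fun e => H.z_ne (conj_eq_one_iff.1 e)) hgne
      refine hs.2 (mem_center_iff.2 fun m => Subtype.ext ?_)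
      exact (congrArg (fun y : N => (y : Q)) (mem_center_iff.1 (h.ge (mem_top (⟨_, H.le_closure hgL⟩ : N)))
        ⟨m, H.le_closure m.2⟩) :)
  have hzO : orderOf (⟨z, hzN⟩ : N) = 2 := by rw [← orderOf_coe]; exact H.ord
  have hO : Cfsg.oddCore N = ⊥ := CfsgLib.Invol.oddCore_eq_bot_of fun K hK hodd => by
    rcases (inferInstance : IsSimpleGroup N).eq_bot_or_eq_top_of_normal K hK with h | h
    · exact h
    · exfalso
      rw [h, card_top] at hodd
      exact Nat.not_even_iff_odd.2 hodd (even_iff_two_dvd.2 (hzO ▸ orderOf_dvd_natCard _))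
  have hiso : ¬ Cfsg.IsIsolatedInvolution (⟨z, hzN⟩ : N) := fun hi => by
    have hc := CfsgLib.Invol.zstar_center hi hO
    have := hncomm _ fun m => (mem_center_iff.1 hc m).symm
    exact H.z_ne (congrArg Subtype.val this)
  simp only [Cfsg.IsIsolatedInvolution, hzO, true_and, not_forall] at hiso
  obtain ⟨⟨h, hhN⟩, hcomm, hne⟩ := hiso
  have hcomm' : Commute z (h * z * h⁻¹) := congrArg Subtype.val hcomm.eq
  have hne' : h * z * h⁻¹ ≠ z := fun e => hne (Subtype.ext e)
  set x := h * z * h⁻¹ with hx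
  have hmemL : ∀ y : Q, y ∈ N → Commute y z → y ∈ L := fun y hy hyz =>
    heq ▸ mem_inf.2 ⟨mem_centralizer_singleton_iff.2 hyz.eq, hy⟩
  have hxN : x ∈ N := (inferInstance : N.Normal).conj_mem z hzN h
  have hxL : x ∈ L := hmemL x hxN hcomm'.symm
  have hx2 : x * x = 1 := by
    rw [hx, show h * z * h⁻¹ * (h * z * h⁻¹) = h * (z * z) * h⁻¹ by group, H.zz, mul_one, mul_inv_cancel]
  have hx1 : x ≠ 1 := fun e => H.z_ne (conj_eq_one_iff.1 e)
  set u := h⁻¹ * z * h with hu
  have hu2 : u * u = 1 := by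
    rw [hu, show h⁻¹ * z * h * (h⁻¹ * z * h) = h⁻¹ * (z * z) * h by group, H.zz, mul_one, inv_mul_cancel]
  have hu1 : u ≠ 1 := fun e => H.z_ne (by
    rw [show z = h * u * h⁻¹ by rw [hu]; group, e, mul_one, mul_inv_cancel])
  have huz : u ≠ z := fun e => hne' ((congrArg (fun y => h * y * h⁻¹) e).symm.trans (by rw [hu]; group))
  have huL : u ∈ L := hmemL u (by simpa [hu] using (inferInstance : N.Normal).conj_mem z hzN h⁻¹) (by
    have e := hcomm'.map (MulAut.conj h⁻¹).toMonoidHom
    simpa [hx, hu, mul_assoc] using e)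
  obtain ⟨k, hk⟩ := H.one_class _ _ (H.inner_of huL hu2 hu1 huz) (H.inner_of hxL hx2 hx1 hne')
  have hk' : (k : Q) * u * (k : Q)⁻¹ = x := congrArg Subtype.val hk
  set n := h * (k : Q)⁻¹ with hn
  have hkz : (k : Q)⁻¹ * z * k = z := by
    rw [mul_assoc, ← (H.comm k.2).eq, inv_mul_cancel_left]
  have hn1 : n * z * n⁻¹ = x := by
    rw [hn, show h * (k : Q)⁻¹ * z * (h * (k : Q)⁻¹)⁻¹ = h * ((k : Q)⁻¹ * z * k) * h⁻¹ by group, hkz]
  have hn2 : n * x * n⁻¹ = z := by
    rw [← hk', hn, hu]; group
  have hnN : n ∈ N := mul_mem hhN (inv_mem (H.le_closure k.2))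
  have hmove : ∀ a b : Q, n * a * n⁻¹ = b → ∀ v : Q, Commute v a → Commute (n * v * n⁻¹) b := by
    rintro a _ rfl v hv
    exact hv.map (MulAut.conj n).toMonoidHom
  have hlift : ∀ v : L, Commute (v : Q) x → ∃ w : L, (w : Q) = n * v * n⁻¹ ∧ w ∈ cent (⟨x, hxL⟩ : L) := by
    intro v hv
    refine ⟨⟨_, hmemL _ (mul_mem (mul_mem hnN (H.le_closure v.2)) (inv_mem hnN)) (hmove x z hn2 v hv)⟩, rfl, ?_⟩
    exact mem_centralizer_singleton_iff.2 (Subtype.ext (hmove z x hn1 v (H.comm v.2)).eq)
  have hcent : ∀ v : L, v ∈ cent (⟨x, hxL⟩ : L) → Commute (v : Q) x := fun v hv =>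
    congrArg Subtype.val (mem_centralizer_singleton_iff.1 hv)
  choose f hf hf' using hlift
  have hxI := H.inner_of hxL hx2 hx1 hne'
  refine H.roots _ hxI ⟨z, H.mem⟩ H.z_center (fun e => H.z_ne (congrArg Subtype.val e)) (Subtype.ext H.zz) ?_
  refine Set.ncard_congr (fun v hv => f v (hcent v hv.1)) (fun v hv => ⟨hf' v _, Subtype.ext ?_⟩)
    (fun v w hv hw e => Subtype.ext ?_) fun w hw => ?_
  · rw [Subgroup.coe_mul, hf, show n * v * n⁻¹ * (n * v * n⁻¹) = n * ((v : Q) * v) * n⁻¹ by group,
      show (v : Q) * v = z from congrArg Subtype.val hv.2, hn1]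
  · have e' := congrArg (fun y : L => (y : Q)) e
    simp only [hf] at e'
    exact mul_left_cancel (mul_right_cancel e')
  · have hwx := hcent w hw.1
    have h1 := hmove z x hn1 _ (H.comm w.2)
    obtain ⟨v, hv⟩ : ∃ v : L, (v : Q) = n⁻¹ * w * n := by
      refine ⟨⟨_, hmemL _ (mul_mem (mul_mem (inv_mem hnN) (H.le_closure w.2)) hnN) ?_⟩, rfl⟩
      have e := hwx.map (MulAut.conj n⁻¹).toMonoidHom
      have hz' : n⁻¹ * x * n = z := by rw [← hn1]; group
      simpa [← hz', mul_assoc] using e
    refine ⟨v, ⟨mem_centralizer_singleton_iff.2 (Subtype.ext ?_), Subtype.ext ?_⟩, Subtype.ext ?_⟩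
    · have e := (H.comm w.2).map (MulAut.conj n⁻¹).toMonoidHom
      have hx' : n⁻¹ * z * n = x := by rw [← hn2]; group
      show (v : Q) * x = x * v
      rw [hv, ← hx']
      simpa [mul_assoc] using e.eq
    · rw [Subgroup.coe_mul, hv, show n⁻¹ * w * n * (n⁻¹ * w * n) = n⁻¹ * ((w : Q) * w) * n by group,
        show (w : Q) * w = x from congrArg Subtype.val hw.2, ← hn1]
      group
    · rw [hf, hv]; group

/-- The normal closure of `z` is O'Nan. -/
theorem closure_on : Cfsg.Spor.IsoON (normalClosure ({z} : Set Q)) := by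
  set N := normalClosure ({z} : Set Q) with hN
  haveI := H.simple_closure
  have hzN : z ∈ N := subset_normalClosure rfl
  set zN : N := ⟨z, hzN⟩ with hzN'
  set CN := centralizer ({zN} : Set N) with hCN
  let eC : CN ≃* centralizer ({z} : Set Q) :=
    { toFun := fun c => ⟨(c : N), mem_centralizer_singleton_iff.2
        (congrArg Subtype.val (mem_centralizer_singleton_iff.1 c.2))⟩
      invFun := fun c => ⟨⟨c, H.cent_le_closure c.2⟩, mem_centralizer_singleton_iff.2
        (Subtype.ext (mem_centralizer_singleton_iff.1 c.2))⟩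
      left_inv := fun c => rfl
      right_inv := fun c => rfl
      map_mul' := fun a b => rfl }
  set M := (L.subgroupOf (centralizer ({z} : Set Q))).comap eC.toMonoidHom with hM
  have hmemM : ∀ c : CN, c ∈ M ↔ ((c : N) : Q) ∈ L := fun c => Iff.rfl
  haveI : M.Normal := ⟨fun a ha g => by
    rw [hmemM] at ha ⊢
    exact H.norm _ (mem_centralizer_singleton_iff.1 (eC g).2) _ ha⟩
  have hidx : M.index = 2 := by
    rw [hM, index_comap_of_surjective _ eC.surjective]
    refine Nat.eq_of_mul_eq_mul_right (Nat.card_pos (α := L)) ?_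
    have h2 := (L.subgroupOf (centralizer ({z} : Set Q))).index_mul_card
    rwa [Nat.card_congr (subgroupOfEquivOfLe H.le).toEquiv, H.card] at h2
  have hout : centralizer (M : Set CN) ≤ M := fun c hc => by
    rw [hmemM]
    refine H.out _ fun l hl => ?_
    have e := mem_centralizer_iff.1 hc ⟨⟨l, H.le_closure hl⟩,
      mem_centralizer_singleton_iff.2 (Subtype.ext (H.comm hl).eq)⟩ hl
    exact (congrArg (fun y : CN => ((y : N) : Q)) e).symm
  let eM : L ≃* M :=
    { toFun := fun l => ⟨⟨⟨l, H.le_closure l.2⟩, mem_centralizer_singleton_iff.2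
        (Subtype.ext (H.comm l.2).eq)⟩, l.2⟩
      invFun := fun m => ⟨((m : CN) : N), m.2⟩
      left_inv := fun l => rfl
      right_inv := fun m => rfl
      map_mul' := fun a b => rfl }
  obtain ⟨hp, hc, h4, F, _, _, hF, ⟨f⟩⟩ := H.four.congr eM
  exact CfsgLib.ONanRec.isoON zN (by rw [← orderOf_coe]; exact H.ord) M hidx hout hc h4 hp F hF f

/-- The group is O'Nan and has one class of involutions. -/
theorem iso_on : Cfsg.Spor.IsoON Q ∧ ∀ u : Q, orderOf u = 2 → IsConj z u := by
  set N := normalClosure ({z} : Set Q) with hN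
  haveI : N.Normal := normalClosure_normal
  have hzN : z ∈ N := subset_normalClosure rfl
  obtain ⟨e⟩ := H.closure_on
  have hone : ∀ u : N, orderOf u = 2 → IsConj (⟨z, hzN⟩ : N) u := by
    intro u hu
    have h1 := CfsgLib.ONanRec.one_class (e u) (by rw [MulEquiv.orderOf_eq, hu])
    have h2 := CfsgLib.ONanRec.one_class (e ⟨z, hzN⟩) (by rw [MulEquiv.orderOf_eq, ← orderOf_coe]; exact H.ord)
    have := e.symm.toMonoidHom.map_isConj (h2.symm.trans h1)
    simpa using this
  have htop : N = ⊤ := eq_top_iff.2 fun q _ => by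
    obtain ⟨⟨n, hn⟩, hnz⟩ := isConj_iff.1 (hone ⟨_, (inferInstance : N.Normal).conj_mem z hzN q⟩
      (by rw [← orderOf_coe]; exact (CfsgLib.Invol.orderOf_conj_eq q z).trans H.ord))
    have e' : n * z * n⁻¹ = q * z * q⁻¹ := congrArg Subtype.val hnz
    have hc : n⁻¹ * q ∈ N := H.cent_le_closure (mem_centralizer_singleton_iff.2 (mul_inv_eq_iff_eq_mul.1 (by
      rw [show n⁻¹ * q * z * (n⁻¹ * q)⁻¹ = n⁻¹ * (q * z * q⁻¹) * n by group, ← e']; group)))
    simpa using N.mul_mem hn hc
  refine ⟨⟨(topEquiv.symm.trans (MulEquiv.subgroupCongr htop.symm)).trans e⟩, fun u hu => ?_⟩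
  obtain ⟨g, hg⟩ := isConj_iff.1 (hone ⟨u, htop ▸ mem_top u⟩ (by rw [← orderOf_coe]; exact hu))
  exact isConj_iff.2 ⟨(g : Q), congrArg Subtype.val hg⟩

end Local

end CfsgLib.StdON
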