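import Cfsg.Agent.Lib.StdON.Basic
import Cfsg.Agent.Lib.Schur.L34Bound
import Cfsg.Agent.Lib.Classical.SLBasic
import Mathlib.GroupTheory.FixedPointFree

/-!
# Normal subgroups of a group with such a centraliser of an involution

`C(z)` has `L ≅ 4.L3(4)` as a subgroup of index two containing its centraliser and `z` is fused to another
involution of `L`. A subgroup normalised by a normal subgroup above `L` is trivial or contains `z`, so the normal
closure of `z` is simple and contains `L`.
-/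

set_option autoImplicit false

namespace CfsgLib.StdON

open Subgroup
open scoped commutatorElement

/-- The order of a group of this type. -/
theorem IsFour.card {X : Type*} [Group X] [Finite X] (h : IsFour X) : Nat.card X = 80640 := by
  obtain ⟨-, -, h4, F, _, _, hF, ⟨e⟩⟩ := h
  rw [card_eq_card_quotient_mul_card_subgroup (center X), Nat.card_congr e.toEquiv,
    CfsgLib.Schur.L34.card_PSL34 hF, h4]

/-- A normal subgroup is central or everything. -/
theorem IsFour.normal_cases {X : Type*} [Group X] (h : IsFour X) (K : Subgroup X) [K.Normal] :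
    K ≤ center X ∨ K = ⊤ := by
  obtain ⟨hperf, -, -, F, _, _, -, ⟨e⟩⟩ := h
  have hs : IsSimpleGroup (Matrix.ProjectiveSpecialLinearGroup (Fin 3) F) :=
    CfsgLib.Classical.isSimpleGroup_PSL (by simp)
  set τ := e.toMonoidHom.comp (QuotientGroup.mk' (center X)) with hτ
  have hτs : Function.Surjective τ := e.surjective.comp (QuotientGroup.mk'_surjective _)
  have hker : τ.ker = center X := by
    ext x; simp [hτ]
  rcases hs.eq_bot_or_eq_top_of_normal (K.map τ) (Subgroup.Normal.map ‹_› τ hτs) with h1 | h1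
  · exact Or.inl (hker ▸ (map_eq_bot_iff K).1 h1)
  · refine Or.inr (top_le_iff.1 ?_)
    rw [← hperf, _root_.commutator_def, commutator_le]
    intro u _ v _
    obtain ⟨n, hn, hn'⟩ := h1.ge (mem_top (τ u))
    have hc : n⁻¹ * u ∈ center X := by
      rw [← hker, MonoidHom.mem_ker, map_mul, map_inv, hn', inv_mul_cancel]
    have e1 : ⁅u, v⁆ = n * (v * n⁻¹ * v⁻¹) := by
      have hcv := mem_center_iff.1 hc v
      rw [commutatorElement_def]
      calc u * v * u⁻¹ * v⁻¹ = n * ((n⁻¹ * u) * v) * (n⁻¹ * u)⁻¹ * n⁻¹ * v⁻¹ := by group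
        _ = n * (v * (n⁻¹ * u)) * (n⁻¹ * u)⁻¹ * n⁻¹ * v⁻¹ := by rw [hcv]
        _ = _ := by group
    rw [e1]
    exact K.mul_mem hn ((inferInstance : K.Normal).conj_mem _ (K.inv_mem hn) v)

/-- An element of square one is `1` or the given one. -/
theorem unique_invol {A : Type*} [Group A] [Finite A] [IsCyclic A] {a b : A} (ha : orderOf a = 2)
    (hb : b * b = 1) : b = 1 ∨ b = a := by
  rcases eq_or_ne b 1 with h | h
  · exact Or.inl h
  haveI := Fintype.ofFinite A
  classical
  have hle := IsCyclic.card_pow_eq_one_le (α := A) (n := 2) (by norm_num)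
  by_contra hc
  push Not at hc
  have h3 : ({1, a, b} : Finset A) ⊆ Finset.univ.filter fun x => x ^ 2 = 1 := by
    intro x hx
    simp only [Finset.mem_insert, Finset.mem_singleton] at hx
    rcases hx with rfl | rfl | rfl
    · simp
    · simp [← ha, pow_orderOf_eq_one]
    · simp [pow_two, hb]
  have hne : (1 : A) ≠ a := fun e => by rw [← e, orderOf_one] at ha; omega
  have hcard : ({1, a, b} : Finset A).card = 3 := by
    rw [Finset.card_insert_of_notMem, Finset.card_pair hc.2.symm]
    simp [hne, hc.1.symm]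
  have := (Finset.card_le_card h3).trans hle
  omega

variable {Q : Type*} [Group Q]

/-- The local hypotheses. -/
structure Local (z : Q) (L : Subgroup Q) : Prop where
  /-- `z` is an involution -/
  ord : orderOf z = 2
  /-- in `L` -/
  mem : z ∈ L
  /-- centralised by `L` -/
  le : L ≤ centralizer ({z} : Set Q)
  /-- the shape of `L` -/
  four : IsFour L
  /-- its centraliser normalises `L` -/
  norm : ∀ c : Q, Commute c z → ∀ l ∈ L, c * l * c⁻¹ ∈ L
  /-- with index two -/
  card : Nat.card (centralizer ({z} : Set Q)) = 2 * Nat.card L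
  /-- and has no more centraliser of `L` -/
  out : ∀ c : Q, (∀ l ∈ L, Commute c l) → c ∈ L
  /-- inner involutions are conjugate -/
  one_class : ∀ s s' : L, Inner s → Inner s' → ∃ g : L, g * s * g⁻¹ = s'
  /-- the roots separate `z` and an inner involution -/
  roots : ∀ s : L, Inner s → ∀ c ∈ center L, c ≠ 1 → c * c = 1 →
    {v : L | v ∈ cent s ∧ v * v = c}.ncard ≠ {v : L | v ∈ cent s ∧ v * v = s}.ncard
  /-- `z` is fused to another element of `L` -/
  fused : ∃ g : Q, g * z * g⁻¹ ∈ L ∧ g * z * g⁻¹ ≠ z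

namespace Local

variable {z : Q} {L : Subgroup Q} (H : Local z L)
include H

theorem zz : z * z = 1 := by rw [← pow_two, ← H.ord, pow_orderOf_eq_one]

theorem z_ne : z ≠ 1 := fun h => by
  have := H.ord
  rw [h, orderOf_one] at this
  omega

theorem comm {l : Q} (hl : l ∈ L) : Commute l z := mem_centralizer_singleton_iff.1 (H.le hl)

theorem z_center : (⟨z, H.mem⟩ : L) ∈ center L :=
  mem_center_iff.2 fun l => Subtype.ext (H.comm l.2).eq

/-- The only involution of the centre is `z`. -/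
theorem center_invol [Finite Q] {c : L} (hc : c ∈ center L) (h2 : c * c = 1) : c = 1 ∨ (c : Q) = z := by
  haveI := H.four.2.1
  have ho : orderOf (⟨⟨z, H.mem⟩, H.z_center⟩ : center L) = 2 := by
    rw [← orderOf_coe, ← orderOf_coe]; exact H.ord
  rcases unique_invol ho (b := ⟨c, hc⟩) (Subtype.ext h2) with e | e
  · exact Or.inl (congrArg Subtype.val e :)
  · exact Or.inr (congrArg (fun x : center L => ((x : L) : Q)) e)

/-- An involution of `L` other than `z` is inner. -/
theorem inner_of [Finite Q] {s : Q} (hs : s ∈ L) (h2 : s * s = 1) (h1 : s ≠ 1) (hz : s ≠ z) :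
    Inner (⟨s, hs⟩ : L) :=
  ⟨Subtype.ext h2, fun hc => (H.center_invol hc (Subtype.ext h2)).elim (fun e => h1 (congrArg Subtype.val e))
    fun e => hz e⟩

/-- A nontrivial normal subgroup of `L` contains `z`. -/
theorem z_mem_normal [Finite Q] (K : Subgroup L) [K.Normal] (hK : K ≠ ⊥) : (⟨z, H.mem⟩ : L) ∈ K := by
  rcases H.four.normal_cases K with h | h
  · have h4 : Nat.card (center L) = 4 := H.four.2.2.1
    obtain ⟨⟨k, hk⟩, hk1⟩ := ne_bot_iff_exists_ne_one.1 hK
    have hk1' : k ≠ 1 := fun e => hk1 (Subtype.ext e)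
    have h4k : k ^ 4 = 1 := by
      have h' := pow_card_eq_one' (x := (⟨k, h hk⟩ : center L))
      rw [h4] at h'
      simpa using congrArg Subtype.val h'
    rcases eq_or_ne (k * k) 1 with e | e
    · rcases H.center_invol (h hk) e with e' | e'
      · exact absurd e' hk1'
      · rwa [show (⟨z, H.mem⟩ : L) = k from Subtype.ext e'.symm]
    · rcases H.center_invol (mul_mem (h hk) (h hk)) (by rw [← h4k]; simp [pow_succ, mul_assoc]) with e' | e'
      · exact absurd e' e
      · rw [show (⟨z, H.mem⟩ : L) = k * k from Subtype.ext e'.symm]; exact K.mul_mem hk hk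
  · rw [h]; exact mem_top _

/-- A subgroup normalised by `L` meets `L` trivially or contains `z`. -/
theorem z_mem_of_meet [Finite Q] {K : Subgroup Q} (hK : ∀ l ∈ L, ∀ k ∈ K, l * k * l⁻¹ ∈ K) {x : Q}
    (hxL : x ∈ L) (hxK : x ∈ K) (hx : x ≠ 1) : z ∈ K := by
  haveI : (K.subgroupOf L).Normal := ⟨fun k hk l => hK l l.2 k hk⟩
  have hne : K.subgroupOf L ≠ ⊥ := fun e => hx (by
    have h1 : (⟨x, hxL⟩ : L) ∈ K.subgroupOf L := hxK
    rw [e, mem_bot] at h1
    exact congrArg Subtype.val h1)
  exact H.z_mem_normal _ hne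

/-- Such a subgroup without `z` is inverted by `z`. -/
theorem inverted [Finite Q] {K : Subgroup Q} (hK : ∀ l ∈ L, ∀ k ∈ K, l * k * l⁻¹ ∈ K) (hzK : z ∉ K) :
    (∀ k ∈ K, z * k * z⁻¹ = k⁻¹) ∧ ∀ k ∈ K, Commute k z → k = 1 := by
  have htriv : ∀ k ∈ K, Commute k z → k = 1 := fun k hk hkz => by
    have hcomm : ∀ l ∈ L, Commute k l := fun l hl => by
      by_contra hne
      refine hzK (H.z_mem_of_meet hK (x := k * l * k⁻¹ * l⁻¹) (mul_mem (H.norm k hkz l hl) (inv_mem hl)) ?_ ?_)
      · rw [show k * l * k⁻¹ * l⁻¹ = k * (l * k⁻¹ * l⁻¹) by group]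
        exact K.mul_mem hk (hK l hl _ (inv_mem hk))
      · exact fun e => hne (mul_inv_eq_iff_eq_mul.1 (mul_inv_eq_one.1 e))
    by_contra h1
    exact hzK (H.z_mem_of_meet hK (H.out k hcomm) hk h1)
  refine ⟨?_, htriv⟩
  let φ : K →* K :=
    { toFun := fun k => ⟨z * k * z⁻¹, hK z H.mem k k.2⟩
      map_one' := Subtype.ext (by simp)
      map_mul' := fun a b => Subtype.ext (by simp [mul_assoc]) }
  have hfpf : MonoidHom.FixedPointFree φ := fun k hk =>
    Subtype.ext (htriv k k.2 (mul_inv_eq_iff_eq_mul.1 (congrArg Subtype.val hk)).symm)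
  have hinv : Function.Involutive φ := fun k => Subtype.ext (by
    show z * (z * k * z⁻¹) * z⁻¹ = (k : Q)
    rw [show z * (z * (k : Q) * z⁻¹) * z⁻¹ = z * z * k * (z * z)⁻¹ by group, H.zz]
    simp)
  intro k hk
  exact congrArg Subtype.val (congrFun (hfpf.coe_eq_inv_of_involutive hinv) ⟨k, hk⟩)

/-- A subgroup normalised by a normal subgroup above `L` is trivial or contains `z`. -/
theorem z_mem [Finite Q] {N K : Subgroup Q} [N.Normal] (hN : L ≤ N) (hK : ∀ n ∈ N, ∀ k ∈ K, n * k * n⁻¹ ∈ K)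
    (hne : K ≠ ⊥) : z ∈ K := by
  by_contra hzK
  have hKL : ∀ l ∈ L, ∀ k ∈ K, l * k * l⁻¹ ∈ K := fun l hl => hK l (hN hl)
  obtain ⟨g, hgL, hgne⟩ := H.fused
  set s := g * z * g⁻¹ with hs
  have hs1 : s ≠ 1 := fun e => H.z_ne (conj_eq_one_iff.1 e)
  have hs2 : s * s = 1 := by
    rw [hs, show g * z * g⁻¹ * (g * z * g⁻¹) = g * (z * z) * g⁻¹ by group, H.zz, mul_one, mul_inv_cancel]
  -- involutions of `L` other than `z` are conjugates of `z` inverting `K`
  have hinv : ∀ t : Q, t ∈ L → t * t = 1 → t ≠ 1 → t ≠ z → ∀ k ∈ K, t * k * t⁻¹ = k⁻¹ := by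
    intro t ht ht2 ht1 htz k hk
    obtain ⟨l, hl⟩ := H.one_class _ _ (H.inner_of hgL hs2 hs1 hgne) (H.inner_of ht ht2 ht1 htz)
    have hl' : (l : Q) * s * (l : Q)⁻¹ = t := congrArg Subtype.val hl
    set a := (l : Q) * g with ha
    have hat : a * z * a⁻¹ = t := by rw [← hl', hs, ha]; group
    set K' := K.comap (MulAut.conj a).toMonoidHom with hK'
    have hmem : ∀ x, x ∈ K' ↔ a * x * a⁻¹ ∈ K := fun x => Iff.rfl
    have hKL' : ∀ m ∈ L, ∀ x ∈ K', m * x * m⁻¹ ∈ K' := fun m hm x hx => by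
      rw [hmem, show a * (m * x * m⁻¹) * a⁻¹ = a * m * a⁻¹ * (a * x * a⁻¹) * (a * m * a⁻¹)⁻¹ by group]
      exact hK _ ((inferInstance : N.Normal).conj_mem m (hN hm) a) _ hx
    have hzK' : z ∉ K' := fun h => hzK (H.z_mem_of_meet hKL ht (hat ▸ h) ht1)
    have h1 := (H.inverted hKL' hzK').1 (a⁻¹ * k * a) (by rw [hmem]; simpa [mul_assoc] using hk)
    calc t * k * t⁻¹ = a * (z * (a⁻¹ * k * a) * z⁻¹) * a⁻¹ := by rw [← hat]; group
      _ = k⁻¹ := by rw [h1]; group
  obtain ⟨hz, htriv⟩ := H.inverted hKL hzK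
  refine hne ((eq_bot_iff_forall _).2 fun k hk => htriv k hk ?_)
  have hc : Commute s z := H.comm hgL
  have hzs2 : z * s * (z * s) = 1 := by
    rw [show z * s * (z * s) = z * (s * z) * s by group, hc.eq, show z * (z * s) * s = z * z * (s * s) by group,
      H.zz, hs2, one_mul]
  have hzs1 : z * s ≠ 1 := fun e =>
    hgne ((inv_eq_of_mul_eq_one_right e).symm.trans (inv_eq_of_mul_eq_one_right H.zz))
  have hzsz : z * s ≠ z := fun e => hs1 (mul_eq_left.1 e)
  have e1 := hinv _ (mul_mem H.mem hgL) hzs2 hzs1 hzsz k hk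
  have e2 : z * s * k * (z * s)⁻¹ = k := by
    rw [show z * s * k * (z * s)⁻¹ = z * (s * k * s⁻¹) * z⁻¹ by group, hinv s hgL hs2 hs1 hgne k hk,
      hz _ (inv_mem hk), inv_inv]
  have hk2 : k⁻¹ = k := e1.symm.trans e2
  have e3 := hz k hk
  rw [hk2] at e3
  exact (mul_inv_eq_iff_eq_mul.1 e3).symm

/-- The normal closure of `z` contains `L`. -/
theorem le_closure [Finite Q] : L ≤ normalClosure ({z} : Set Q) := by
  set N := normalClosure ({z} : Set Q) with hN
  obtain ⟨g, hgL, hgne⟩ := H.fused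
  have hzN : z ∈ N := subset_normalClosure rfl
  have hsN : g * z * g⁻¹ ∈ N := normalClosure_normal.conj_mem z hzN g
  haveI : (N.subgroupOf L).Normal := ⟨fun k hk l => normalClosure_normal.conj_mem _ hk _⟩
  rcases H.four.normal_cases (N.subgroupOf L) with h | h
  · exfalso
    have hs := H.inner_of hgL (by
      rw [show g * z * g⁻¹ * (g * z * g⁻¹) = g * (z * z) * g⁻¹ by group, H.zz, mul_one, mul_inv_cancel])
      (fun e => H.z_ne (conj_eq_one_iff.1 e)) hgne
    exact hs.2 (h (show (⟨_, hgL⟩ : L) ∈ N.subgroupOf L from hsN))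
  · exact subgroupOf_eq_top.1 h

/-- The normal closure of `z` is simple. -/
theorem simple_closure [Finite Q] : IsSimpleGroup (normalClosure ({z} : Set Q)) := by
  set N := normalClosure ({z} : Set Q) with hN
  haveI : N.Normal := normalClosure_normal
  have hzN : z ∈ N := subset_normalClosure rfl
  haveI : Nontrivial N := ⟨⟨⟨z, hzN⟩, 1, fun e => H.z_ne (congrArg Subtype.val e)⟩⟩
  refine ⟨fun K hK => ?_⟩
  rcases eq_or_ne K ⊥ with h | h
  · exact Or.inl h
  refine Or.inr (top_le_iff.1 fun x _ => ?_)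
  set S := normalClosure ({(⟨z, hzN⟩ : N)} : Set N) with hS
  have hmem : ∀ K' : Subgroup N, K'.Normal → K' ≠ ⊥ → (⟨z, hzN⟩ : N) ∈ K' := by
    intro K' hK' hne
    have h1 : z ∈ K'.map N.subtype := by
      refine H.z_mem H.le_closure (N := N) (fun n hn k hk => ?_) fun e => hne ((map_eq_bot_iff_of_injective _
        N.subtype_injective).1 e)
      obtain ⟨k, hk, rfl⟩ := hk
      exact ⟨_, hK'.conj_mem k hk ⟨n, hn⟩, rfl⟩
    obtain ⟨k, hk, e⟩ := h1
    rwa [show (⟨z, hzN⟩ : N) = k from Subtype.ext e.symm]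
  have hSK : S ≤ K := normalClosure_le_normal (Set.singleton_subset_iff.2 (hmem K hK h))
  haveI hSn : S.Normal := normalClosure_normal
  -- `S` is invariant under `Q`
  have hinv : ∀ (m : Q), ∀ y ∈ S, MulAut.conjNormal m y ∈ S := by
    intro m
    suffices S ≤ S.comap (MulAut.conjNormal m : MulAut N).toMonoidHom from fun y hy => this hy
    refine normalClosure_le_normal (Set.singleton_subset_iff.2 (hmem _ (hSn.comap _) fun e => ?_))
    have : (MulAut.conjNormal m : MulAut N).symm ⟨z, hzN⟩ ∈ S.comap (MulAut.conjNormal m : MulAut N).toMonoidHom := by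
      show MulAut.conjNormal m ((MulAut.conjNormal m : MulAut N).symm ⟨z, hzN⟩) ∈ S
      rw [MulEquiv.apply_symm_apply]
      exact subset_normalClosure rfl
    rw [e, mem_bot, MulEquiv.map_eq_one_iff] at this
    exact H.z_ne (congrArg Subtype.val this)
  haveI : (S.map N.subtype).Normal := ⟨by
    rintro _ ⟨y, hy, rfl⟩ m
    exact ⟨_, hinv m y hy, MulAut.conjNormal_apply _ _⟩⟩
  obtain ⟨y, hy, e⟩ := normalClosure_le_normal (N := S.map N.subtype)
    (Set.singleton_subset_iff.2 (show z ∈ S.map N.subtype from ⟨⟨z, hzN⟩, subset_normalClosure rfl, rfl⟩)) x.2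
  exact hSK (by rwa [show x = y from Subtype.ext e.symm])

end Local

end CfsgLib.StdON
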