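import Cfsg.Agent.Lib.StdON.Comp

/-!
# The facts on the cosets of `L` in `comp`
-/

set_option autoImplicit false

universe u

namespace CfsgLib.StdON

open Subgroup

variable {G : Type u} [Group G] {L : Subgroup G}

/-- The square roots of `w` in the coset of `x` commuting with `s`. -/
def part2 (L : Subgroup G) (x s w : G) : Set G := {t | t * x⁻¹ ∈ L ∧ Commute t s ∧ t * t = w}

/-- The fourth roots of `w` in the coset of `x` commuting with `s`. -/
def part4 (L : Subgroup G) (x s w : G) : Set G := {t | t * x⁻¹ ∈ L ∧ Commute t s ∧ t * t * (t * t) = w}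

/-- The involutions in the coset of `x` are conjugate under `L`. -/
def OneCoset (L : Subgroup G) (x : G) : Prop :=
  ∀ a b : G, a * x⁻¹ ∈ L → b * x⁻¹ ∈ L → a * a = 1 → b * b = 1 → ∃ n : L, (n : G) * a * (n : G)⁻¹ = b

/-- Every involution of the coset of `x` has an inner companion that is no square of an element of `L` commuting
    with it. -/
def RootlessCoset (L : Subgroup G) (x : G) : Prop :=
  ∀ a : G, a * x⁻¹ ∈ L → a * a = 1 → ∃ m : L, Inner m ∧
    (m : G) ∈ closure ((fun c : G => c * c) '' {c | Commute c a}) ∧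
    ∀ l : L, Commute (l : G) a → l * l ≠ m

namespace Setting

variable {ζ : L} [Finite G] [IsSimpleGroup G]

theorem comp_out (S : Setting L ζ) {x : G} (hx : x ∈ S.comp) (hxL : x ∉ L) : x ∉ LK L :=
  fun h => hxL (S.comp_LK hx h)

theorem coset_notMem (S : Setting L ζ) {x t : G} (hxL : x ∉ L) (ht : t * x⁻¹ ∈ L) : t ∉ L := fun h => hxL (by
  have := L.mul_mem (L.inv_mem ht) h
  rwa [_root_.mul_inv_rev, inv_inv, inv_mul_cancel_right] at this)

theorem coset_mem (S : Setting L ζ) {x t : G} (hx : x ∈ S.comp) (ht : t * x⁻¹ ∈ L) : t ∈ S.comp := by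
  have := mul_mem (S.le_comp ⟨_, ht⟩) hx
  rwa [inv_mul_cancel_right] at this

/-- Elements of a coset act alike on the centre. -/
theorem coset_zeta (S : Setting L ζ) {x t : G} (hx : Commute x (zc ζ)) (ht : t * x⁻¹ ∈ L) :
    t * (ζ : G) * t⁻¹ = x * ζ * x⁻¹ := by
  have e : Commute ((⟨_, ht⟩ : L) : G) (x * ζ * x⁻¹) := by
    rcases S.conj_zeta hx with e | e <;> rw [e]
    · exact commute_L S.zeta_cent _
    · exact (commute_L S.zeta_cent _).inv_right
  calc t * (ζ : G) * t⁻¹ = ((⟨_, ht⟩ : L) : G) * (x * ζ * x⁻¹) * ((⟨_, ht⟩ : L) : G)⁻¹ := by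
        show _ = t * x⁻¹ * _ * (t * x⁻¹)⁻¹
        group
    _ = _ := by rw [e.eq, mul_inv_cancel_right]

/-- Roots in a coset are the roots outside `L` in the extension. -/
theorem part_card (S : Setting L ζ) {x : G} (hx : x ∈ S.comp) (hxL : x ∉ L) (s w : L) :
    (part2 L x s w).ncard =
      (outRoots (S.extN x (S.comp_commute hx) (S.comp_sq hx))
        (((S.extEquiv x (S.comp_commute hx) (S.comp_sq hx)).symm s : S.extN x (S.comp_commute hx) (S.comp_sq hx)) :
          S.ext x (S.comp_commute hx) (S.comp_sq hx))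
        ((S.extEquiv x (S.comp_commute hx) (S.comp_sq hx)).symm w : S.extN x (S.comp_commute hx) (S.comp_sq hx))).ncard ∧
    (part4 L x s w).ncard =
      (outRoots4 (S.extN x (S.comp_commute hx) (S.comp_sq hx))
        (((S.extEquiv x (S.comp_commute hx) (S.comp_sq hx)).symm s : S.extN x (S.comp_commute hx) (S.comp_sq hx)) :
          S.ext x (S.comp_commute hx) (S.comp_sq hx))
        ((S.extEquiv x (S.comp_commute hx) (S.comp_sq hx)).symm w : S.extN x (S.comp_commute hx) (S.comp_sq hx))).ncard := by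
  constructor <;> rw [← Set.ncard_image_of_injective _ Subtype.val_injective] <;> congr 1 <;> ext t
  · constructor
    · rintro ⟨ht, hc, hw⟩
      exact ⟨⟨t, .inr ht⟩, ⟨fun h => S.coset_notMem hxL ht h, Subtype.ext hc.eq, Subtype.ext hw⟩, rfl⟩
    · rintro ⟨⟨t, ht⟩, ⟨hn, hc, hw⟩, rfl⟩
      exact ⟨ht.resolve_left fun h => hn h, congrArg Subtype.val hc.eq, congrArg Subtype.val hw⟩
  · constructor
    · rintro ⟨ht, hc, hw⟩
      exact ⟨⟨t, .inr ht⟩, ⟨fun h => S.coset_notMem hxL ht h, Subtype.ext hc.eq, Subtype.ext hw⟩, rfl⟩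
    · rintro ⟨⟨t, ht⟩, ⟨hn, hc, hw⟩, rfl⟩
      exact ⟨ht.resolve_left fun h => hn h, congrArg Subtype.val hc.eq, congrArg Subtype.val hw⟩

/-- Fourth roots in a coset. -/
theorem fourth_part (S : Setting L ζ) {x : G} (hx : x ∈ S.comp) (hxL : x ∉ L) {s : L} (hs : Inner s) :
    (part4 L x s s).ncard = 32 ∧ ((part4 L x s (zc ζ)).ncard = 0 ∨
      ((part4 L x s (zc ζ)).ncard = 64 ∧ (part2 L x s (zc ζ)).ncard = 0 ∧ (part2 L x s s).ncard = 0 ∧
        Commute x (ζ : G))) := by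
  let e := S.extEquiv x (S.comp_commute hx) (S.comp_sq hx)
  obtain ⟨h1, h2⟩ := (S.extFacts (S.comp_commute hx) (S.comp_sq hx) (S.comp_out hx hxL)).fourth (e.symm s)
    (hs.map e.symm) (e.symm (ζ * ζ)) ((center_congr e.symm).2 S.zL_center)
    (fun h => S.zL_ne_one (e.symm.injective (h.trans (map_one _).symm)))
    (by rw [← map_mul, S.zL_sq, map_one])
  refine ⟨(S.part_card hx hxL s s).2.trans h1, ?_⟩
  rcases h2 with h2 | ⟨h2, h3, h4, h5⟩
  · exact .inl ((S.part_card hx hxL s (ζ * ζ)).2.trans h2)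
  · refine .inr ⟨(S.part_card hx hxL s (ζ * ζ)).2.trans h2, (S.part_card hx hxL s (ζ * ζ)).1.trans h3,
      (S.part_card hx hxL s s).1.trans h4, ?_⟩
    exact (congrArg Subtype.val
      (h5 ⟨x, S.self_mem_ext _ _ _⟩ (e.symm ζ) ((center_congr e.symm).2 S.zeta_center)).eq :).symm

/-- Square roots in a coset inverting the centre. -/
theorem invert_part (S : Setting L ζ) {x : G} (hx : x ∈ S.comp) (hxL : x ∉ L) (hinv : ¬ Commute x (ζ : G))
    {s : L} (hs : Inner s) :
    ((part2 L x s (zc ζ)).ncard = 0 ∧ (part2 L x s s).ncard = 16 ∧ (TypeB L → OneCoset L x)) ∨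
      ((part2 L x s (zc ζ)).ncard = 0 ∧ (part2 L x s s).ncard = 0 ∧ (∃ a : G, a * x⁻¹ ∈ L ∧ a * a = 1) ∧
        RootlessCoset L x) ∨
      (part2 L x s s).ncard + 16 ≤ (part2 L x s (zc ζ)).ncard := by
  let e := S.extEquiv x (S.comp_commute hx) (S.comp_sq hx)

  have hxi := (S.extFacts (S.comp_commute hx) (S.comp_sq hx) (S.comp_out hx hxL)).invert (e.symm s)
    (hs.map e.symm) (e.symm (ζ * ζ)) ((center_congr e.symm).2 S.zL_center)
    (fun h => S.zL_ne_one (e.symm.injective (h.trans (map_one _).symm)))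
    (by rw [← map_mul, S.zL_sq, map_one])
    ⟨⟨x, S.self_mem_ext _ _ _⟩, e.symm ζ, (center_congr e.symm).2 S.zeta_center,
      fun h => hinv (commute_of_conj_eq (show x * (ζ : G) * x⁻¹ = (ζ : G) from congrArg Subtype.val h))⟩
  have ez := (S.part_card hx hxL s (ζ * ζ)).1
  have es := (S.part_card hx hxL s s).1
  rcases hxi with ⟨a, b, c⟩ | ⟨a, b, ⟨y, hy, hyy⟩, d⟩ | h
  · refine .inl ⟨ez.trans a, es.trans b, fun hB p q hp hq hpp hqq => ?_⟩
    obtain ⟨n, hn⟩ := c (hB.map e.symm) ⟨p, .inr hp⟩ ⟨q, .inr hq⟩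
      (fun h => S.coset_notMem hxL hp h) (fun h => S.coset_notMem hxL hq h) (Subtype.ext hpp) (Subtype.ext hqq)
    exact ⟨e n, congrArg Subtype.val hn⟩
  · refine .inr (.inl ⟨ez.trans a, es.trans b, ⟨y, y.2.resolve_left fun h => hy h, congrArg Subtype.val hyy⟩, fun p hp hpp => ?_⟩)
    obtain ⟨m, hm, hmc, hml, -⟩ := d ⟨p, .inr hp⟩ (fun h => S.coset_notMem hxL hp h) (Subtype.ext hpp)
    refine ⟨e m, hm.map e, ?_, fun l hl hll => hml (e.symm l) (Subtype.ext hl.eq) ?_⟩
    · have h1 := Subgroup.mem_map_of_mem (S.ext x (S.comp_commute hx) (S.comp_sq hx)).subtype hmc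
      rw [MonoidHom.map_closure] at h1
      refine closure_mono ?_ h1
      rintro _ ⟨_, ⟨c, hc, rfl⟩, rfl⟩
      exact ⟨c, congrArg Subtype.val hc.eq, rfl⟩
    · rw [← map_mul, hll, e.symm_apply_apply]
  · exact .inr (.inr ((congrArg (· + 16) es).trans_le (h.trans ez.symm.le)))

/-- The roots in `L` itself. -/
theorem inner_part (S : Setting L ζ) {s : L} (hs : Inner s) :
    (part2 L 1 s (zc ζ)).ncard = 24 ∧ (part2 L 1 s s).ncard = 8 ∧
      (part4 L 1 s (zc ζ)).ncard = 32 ∧ (part4 L 1 s s).ncard = 0 := by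
  have h2 : ∀ w : L, (part2 L 1 s w).ncard = {v : L | v ∈ StdON.cent s ∧ v * v = w}.ncard := by
    intro w
    rw [← Set.ncard_image_of_injective _ Subtype.val_injective]
    congr 1
    ext t
    constructor
    · rintro ⟨ht, hc, hw⟩
      rw [inv_one, mul_one] at ht
      exact ⟨⟨t, ht⟩, ⟨mem_cent_iff.2 hc, Subtype.ext hw⟩, rfl⟩
    · rintro ⟨v, ⟨hc, hw⟩, rfl⟩
      exact ⟨by simp, mem_cent_iff.1 hc, congrArg Subtype.val hw⟩
  have h4 : ∀ w : L, (part4 L 1 s w).ncard = {v : L | v ∈ StdON.cent s ∧ v * v * (v * v) = w}.ncard := by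
    intro w
    rw [← Set.ncard_image_of_injective _ Subtype.val_injective]
    congr 1
    ext t
    constructor
    · rintro ⟨ht, hc, hw⟩
      rw [inv_one, mul_one] at ht
      exact ⟨⟨t, ht⟩, ⟨mem_cent_iff.2 hc, Subtype.ext hw⟩, rfl⟩
    · rintro ⟨v, ⟨hc, hw⟩, rfl⟩
      exact ⟨by simp, mem_cent_iff.1 hc, congrArg Subtype.val hw⟩
  obtain ⟨a, b, c, d⟩ := S.lfacts.root_values s hs (ζ * ζ) S.zL_center S.zL_ne_one S.zL_sq
  rw [← h2] at a b
  rw [← h4] at c d
  exact ⟨a, b, c, d⟩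

end Setting

end CfsgLib.StdON
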