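import Cfsg.Agent.Lib.StdON.Ext
import Cfsg.Agent.Lib.Invol.ZStarFinal

/-!
# The central involution is fused to an inner involution

By Glauberman's theorem `z` has a conjugate commuting with it. An extension argument makes its action inner, and
tight embedding puts it into `L`; then `z` can be exchanged with every inner involution.
-/

set_option autoImplicit false

universe u

namespace CfsgLib.StdON

open Subgroup

variable {G : Type u} [Group G] {L : Subgroup G}

theorem conj_commute (g : G) {a b : G} (h : Commute a b) : Commute (g * a * g⁻¹) (g * b * g⁻¹) := by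
  have e := h.map (MulAut.conj g).toMonoidHom
  simpa [mul_assoc] using e

theorem commute_back (g : G) {a b : G} (h : Commute a (g * b * g⁻¹)) : Commute (g⁻¹ * a * g) b := by
  have e := conj_commute g⁻¹ h
  simpa [mul_assoc] using e

/-- A conjugate of `z` commuting with it and different from it. -/
def Pair (ζ : L) (g : G) : Prop := Commute (g * zc ζ * g⁻¹) (zc ζ) ∧ ¬ Commute g (zc ζ)

variable {ζ : L}

theorem Pair.inv {g : G} (h : Pair ζ g) : Pair ζ g⁻¹ := by
  refine ⟨?_, fun e => h.2 ?_⟩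
  · have e := conj_commute g⁻¹ h.1.symm
    simpa [mul_assoc] using e
  · simpa using e.inv_left

theorem commute_of_conj_eq {g a : G} (h : g * a * g⁻¹ = a) : Commute g a := mul_inv_eq_iff_eq_mul.1 h

namespace Setting

theorem conj_sq (S : Setting L ζ) (g : G) : g * zc ζ * g⁻¹ * (g * zc ζ * g⁻¹) = 1 := by
  rw [show g * zc ζ * g⁻¹ * (g * zc ζ * g⁻¹) = g * (zc ζ * zc ζ) * g⁻¹ by group, S.zsq]
  group

/-- A moved `z` does not centralise `L`. -/
theorem not_cent (S : Setting L ζ) {g : G} (hg : ¬ Commute g (zc ζ)) :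
    g * zc ζ * g⁻¹ ∉ centralizer (L : Set G) := fun h => hg (S.tight g _ S.z_cent h S.zsq S.zne)

variable [Finite G]

/-- An involution of the centraliser of `L` other than `z` is not moved with `z` to inner elements. -/
theorem kill (S : Setting L ζ) {g k : G} (hk : k ∈ centralizer (L : Set G)) (h2 : k * k = 1) (h1 : k ≠ 1)
    (hkz : k ≠ zc ζ) (hg : ¬ Commute g (zc ζ)) (hzi : g * zc ζ * g⁻¹ ∈ LK L) (hki : g * k * g⁻¹ ∈ LK L) :
    False := by
  have hkk : g * k * g⁻¹ * (g * k * g⁻¹) = 1 := by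
    rw [show g * k * g⁻¹ * (g * k * g⁻¹) = g * (k * k) * g⁻¹ by group, h2]; group
  rcases S.invol_LK hki hkk with h | ⟨s1, hs1, k1, hk1, -, e1⟩
  · exact hg (S.tight g k hk h h2 h1)
  rcases S.invol_LK hzi (S.conj_sq g) with h | ⟨s2, hs2, k2, hk2, -, e2⟩
  · exact S.not_cent hg h
  have hsub : ∀ c ∈ cent s1, Commute (c : G) s2 := by
    intro c hc
    have hck : Commute (c : G) (g * k * g⁻¹) := by
      rw [e1]; exact (mem_cent_iff.1 hc).mul_right (commute_L hk1 c)
    have hc1 := commute_back g hck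
    have hcz : Commute (g⁻¹ * c * g) (zc ζ) := S.tight _ k hk (by rw [hc1.eq, mul_inv_cancel_right]; exact hk) h2 h1
    have hce : Commute (c : G) (g * zc ζ * g⁻¹) := by
      have e := conj_commute g hcz
      simpa [mul_assoc] using e
    rw [e2] at hce
    have e := hce.mul_right (commute_L hk2 c).inv_right
    rwa [mul_inv_cancel_right] at e
  rcases S.lfacts.centre_cent s1 hs1 s2 (fun c hc => Subtype.ext (hsub c hc).eq.symm) with h | h
  · exact hs2.2 h
  have h' : s1 * s2 ∈ Subgroup.center L := by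
    have e : s1 * s2 = (s2 * s1)⁻¹ := by
      rw [_root_.mul_inv_rev, inv_eq_of_mul_eq_one_left hs1.1, inv_eq_of_mul_eq_one_left hs2.1]
    rw [e]; exact inv_mem h
  have hkz' : Commute k (zc ζ) := (commute_L hk (ζ * ζ)).symm
  refine hg (S.tight g (k * zc ζ) (mul_mem hk S.z_cent) ?_ ?_ fun e => hkz ?_)
  · rw [show g * (k * zc ζ) * g⁻¹ = g * k * g⁻¹ * (g * zc ζ * g⁻¹) by group, e1, e2,
      show (s1 : G) * k1 * (s2 * k2) = s1 * (k1 * s2) * k2 by group, ← (commute_L hk1 s2).eq,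
      show (s1 : G) * (s2 * k1) * k2 = ((s1 * s2 : L) : G) * (k1 * k2) by rw [Subgroup.coe_mul]; group]
    exact mul_mem (center_mem_cent h') (mul_mem hk1 hk2)
  · calc k * zc ζ * (k * zc ζ) = k * (zc ζ * k) * zc ζ := by group
      _ = k * k * (zc ζ * zc ζ) := by rw [← hkz'.eq]; group
      _ = 1 := by rw [h2, S.zsq, one_mul]
  · rw [eq_inv_of_mul_eq_one_left e, S.zinv]

/-- A moved `z` acting innerly has its backward conjugate acting innerly. -/
theorem back_inner (S : Setting L ζ) {g : G} (he : g * zc ζ * g⁻¹ ∈ LK L) : g⁻¹ * zc ζ * g ∈ LK L := by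
  obtain ⟨l, k, hk, e⟩ := he
  have hc : Commute (ζ : G) (g * zc ζ * g⁻¹) := by
    rw [e]
    exact (show Commute (ζ : G) l from (commute_L S.zeta_cent l).symm).mul_right (commute_L hk ζ)
  have h := S.sq_mem (commute_back g hc)
  rwa [show g⁻¹ * (ζ : G) * g * (g⁻¹ * ζ * g) = g⁻¹ * ((ζ : G) * ζ) * g by group] at h

/-- A moved `z` acting innerly is an inner involution of `L`. -/
theorem inner_pair (S : Setting L ζ) {g : G} (hg : Pair ζ g) (he : g * zc ζ * g⁻¹ ∈ LK L) :
    ∃ s : L, Inner s ∧ (s : G) = g * zc ζ * g⁻¹ := by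
  rcases S.invol_LK he (S.conj_sq g) with h | ⟨s, hs, k, hk, hkk, e⟩
  · exact absurd h (S.not_cent hg.2)
  by_cases hk1 : k = 1
  · exact ⟨s, hs, by rw [e, hk1, mul_one]⟩
  by_cases hkz : k = zc ζ
  · refine ⟨s * (ζ * ζ), ⟨?_, fun h => hs.2 ?_⟩, by rw [e, hkz, Subgroup.coe_mul]; rfl⟩
    · have hc : Commute s (ζ * ζ) := Subtype.ext (S.z_commute_L s).eq
      rw [hc.symm.mul_mul_mul_comm, hs.1, S.zL_sq, one_mul]
    · have := mul_mem h S.zL_center
      rwa [mul_assoc, S.zL_sq, mul_one] at this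
  exfalso
  have hz' := S.back_inner he
  have hki : g⁻¹ * k * g ∈ LK L := by
    have hcle : ∀ y ∈ centSquares s, g⁻¹ * (y : G) * g ∈ LK L := by
      intro y hy
      induction hy using Subgroup.closure_induction with
      | mem y hy =>
        obtain ⟨c, hc, rfl⟩ := hy
        have hce : Commute (c : G) (g * zc ζ * g⁻¹) := by
          rw [e]; exact (mem_cent_iff.1 hc).mul_right (commute_L hk c)
        have h := S.sq_mem (commute_back g hce)
        rwa [show g⁻¹ * (c : G) * g * (g⁻¹ * c * g) = g⁻¹ * ((c : G) * c) * g by group] at h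
      | one => simp
      | mul a b _ _ ha hb =>
        rw [Subgroup.coe_mul, show g⁻¹ * ((a : G) * b) * g = g⁻¹ * a * g * (g⁻¹ * b * g) by group]
        exact mul_mem ha hb
      | inv a _ ha =>
        rw [Subgroup.coe_inv, show g⁻¹ * (a : G)⁻¹ * g = (g⁻¹ * a * g)⁻¹ by group]
        exact inv_mem ha
    have hz : g⁻¹ * (g * zc ζ * g⁻¹) * g ∈ LK L := by
      rw [show g⁻¹ * (g * zc ζ * g⁻¹) * g = zc ζ by group]; exact z_mem_LK ζ
    have hks : k = (s : G)⁻¹ * (g * zc ζ * g⁻¹) := by rw [e, inv_mul_cancel_left]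
    rw [hks, show g⁻¹ * ((s : G)⁻¹ * (g * zc ζ * g⁻¹)) * g = (g⁻¹ * s * g)⁻¹ * (g⁻¹ * (g * zc ζ * g⁻¹) * g) by group]
    exact mul_mem (inv_mem (hcle s (S.lfacts.mem_squares s hs))) hz
  exact S.kill hk hkk hk1 hkz hg.inv.2 (by rwa [inv_inv]) (by rwa [inv_inv])

variable [IsSimpleGroup G]

/-- Some conjugate of `z` commutes with it and differs from it. -/
theorem exists_pair (S : Setting L ζ) : ∃ g, Pair ζ g := by
  by_contra hno
  have ho : orderOf (zc ζ) = 2 := orderOf_eq_prime (hp := ⟨Nat.prime_two⟩) (by rw [pow_two]; exact S.zsq) S.zne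
  have hcz : zc ζ ∈ Subgroup.center G := by
    refine Invol.zstar_center ⟨ho, fun g hg => ?_⟩ ?_
    · by_contra hne
      exact hno ⟨g, hg.symm, fun e => hne (by rw [e.eq, mul_inv_cancel_right])⟩
    · rcases (inferInstance : (Cfsg.oddCore G).Normal).eq_bot_or_eq_top with e | e
      · exact e
      · exfalso
        have h1 : Odd (Nat.card (Cfsg.oddCore G)) := Cores.odd_card_oddCore
        rw [e, Subgroup.card_top] at h1
        exact (Nat.not_even_iff_odd.2 h1) (even_iff_two_dvd.2 (ho ▸ orderOf_dvd_natCard _))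
  rcases (inferInstance : (Subgroup.center G).Normal).eq_bot_or_eq_top with e | e
  · rw [e, Subgroup.mem_bot] at hcz
    exact S.zne hcz
  · exact S.ncomm ⟨⟨fun a b => Subgroup.mem_center_iff.1 (e ▸ Subgroup.mem_top b : b ∈ Subgroup.center G) a⟩⟩

/-- Some moved `z` lies in `L`. -/
theorem exists_inner_pair (S : Setting L ζ) : ∃ g, Pair ζ g ∧ g * zc ζ * g⁻¹ ∈ LK L := by
  obtain ⟨g, hg⟩ := S.exists_pair
  by_cases he : g * zc ζ * g⁻¹ ∈ LK L
  · exact ⟨g, hg, he⟩
  rcases eq_or_ne (g * zc ζ * g⁻¹ * ζ * (g * zc ζ * g⁻¹)⁻¹) (ζ : G) with hc | hinv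
  · refine ⟨g⁻¹, hg.inv, ?_⟩
    have h := S.sq_mem (commute_back g (commute_of_conj_eq hc).symm)
    rw [inv_inv]
    rwa [show g⁻¹ * (ζ : G) * g * (g⁻¹ * ζ * g) = g⁻¹ * ((ζ : G) * ζ) * g by group] at h
  obtain ⟨m, hm, hmc, n, hn⟩ := S.outer_pair hg.1 (S.conj_sq g) he hinv
  have hmi : g⁻¹ * (m : G) * g ∈ LK L := by
    clear hn hm
    generalize (m : G) = y at hmc ⊢
    induction hmc using Subgroup.closure_induction with
    | mem y hy =>
      obtain ⟨c, hc, rfl⟩ := hy
      have h := S.sq_mem (commute_back g hc)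
      rwa [show g⁻¹ * c * g * (g⁻¹ * c * g) = g⁻¹ * (c * c) * g by group] at h
    | one => simp
    | mul a b _ _ ha hb =>
      rw [show g⁻¹ * (a * b) * g = g⁻¹ * a * g * (g⁻¹ * b * g) by group]
      exact mul_mem ha hb
    | inv a _ ha =>
      rw [show g⁻¹ * a⁻¹ * g = (g⁻¹ * a * g)⁻¹ by group]
      exact inv_mem ha
  have heq : (g⁻¹ * n * g) * zc ζ * (g⁻¹ * n * g)⁻¹ = zc ζ * (g⁻¹ * m * g) := by
    calc (g⁻¹ * n * g) * zc ζ * (g⁻¹ * n * g)⁻¹ = g⁻¹ * (n * (g * zc ζ * g⁻¹) * (n : G)⁻¹) * g := by group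
      _ = _ := by rw [hn]; group
  have hin : (g⁻¹ * n * g) * zc ζ * (g⁻¹ * n * g)⁻¹ ∈ LK L := by
    rw [heq]; exact mul_mem (z_mem_LK ζ) hmi
  refine ⟨g⁻¹ * n * g, ⟨S.LK_commute hin, fun hc => inner_ne_one hm ?_⟩, hin⟩
  rw [hc.eq, mul_inv_cancel_right, eq_comm, mul_eq_left] at heq
  have h := congrArg (fun y => g * y * g⁻¹) heq
  simpa [mul_assoc] using h

/-- An element of `L` commuting with an inner conjugate of `z` can exchange it with `z`. -/
theorem exists_swap (S : Setting L ζ) {s : L} (hs : Inner s) :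
    ∃ h : G, h * zc ζ * h⁻¹ = s ∧ h * s * h⁻¹ = zc ζ := by
  obtain ⟨g, hg, he⟩ := S.exists_inner_pair
  obtain ⟨a, ha, hae⟩ := S.inner_pair hg he
  obtain ⟨b, hb, hbe⟩ := S.inner_pair hg.inv (by rw [inv_inv]; exact S.back_inner he)
  rw [inv_inv] at hbe
  obtain ⟨p, hp⟩ := S.lfacts.one_class a s ha hs
  obtain ⟨q, hq⟩ := S.lfacts.one_class s b hs hb
  have hp' : (p : G) * a * (p : G)⁻¹ = s := congrArg Subtype.val hp
  have hq' : (q : G) * s * (q : G)⁻¹ = b := congrArg Subtype.val hq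
  refine ⟨p * g * q, ?_, ?_⟩
  · calc (p : G) * g * q * zc ζ * ((p : G) * g * q)⁻¹ = p * (g * ((q : G) * zc ζ * (q : G)⁻¹) * g⁻¹) * (p : G)⁻¹ := by
          group
      _ = _ := by rw [(S.z_commute_L q).eq, mul_inv_cancel_right, ← hae, hp']
  · calc (p : G) * g * q * s * ((p : G) * g * q)⁻¹ = p * (g * ((q : G) * s * (q : G)⁻¹) * g⁻¹) * (p : G)⁻¹ := by
          group
      _ = p * (g * (g⁻¹ * zc ζ * g) * g⁻¹) * (p : G)⁻¹ := by rw [hq', hbe]
      _ = p * zc ζ * (p : G)⁻¹ := by group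
      _ = _ := by rw [(S.z_commute_L p).eq, mul_inv_cancel_right]

/-- There is an inner involution. -/
theorem exists_inner (S : Setting L ζ) : ∃ s : L, Inner s := by
  obtain ⟨g, hg, he⟩ := S.exists_inner_pair
  obtain ⟨a, ha, -⟩ := S.inner_pair hg he
  exact ⟨a, ha⟩

/-- An element exchanging `z` with an inner involution does not commute with `z`. -/
theorem swap_not_commute (S : Setting L ζ) {s : L} (hs : Inner s) {h : G} (h1 : h * zc ζ * h⁻¹ = s) :
    ¬ Commute h (zc ζ) := fun e => hs.2 (by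
  rw [e.eq, mul_inv_cancel_right] at h1
  rw [show s = ζ * ζ from Subtype.ext h1.symm]
  exact S.zL_center)

end Setting

end CfsgLib.StdON
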