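import Cfsg.Agent.Lib.StdON.Basic
import Mathlib.GroupTheory.SpecificGroups.Cyclic

/-!
# A standard subgroup 4.L3(4): the setting

`Setting` is what is used of the standard subgroup `L`, with a generator `ζ` of its centre; `z` is the square of
`ζ`. `LK L` is the product of `L` and its centraliser, that is the elements acting on `L` by inner automorphisms.
-/

set_option autoImplicit false

universe u

namespace CfsgLib.StdON

open Subgroup

variable {G : Type u} [Group G] {L : Subgroup G}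

/-- The central involution. -/
def zc (ζ : L) : G := (ζ : G) * ζ

/-- The product of a subgroup and its centraliser. -/
def LK (L : Subgroup G) : Subgroup G where
  carrier := {x | ∃ l : L, ∃ k ∈ centralizer (L : Set G), x = l * k}
  mul_mem' := by
    rintro x y ⟨l, k, hk, rfl⟩ ⟨l', k', hk', rfl⟩
    refine ⟨l * l', k * k', mul_mem hk hk', ?_⟩
    have e : k * (l' : G) = l' * k := (mem_centralizer_iff.1 hk l' l'.2).symm
    rw [Subgroup.coe_mul, mul_assoc, ← mul_assoc k, e]
    group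
  one_mem' := ⟨1, 1, one_mem _, by simp⟩
  inv_mem' := by
    rintro x ⟨l, k, hk, rfl⟩
    refine ⟨l⁻¹, k⁻¹, inv_mem hk, ?_⟩
    have e : Commute ((l⁻¹ : L) : G) k⁻¹ :=
      mem_centralizer_iff.1 (inv_mem hk) _ (l⁻¹).2
    rw [_root_.mul_inv_rev, ← Subgroup.coe_inv, e.eq]

theorem le_LK (l : L) : (l : G) ∈ LK L := ⟨l, 1, one_mem _, by simp⟩

theorem cent_le_LK {k : G} (hk : k ∈ centralizer (L : Set G)) : k ∈ LK L := ⟨1, k, hk, by simp⟩

/-- An element of the centraliser of `L` commutes with `L`. -/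
theorem commute_L {k : G} (hk : k ∈ centralizer (L : Set G)) (l : L) : Commute (l : G) k :=
  mem_centralizer_iff.1 hk l l.2

theorem center_mem_cent {c : L} (hc : c ∈ Subgroup.center L) : (c : G) ∈ centralizer (L : Set G) :=
  mem_centralizer_iff.2 fun l hl => congrArg Subtype.val (Subgroup.mem_center_iff.1 hc ⟨l, hl⟩)

theorem meet {l : L} (hl : (l : G) ∈ centralizer (L : Set G)) : l ∈ Subgroup.center L :=
  Subgroup.mem_center_iff.2 fun a => Subtype.ext (mem_centralizer_iff.1 hl a a.2)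

theorem mem_cent_iff {s c : L} : c ∈ cent s ↔ Commute (c : G) (s : G) :=
  mem_centralizer_singleton_iff.trans ⟨fun h => congrArg Subtype.val h, fun h => Subtype.ext h⟩

theorem inner_coe {s : L} (hs : Inner s) : (s : G) * s = 1 := congrArg Subtype.val hs.1

theorem inner_ne_one {s : L} (hs : Inner s) : (s : G) ≠ 1 := fun e => hs.2 (by
  rw [show s = 1 from Subtype.ext e]; exact one_mem _)

/-- What is used of the standard subgroup. -/
structure Setting (L : Subgroup G) (ζ : L) : Prop where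
  four : IsFour L
  gen : Subgroup.zpowers ζ = Subgroup.center L
  ord : orderOf ζ = 4
  cnorm : ∀ x : G, Commute x (zc ζ) → x ∈ normalizer (L : Set G)
  tight : ∀ g k : G, k ∈ centralizer (L : Set G) → g * k * g⁻¹ ∈ centralizer (L : Set G) →
    k * k = 1 → k ≠ 1 → Commute g (zc ζ)
  ncomm : ¬ IsMulCommutative G
  lfacts : LFacts L
  afacts : AutFacts L
  efacts : ∀ (H : Type u) [Group H] [Finite H] (N : Subgroup H) [N.Normal], IsExt N → ExtFacts N

namespace Setting

variable {ζ : L}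

theorem zeta_center (S : Setting L ζ) : ζ ∈ Subgroup.center L := S.gen ▸ mem_zpowers ζ

theorem zeta_four (S : Setting L ζ) : ζ ^ 4 = 1 := S.ord ▸ pow_orderOf_eq_one ζ

theorem z_coe (ζ : L) : zc ζ = ((ζ * ζ : L) : G) := rfl

theorem zsq (S : Setting L ζ) : zc ζ * zc ζ = 1 := by
  rw [z_coe, ← Subgroup.coe_mul, show ζ * ζ * (ζ * ζ) = ζ ^ 4 by simp [pow_succ, mul_assoc], S.zeta_four]
  rfl

theorem zL_ne_one (S : Setting L ζ) : ζ * ζ ≠ 1 := fun h => by
  have h2 : orderOf ζ ∣ 2 := orderOf_dvd_of_pow_eq_one (by rw [pow_two]; exact h)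
  rw [S.ord] at h2
  norm_num at h2

theorem zne (S : Setting L ζ) : zc ζ ≠ 1 := fun h => S.zL_ne_one (Subtype.ext h)

theorem zinv (S : Setting L ζ) : (zc ζ)⁻¹ = zc ζ := inv_eq_of_mul_eq_one_left S.zsq

theorem zL_center (S : Setting L ζ) : ζ * ζ ∈ Subgroup.center L := mul_mem S.zeta_center S.zeta_center

theorem zL_sq (S : Setting L ζ) : ζ * ζ * (ζ * ζ) = 1 := Subtype.ext S.zsq

theorem z_cent (S : Setting L ζ) : zc ζ ∈ centralizer (L : Set G) := center_mem_cent S.zL_center

theorem zeta_cent (S : Setting L ζ) : (ζ : G) ∈ centralizer (L : Set G) := center_mem_cent S.zeta_center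

theorem z_mem_LK (ζ : L) : zc ζ ∈ LK L := le_LK (ζ * ζ)

theorem center_cases (S : Setting L ζ) {c : L} (hc : c ∈ Subgroup.center L) :
    c = 1 ∨ c = ζ ∨ c = ζ * ζ ∨ c = ζ⁻¹ := by
  rw [← S.gen] at hc
  obtain ⟨i, rfl⟩ := Subgroup.mem_zpowers_iff.1 hc
  rw [← zpow_mod_orderOf, S.ord]
  rcases (by omega : i % 4 = 0 ∨ i % 4 = 1 ∨ i % 4 = 2 ∨ i % 4 = 3) with h | h | h | h <;>
    rw [show ((4 : ℕ) : ℤ) = 4 from rfl, h]
  · exact .inl (zpow_zero _)
  · exact .inr (.inl (zpow_one _))
  · exact .inr (.inr (.inl (zpow_two _)))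
  · refine .inr (.inr (.inr (eq_inv_of_mul_eq_one_left ?_)))
    rw [show (3 : ℤ) = ((3 : ℕ) : ℤ) from rfl, zpow_natCast, ← pow_succ, S.zeta_four]

/-- The involution of the centre. -/
theorem center_invol (S : Setting L ζ) {c : L} (hc : c ∈ Subgroup.center L) (h2 : c * c = 1) :
    c = 1 ∨ c = ζ * ζ := by
  rcases S.center_cases hc with e | e | e | e
  · exact .inl e
  · exact absurd (e ▸ h2) S.zL_ne_one
  · exact .inr e
  · refine absurd ?_ S.zL_ne_one
    rw [e, ← _root_.mul_inv_rev, inv_eq_one] at h2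
    exact h2

theorem z_commute_L (S : Setting L ζ) (l : L) : Commute (l : G) (zc ζ) := commute_L S.z_cent l

theorem LK_commute (S : Setting L ζ) {x : G} (hx : x ∈ LK L) : Commute x (zc ζ) := by
  obtain ⟨l, k, hk, rfl⟩ := hx
  exact (S.z_commute_L l).mul_left (commute_L hk (ζ * ζ)).symm

/-- Conjugation of `L` by an element commuting with `z`, as an automorphism. -/
def conjL (S : Setting L ζ) (x : G) (hx : Commute x (zc ζ)) : MulAut L where
  toFun l := ⟨x * l * x⁻¹, (Subgroup.mem_normalizer_iff.1 (S.cnorm x hx) l).1 l.2⟩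
  invFun l := ⟨x⁻¹ * l * x⁻¹⁻¹, (Subgroup.mem_normalizer_iff.1 (S.cnorm x⁻¹ hx.inv_left) l).1 l.2⟩
  left_inv l := Subtype.ext (by simp [mul_assoc])
  right_inv l := Subtype.ext (by simp [mul_assoc])
  map_mul' a b := Subtype.ext (by simp [mul_assoc])

theorem conjL_coe (S : Setting L ζ) (x : G) (hx : Commute x (zc ζ)) (l : L) :
    ((S.conjL x hx l : L) : G) = x * l * x⁻¹ := rfl

/-- The elements commuting with `z` normalise the centraliser of `L`. -/
theorem conj_cent (S : Setting L ζ) {x k : G} (hx : Commute x (zc ζ)) (hk : k ∈ centralizer (L : Set G)) :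
    x * k * x⁻¹ ∈ centralizer (L : Set G) := by
  refine mem_centralizer_iff.2 fun l hl => ?_
  have e := (commute_L hk (S.conjL x⁻¹ hx.inv_left ⟨l, hl⟩)).map (MulAut.conj x).toMonoidHom
  rw [conjL_coe] at e
  simpa [mul_assoc] using e.eq

/-- The elements commuting with `z` act on the centre of `L` by inversion or trivially. -/
theorem conj_zeta (S : Setting L ζ) {x : G} (hx : Commute x (zc ζ)) :
    x * (ζ : G) * x⁻¹ = ζ ∨ x * (ζ : G) * x⁻¹ = (ζ : G)⁻¹ := by
  have hc : S.conjL x hx ζ ∈ Subgroup.center L := by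
    rw [Subgroup.mem_center_iff]
    intro a
    obtain ⟨b, rfl⟩ := (S.conjL x hx).surjective a
    rw [← map_mul, ← map_mul, Subgroup.mem_center_iff.1 S.zeta_center b]
  have ho : orderOf (S.conjL x hx ζ) = 4 := (MulEquiv.orderOf_eq _ _).trans S.ord
  rcases S.center_cases hc with e | e | e | e
  · rw [e, orderOf_one] at ho; omega
  · exact .inl (congrArg Subtype.val e)
  · have h2 : orderOf (S.conjL x hx ζ) ∣ 2 := orderOf_dvd_of_pow_eq_one (by rw [e, pow_two, S.zL_sq])
    rw [ho] at h2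
    norm_num at h2
  · exact .inr (congrArg Subtype.val e)

/-- The inner action is that of `LK`. -/
theorem inner_iff (S : Setting L ζ) {x : G} (hx : Commute x (zc ζ)) :
    IsInnerAut (S.conjL x hx) ↔ x ∈ LK L := by
  constructor
  · rintro ⟨l, hl⟩
    refine ⟨l, (l : G)⁻¹ * x, mem_centralizer_iff.2 fun m hm => ?_, (mul_inv_cancel_left _ _).symm⟩
    have e : x * m * x⁻¹ = l * m * (l : G)⁻¹ := by
      have := congrArg Subtype.val (DFunLike.congr_fun hl ⟨m, hm⟩)
      simpa [conjL_coe] using this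
    calc m * ((l : G)⁻¹ * x) = (l : G)⁻¹ * (l * m * (l : G)⁻¹) * x := by group
      _ = (l : G)⁻¹ * x * m := by rw [← e]; group
  · rintro ⟨l, k, hk, rfl⟩
    refine ⟨l, MulEquiv.ext fun m => Subtype.ext ?_⟩
    rw [conjL_coe, _root_.mul_inv_rev, MulAut.conj_apply, Subgroup.coe_mul, Subgroup.coe_mul, Subgroup.coe_inv]
    calc (l : G) * k * m * (k⁻¹ * (l : G)⁻¹) = l * (k * m) * k⁻¹ * (l : G)⁻¹ := by group
      _ = _ := by rw [← (commute_L hk m).eq]; group

theorem sq_mem (S : Setting L ζ) {x : G} (hx : Commute x (zc ζ)) : x * x ∈ LK L := by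
  refine (S.inner_iff (hx.mul_left hx)).1 ?_
  have e : S.conjL (x * x) (hx.mul_left hx) = S.conjL x hx * S.conjL x hx :=
    MulEquiv.ext fun m => Subtype.ext (by
      rw [MulAut.mul_apply, conjL_coe, conjL_coe, conjL_coe]; group)
  rw [e]
  exact S.afacts.sq_inner _

theorem odd_mem (S : Setting L ζ) {x : G} (hx : Commute x (zc ζ)) (ho : Odd (orderOf x)) : x ∈ LK L := by
  obtain ⟨j, hj⟩ := ho
  have e : x = (x * x) ^ (j + 1) := by
    rw [← pow_two, ← pow_mul, show 2 * (j + 1) = 2 * j + 1 + 1 by ring, ← hj, pow_succ, pow_orderOf_eq_one, one_mul]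
  rw [e]
  exact pow_mem (S.sq_mem hx) _

theorem conj_LK (S : Setting L ζ) {x y : G} (hx : Commute x (zc ζ)) (hy : y ∈ LK L) : x * y * x⁻¹ ∈ LK L := by
  obtain ⟨l, k, hk, rfl⟩ := hy
  refine ⟨S.conjL x hx l, x * k * x⁻¹, S.conj_cent hx hk, ?_⟩
  rw [conjL_coe]
  group

/-- An involution acting innerly is in the centraliser of `L` or the product of an inner involution with one. -/
theorem invol_LK (S : Setting L ζ) {x : G} (hx : x ∈ LK L) (h2 : x * x = 1) :
    x ∈ centralizer (L : Set G) ∨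
      ∃ s : L, Inner s ∧ ∃ k ∈ centralizer (L : Set G), k * k = 1 ∧ x = s * k := by
  obtain ⟨l, k, hk, rfl⟩ := hx
  have hl2 : l * l ∈ Subgroup.center L := by
    refine meet ?_
    have e : ((l * l : L) : G) = (k * k)⁻¹ := by
      refine eq_inv_of_mul_eq_one_left ?_
      rw [← h2, Subgroup.coe_mul]
      calc (l : G) * l * (k * k) = l * (l * k) * k := by group
        _ = l * (k * l) * k := by rw [(commute_L hk l).eq]
        _ = _ := by group
    rw [e]
    exact inv_mem (mul_mem hk hk)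
  rcases S.lfacts.lift l hl2 with hc | ⟨c, hc, hs⟩
  · exact .inl (mul_mem (center_mem_cent hc) hk)
  · have hc' : (c : G) ∈ centralizer (L : Set G) := center_mem_cent hc
    refine .inr ⟨l * c, hs, (c : G)⁻¹ * k, mul_mem (inv_mem hc') hk, ?_, ?_⟩
    · have e : Commute ((l * c : L) : G) ((c : G)⁻¹ * k) := commute_L (mul_mem (inv_mem hc') hk) _
      have hlc : ((l * c : L) : G) * ((c : G)⁻¹ * k) = l * k := by rw [Subgroup.coe_mul]; group
      calc (c : G)⁻¹ * k * ((c : G)⁻¹ * k)
          = ((l * c : L) : G) * ((l * c : L) : G) * ((c : G)⁻¹ * k * ((c : G)⁻¹ * k)) := by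
            rw [inner_coe hs, one_mul]
        _ = ((l * c : L) : G) * (((l * c : L) : G) * ((c : G)⁻¹ * k)) * ((c : G)⁻¹ * k) := by group
        _ = ((l * c : L) : G) * (((c : G)⁻¹ * k) * ((l * c : L) : G)) * ((c : G)⁻¹ * k) := by rw [e.eq]
        _ = ((l * c : L) : G) * ((c : G)⁻¹ * k) * (((l * c : L) : G) * ((c : G)⁻¹ * k)) := by group
        _ = 1 := by rw [hlc, h2]
    · rw [Subgroup.coe_mul]; group

end Setting

end CfsgLib.StdON
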